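/-
Certificate: the stable extension.
-/
import Mathlib
import Cfsg.Agent.H78.MulChev

set_option autoImplicit false
set_option maxRecDepth 100000

namespace Cfsg.Agent.H78.Mul.G24

open Cfsg.Lie Cfsg.Agent.H42 Cfsg.Agent.H46 Cfsg.Agent.H74 Cfsg.Agent.H37

/-- Tails of the full unipotent group. -/
def tT0 : List (List (List ℕ)) :=
  [[[], [], [4, 6, 8], [5, 6, 7, 8], [], [], [], [], [10], [11], [], []],
   [[], [5, 7, 9], [4, 5, 6, 9], [], [], [], [], [11], [10, 11], [], []],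
   [[], [], [8, 10], [9, 10, 11], [8], [9], [], [], [], []],
   [[], [8, 9, 11], [8, 10], [9], [8, 9], [], [], [], []],
   [[], [], [10], [11], [], [], [], []],
   [[], [11], [10, 11], [], [], [], []],
   [[], [], [], [], [], []],
   [[], [], [], [], []],
   [[], [], [], []],
   [[], [], []],
   [[], []],
   [[]]]

/-- Tails of the extension. -/
def tT : List (List (List ℕ)) :=
  [[[], [], [4, 6, 8], [5, 6, 7, 8], [], [], [], [], [10], [11, 12], [], [], []],
   [[], [5, 7, 9], [4, 5, 6, 9], [], [], [], [], [11, 12], [10, 11], [], [], []],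
   [[12], [12], [8, 10], [9, 10, 11], [8], [9], [], [], [], [], []],
   [[12], [8, 9, 11], [8, 10], [9], [8, 9], [], [], [], [], []],
   [[12], [12], [10], [11], [], [], [], [], []],
   [[12], [11], [10, 11], [], [], [], [], []],
   [[12], [12], [], [], [], [], []],
   [[12], [], [], [], [], []],
   [[], [], [], [], []],
   [[], [], [], []],
   [[], [], []],
   [[], []],
   [[]]]

/-- Images of the letters under the lifts. -/
def tI : List (List (List ℕ)) :=
  [[[8], [9], [], [], [6], [7], [4], [5], [0], [1], [10], [11], [12]],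
   [[], [], [4], [5], [2], [3], [6], [7], [10], [11], [8], [9], [12]],
   [[0], [1], [2, 3], [2], [4, 5], [4, 12], [7, 12], [6, 7], [8], [9], [10], [11], [12]],
   [[0, 1], [0], [2, 3], [2], [5, 12], [4, 5, 12], [6], [7], [8, 9], [8], [11], [10, 11], [12]]]

/-- Permutations of the roots. -/
def tP : List (List ℕ) :=
  [[0, 5, 3, 2, 7, 1, 10, 4, 9, 8, 6, 11],
   [1, 0, 2, 4, 3, 6, 5, 8, 7, 9, 11, 10],
   [0, 1, 2, 3, 4, 5, 6, 7, 8, 9, 10, 11],
   [0, 1, 2, 3, 4, 5, 6, 7, 8, 9, 10, 11]]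

/-- Signs. -/
def tC : List (List ℕ) :=
  [[1, 1, 1, 1, 1, 1, 1, 1, 1, 1, 1, 1],
   [1, 1, 1, 1, 1, 1, 1, 1, 1, 1, 1, 1],
   [1, 1, 1, 1, 1, 1, 1, 1, 1, 1, 1, 1],
   [1, 1, 1, 1, 1, 1, 1, 1, 1, 1, 1, 1]]

/-- Exponents. -/
def tK : List (List ℕ) :=
  [[0, 0, 0, 0, 0, 0, 0, 0, 0, 0, 0, 0],
   [0, 0, 0, 0, 0, 0, 0, 0, 0, 0, 0, 0],
   [0, 0, 2, 1, 1, 0, 0, 2, 2, 1, 0, 0],
   [2, 1, 0, 2, 1, 1, 2, 2, 1, 0, 2, 1]]

/-- The data. -/
noncomputable def dat : Dat where
  q := 1
  d := 2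
  N := 6
  n := 12
  m := 13
  ne := 4
  fuel := 400
  T0 := fun i j => getLL (getL3 tT0 i) (Nat.sub j i)
  T := fun i j => getLL (getL3 tT i) (Nat.sub j i)
  ld := getL [0, 1, 2, 3, 4, 5, 6, 7, 8, 9, 10, 11]
  gt := getLL [[], [], [], [], [], [], [], [], [], [], [], []]
  π := fun e => getL (getLL tP e)
  c := fun e => getL (getLL tC e)
  k := fun e => getL (getLL tK e)
  jb := fun e i => Nat.beq (Nat.mod (Nat.shiftRight (getL [8179, 8188, 8191, 8191] e) i) 2) 1
  img := fun e => getLL (getL3 tI e)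
  cc := fun j => getLL [[29]] (Nat.sub j 12)

theorem c0 : dat.chk0 chevG2 = true := by decide +kernel

theorem c1 : dat.chk1 = true := by decide +kernel

theorem c2 : allB (stepChk dat.q dat.m (mkR dat.T) dat.fuel) dat.m = true := by decide +kernel

theorem c3 : allB dat.chk3 dat.ne = true := by decide +kernel

end Cfsg.Agent.H78.Mul.G24
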