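/-
Certificate: the upper bound.
-/
import Mathlib
import Cfsg.Agent.H78.MulG24A

set_option autoImplicit false
set_option maxRecDepth 100000

namespace Cfsg.Agent.H78.Mul.G24

open Cfsg.Lie Cfsg.Agent.H42 Cfsg.Agent.H46 Cfsg.Agent.H74 Cfsg.Agent.H37

/-- Rules. -/
def cert_rule : List (List (List ℕ)) :=
  [[[], [1], [2, 4, 6, 8], [3, 5, 6, 7, 8], [4], [5], [6], [7], [8, 10], [9, 11], [10], [11]],
   [[], [], [2, 5, 7, 9], [3, 4, 5, 6, 9], [4], [5], [6], [7], [8, 11], [9, 10, 11], [10], [11]],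
   [[], [], [], [3], [4, 8, 10], [5, 9, 10, 11], [6, 8], [7, 9], [8], [9], [10], [11]],
   [[], [], [], [], [4, 8, 9, 11], [5, 8, 10], [6, 9], [7, 8, 9], [8], [9], [10], [11]],
   [[], [], [], [], [], [5], [6, 10], [7, 11], [8], [9], [10], [11]],
   [[], [], [], [], [], [], [6, 11], [7, 10, 11], [8], [9], [10], [11]],
   [[], [], [], [], [], [], [], [7], [8], [9], [10], [11]],
   [[], [], [], [], [], [], [], [], [8], [9], [10], [11]],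
   [[], [], [], [], [], [], [], [], [], [9], [10], [11]],
   [[], [], [], [], [], [], [], [], [], [], [10], [11]],
   [[], [], [], [], [], [], [], [], [], [], [], [11]],
   [[], [], [], [], [], [], [], [], [], [], [], []]]

/-- Fused subgroups. -/
def cert_fq : List (List (List ℕ)) :=
  [[[0], [1], [], [], [4], [5], [6], [7], [8], [9], [10], [11]],
   [[], [], [2], [3], [4], [5], [6], [7], [8], [9], [10], [11]]]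

/-- Their images. -/
def cert_fq' : List (List (List ℕ)) :=
  [[[8], [9], [], [], [6], [7], [4], [5], [0], [1], [10], [11]],
   [[], [], [4], [5], [2], [3], [6], [7], [10], [11], [8], [9]]]

/-- Rows. -/
def cert_sA : List Spec :=
  [⟨1, [0], [], 2, 1, 8191⟩,
   ⟨1, [1], [], 3, 1, 8191⟩,
   ⟨1, [2], [], 8, 1, 8191⟩,
   ⟨1, [3], [], 9, 1, 8191⟩,
   ⟨1, [4], [], 14, 1, 8191⟩,
   ⟨1, [5], [], 15, 1, 8191⟩,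
   ⟨1, [6], [], 28, 1, 8191⟩,
   ⟨1, [7], [], 29, 1, 8191⟩,
   ⟨1, [8], [], 0, 1, 8191⟩,
   ⟨1, [9], [], 13, 1, 8191⟩,
   ⟨1, [10], [], 26, 1, 8191⟩,
   ⟨1, [11], [], 39, 1, 8191⟩,
   ⟨0, [6], [4, 0], 10, 1, 8191⟩,
   ⟨3, [10, 0], [0, 10], 106, 1, 8191⟩,
   ⟨0, [8], [0, 0], 130, 1, 8191⟩,
   ⟨3, [8, 0], [0, 8, 10], 154, 1, 1⟩,
   ⟨0, [7], [4, 0], 11, 1, 8191⟩,
   ⟨3, [11, 0], [0, 11], 107, 1, 8191⟩,
   ⟨4, [11, 8], [8, 11], 118, 1, 1⟩,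
   ⟨3, [10, 1], [1, 10], 22, 1, 1⟩,
   ⟨0, [9], [0, 0], 143, 1, 8191⟩,
   ⟨0, [9], [9, 0], 119, 1, 1⟩,
   ⟨3, [11, 1], [1, 11], 23, 1, 1⟩,
   ⟨0, [8], [4, 0], 58, 1, 1⟩,
   ⟨3, [10, 4], [4, 10], 82, 1, 8191⟩,
   ⟨4, [8, 2], [2, 8], 32, 1, 1⟩,
   ⟨4, [8, 6], [6, 8], 80, 1, 1⟩,
   ⟨3, [4, 0], [0, 4], 4, 1, 1⟩,
   ⟨0, [9], [4, 0], 59, 1, 1⟩,
   ⟨3, [11, 4], [4, 11], 83, 1, 8191⟩,
   ⟨4, [9, 2], [2, 9], 33, 1, 1⟩,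
   ⟨4, [9, 6], [6, 9], 81, 1, 1⟩,
   ⟨3, [4, 1], [1, 4], 16, 1, 1⟩,
   ⟨0, [8], [5, 0], 70, 1, 1⟩,
   ⟨3, [10, 5], [5, 10], 94, 1, 8191⟩,
   ⟨4, [8, 3], [3, 8], 44, 1, 1⟩,
   ⟨4, [8, 7], [7, 8], 92, 1, 1⟩,
   ⟨3, [5, 0], [0, 5], 5, 1, 1⟩,
   ⟨0, [9], [5, 0], 71, 1, 1⟩,
   ⟨3, [11, 5], [5, 11], 95, 1, 8191⟩,
   ⟨4, [9, 3], [3, 9], 45, 1, 1⟩,
   ⟨4, [9, 7], [7, 9], 93, 1, 1⟩,
   ⟨3, [5, 1], [1, 5], 17, 1, 1⟩,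
   ⟨0, [11], [8, 0], 131, 1, 1⟩,
   ⟨4, [9, 8], [8, 9], 105, 1, 1⟩,
   ⟨3, [1, 0], [0, 1], 1, 1, 1⟩,
   ⟨3, [0, 0], [], 104, 1, 8191⟩,
   ⟨3, [1, 1], [], 117, 1, 8191⟩,
   ⟨4, [2, 2], [], 52, 1, 8191⟩,
   ⟨4, [3, 3], [], 65, 1, 8191⟩,
   ⟨3, [6, 0], [0, 6], 56, 1, 1⟩,
   ⟨3, [7, 0], [0, 7], 68, 1, 1⟩,
   ⟨3, [6, 1], [1, 6], 57, 1, 1⟩,
   ⟨3, [7, 1], [1, 7], 69, 1, 1⟩,
   ⟨3, [5, 4], [4, 5], 79, 1, 8191⟩,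
   ⟨4, [3, 2], [2, 3], 53, 1, 8191⟩,
   ⟨4, [10, 2], [2, 10], 34, 1, 1⟩,
   ⟨4, [11, 2], [2, 11], 35, 1, 1⟩,
   ⟨4, [10, 3], [3, 10], 46, 1, 1⟩,
   ⟨4, [11, 3], [3, 11], 47, 1, 1⟩,
   ⟨3, [9, 0], [0, 9, 11], 155, 1, 1⟩,
   ⟨0, [4], [2, 2], 6, 1, 1⟩,
   ⟨3, [9, 1], [1, 9, 10, 11], 20, 1, 8191⟩,
   ⟨0, [4], [2, 0], 54, 1, 8191⟩,
   ⟨4, [6, 2], [2, 6, 8], 164, 1, 1⟩,
   ⟨4, [6, 4], [4, 6, 10], 166, 1, 1⟩,
   ⟨0, [5], [5, 2], 19, 1, 8191⟩,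
   ⟨3, [4, 4], [], 78, 1, 8191⟩,
   ⟨3, [5, 5], [], 91, 1, 8191⟩,
   ⟨0, [8], [2, 1], 18, 1, 8191⟩,
   ⟨3, [7, 4], [4, 7, 11], 66, 1, 1⟩,
   ⟨4, [7, 2], [2, 7, 9], 165, 1, 1⟩,
   ⟨4, [7, 4], [4, 7, 11], 167, 1, 1⟩,
   ⟨0, [5], [3, 3], 7, 1, 1⟩,
   ⟨4, [4, 3], [3, 4, 8, 9, 11], 40, 1, 1⟩,
   ⟨0, [5], [2, 1], 67, 1, 8191⟩,
   ⟨0, [5], [3, 0], 55, 1, 1⟩,
   ⟨4, [6, 3], [3, 6, 9], 42, 1, 1⟩,
   ⟨4, [7, 3], [3, 7, 8, 9], 43, 1, 1⟩,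
   ⟨0, [6], [3, 0], 27, 1, 8191⟩,
   ⟨0, [2], [2, 0], 30, 1, 1⟩,
   ⟨0, [3], [1, 1], 21, 1, 5461⟩,
   ⟨0, [2], [2, 1], 31, 1, 1⟩,
   ⟨0, [3], [3, 0], 41, 1, 8191⟩]

/-- Rows. -/
def cert_sB : List Spec :=
  [⟨4, [6, 6], [], 162, 2, 8191⟩,
   ⟨4, [7, 7], [], 163, 2, 8191⟩,
   ⟨4, [4, 2], [2, 4, 8, 10], 144, 2, 8191⟩,
   ⟨3, [8, 8], [], 152, 2, 8191⟩,
   ⟨3, [6, 6], [], 150, 2, 8191⟩,
   ⟨3, [7, 7], [], 151, 2, 8191⟩,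
   ⟨3, [9, 9], [], 153, 2, 8191⟩,
   ⟨4, [4, 4], [], 160, 2, 8191⟩,
   ⟨4, [5, 5], [], 161, 2, 8191⟩,
   ⟨4, [9, 9], [], 145, 2, 4097⟩,
   ⟨0, [2], [0, 0], 148, 2, 4097⟩,
   ⟨0, [2], [1, 1], 149, 2, 8191⟩,
   ⟨0, [3], [0, 0], 159, 2, 8189⟩,
   ⟨0, [3], [2, 2], 158, 4, 2049⟩]

/-- Rows. -/
def cert_sC : List Spec :=
  [⟨4, [6, 6], [], 162, 2, 8191⟩,
   ⟨4, [7, 7], [], 163, 2, 8191⟩,
   ⟨4, [4, 2], [2, 4, 8, 10], 144, 2, 8191⟩,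
   ⟨3, [8, 8], [], 152, 2, 8191⟩,
   ⟨2, [0], [], 159, 2, 4097⟩,
   ⟨3, [6, 6], [], 150, 2, 8191⟩,
   ⟨3, [7, 7], [], 151, 2, 8191⟩,
   ⟨3, [9, 9], [], 153, 2, 8191⟩,
   ⟨4, [4, 4], [], 160, 2, 8191⟩,
   ⟨4, [5, 5], [], 161, 2, 8191⟩,
   ⟨4, [9, 9], [], 145, 2, 4097⟩,
   ⟨0, [2], [1, 1], 149, 2, 4097⟩,
   ⟨0, [2], [0, 0], 148, 2, 4097⟩,
   ⟨0, [3], [0, 0], 158, 2, 8191⟩]

/-- The certificate. -/
noncomputable def cert : Cert where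
  q := 1
  n := 12
  nf := 2
  b := 34
  M := 8192
  D := 2
  fuel := 83
  rule := fun i j => getLL (getL3 cert_rule i) j
  fq := fun i j => getLL (getL3 cert_fq i) j
  fq' := fun i j => getLL (getL3 cert_fq' i) j
  nrm := nrmM 34 168 13
  nri := getL [0, 0, 0, 0, 1, 1, 2, 2, 0, 1, 2, 3]
  nrj := getL [2, 3, 8, 9, 2, 3, 4, 5, 0, 1, 2, 3]
  B := getL [0x100000000000000000000000000000000000000000000000000000000000000000000, 0x40000000000000000000000000000000000000000000000000000000000000000000000000000, 0x10000000000000000000000000000000000000000000000000000000000000000000000000000000000000, 0x4000000000000000000000000000000000000000000000000000000000000000000000000000000000000000000000, 0x80000000000000000000001ffe000007ff800001ffe00000000800001ffe, 0x800001ffe000007ff800000000000007ff80000000000000000000000002,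 0x7ff8000000020000000000000000200000000800000000000007ff800000000, 0x200000000800001ffe00000000000001ffe00000000000001ffe, 0x1ffe000000000000000000000000000000000200000000000000000, 0x7ff800000000000000000000000000000000080000000200000000000000000, 0x1ffe00000000000000000, 0x7ff80000000000000000000000000]
  nU := 1
  U := getL [unitV 34 91 * 1]
  ord := getL [2]
  sA := cert_sA
  sB := cert_sB
  sC := cert_sC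

theorem cert_nrm : Nrm cert.b cert.R cert.M cert.nrm := by
  dsimp only [cert, Cert.R]
  exact (nrm_nrmM (b := 34) (R := 168) (v := 13) (by norm_num) : Nrm 34 168 (2 ^ 13) _)

theorem cert_chk : cert.chk 2 = true := by decide +kernel

theorem c5 : dat.chk5 cert = true := by decide +kernel

end Cfsg.Agent.H78.Mul.G24
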