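import Cfsg.Agent.H78.G40M
import Cfsg.Agent.S0246

/-! Project L40G (row S3140), part B: model facts and the three end games. -/

set_option autoImplicit false
set_option linter.unusedSectionVars false

noncomputable section

namespace Cfsg.Agent.H78.G40

open Subgroup Matrix Cfsg.Agent.H83 Cfsg.Agent.H46.L40 Cfsg.Agent.H28
open Cfsg.Agent.H46.S94 (Inn)

universe u

local notation "C[" A "]" => Subgroup.centralizer (SetLike.coe A)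
local notation "N[" A "]" => Subgroup.normalizer (SetLike.coe A)

theorem mk1_eq (x y : SL4) : mk1 x = mk1 y ↔ x.1 = y.1 ∨ x.1 = -y.1 := by
  rw [QuotientGroup.mk'_apply, QuotientGroup.mk'_apply, eq_comm, QuotientGroup.eq,
    Matrix.SpecialLinearGroup.mem_center_iff]
  have k : y.1 * (y⁻¹ * x).1 = x.1 := congrArg Subtype.val (mul_inv_cancel_left y x)
  have k2 : (y⁻¹).1 * y.1 = 1 := congrArg Subtype.val (inv_mul_cancel y)
  have k3 : (y⁻¹ * x).1 = (y⁻¹).1 * x.1 := rfl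
  constructor
  · rintro ⟨r, h, e⟩
    have hr : r = 1 ∨ r = -1 := by clear e; revert r; decide
    have e' : scalar (Fin 4) r = (y⁻¹ * x).1 := e
    rw [← e'] at k
    rcases hr with rfl | rfl
    · left; simpa using k.symm
    · right; rw [show scalar (Fin 4) (-1 : ZMod 3) = -1 by decide, mul_neg, mul_one] at k; exact k.symm
  · rintro (h | h)
    · exact ⟨1, by decide, by change _ = (y⁻¹ * x).1; rw [k3, h, k2]; simp⟩
    · exact ⟨-1, by decide, by change _ = (y⁻¹ * x).1; rw [k3, h, mul_neg, k2]; decide⟩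

def m6 : Sp6 := ⟨-1, by decide +kernel⟩

theorem cen2 (g : Sp6) : g ∈ center Sp6 ↔ g = 1 ∨ g = m6 := by
  have hm : m6 ∈ center Sp6 := mem_center_iff.2 fun g => Subtype.ext (by
    change g.1 * -1 = -1 * g.1; simp)
  refine ⟨fun h => ?_, fun h => by rcases h with rfl | rfl; exacts [one_mem _, hm]⟩
  have c : Nat.card (center Sp6) = 2 := Cfsg.Agent.S0246.result (F := ZMod 3) (q := 3) (by simp) 3 (by norm_num)
  obtain ⟨y, -, hy⟩ := (Nat.card_eq_two_iff' (1 : center Sp6)).1 c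
  by_cases h1 : g = 1
  · exact Or.inl h1
  · have e1 := hy ⟨g, h⟩ fun e => h1 (congrArg Subtype.val e)
    have e2 := hy ⟨m6, hm⟩ fun e => absurd (congrArg Subtype.val e) (show m6 ≠ 1 by decide +kernel)
    exact Or.inr (congrArg Subtype.val (e1.trans e2.symm))

theorem mk2_eq (x y : Sp6) : mk2 x = mk2 y ↔ x.1 = y.1 ∨ x.1 = -y.1 := by
  rw [QuotientGroup.mk'_apply, QuotientGroup.mk'_apply, eq_comm, QuotientGroup.eq, cen2,
    inv_mul_eq_one, inv_mul_eq_iff_eq_mul]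
  refine or_congr ⟨fun h => by rw [h], fun h => Subtype.ext h.symm⟩ ⟨fun h => ?_, fun h => Subtype.ext ?_⟩
  · rw [h]; change y.1 * -1 = _; simp
  · change _ = y.1 * -1; simp [h]

/-! ### abstract facts -/

section Facts
variable {X : Type} [Group X]

/-- `x ≡ 1` modulo the involution `z` -/
def Mz {H : Type u} [Group H] (z x : H) : Prop := x = 1 ∨ x = z

/-- named elements of the linear case -/
structure D1e (X : Type) where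
  q2 : X
  k2 : X
  sw : X
  v2 : X
  u : X
  y1 : X
  y2 : X

def Qa (e : S3 →* X) : Subgroup X := Subgroup.closure {e w0, e q0}
def Qb (σ : X) (D : D1e X) : Subgroup X := Subgroup.closure {σ, D.q2}
def Qq (e : S3 →* X) (σ : X) (D : D1e X) : Subgroup X := Subgroup.closure {e w0, e q0, σ, D.q2}
def Uq (e : S3 →* X) (σ : X) (D : D1e X) : Subgroup X := Subgroup.closure {e w0, e q0, σ, D.q2, D.sw}
def Tq (e : S3 →* X) (σ : X) (D : D1e X) : Subgroup X :=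
  Subgroup.closure {e w0, e q0, σ, D.q2, D.sw, e a0}

structure F1a (e : S3 →* X) (σ : X) (D : D1e X) : Prop where
  ca : Nat.card (Qa e) = 8
  cb : Nat.card (Qb σ D) = 8
  cq : Nat.card (Qq e σ D) = 32
  za : e z0 ∈ Qa e
  zb : e z0 ∈ Qb σ D
  ab : Qb σ D ≤ C[Qa e]
  sq : ∀ y ∈ Qq e σ D, Mz (e z0) (y * y)
  cm : ∀ x ∈ Qq e σ D, ∀ y ∈ Qq e σ D, Mz (e z0) (x * y * x⁻¹ * y⁻¹)
  o4 : ∀ y ∈ Qq e σ D, y * y = e z0 → y ∈ Qa e ∨ y ∈ Qb σ D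
  sa : ∀ y ∈ Qa e, Mz (e z0) y ∨ y * y = e z0
  sb : ∀ y ∈ Qb σ D, Mz (e z0) y ∨ y * y = e z0
  m2 : ∀ y ∈ Qq e σ D, IsConj (e z0) y → y = e z0

structure F1b (e : S3 →* X) (σ : X) (D : D1e X) : Prop where
  cu : Nat.card (Uq e σ D) = 64
  ct : Nat.card (Tq e σ D) = 128
  syl : IsSylowIn 2 (Tq e σ D) ⊤
  Tz : Tq e σ D ≤ Cz (e z0)
  aU : e a0 ∉ Uq e σ D
  sQ : D.sw ∉ Qq e σ D
  vQ : D.v2 ∉ Qq e σ D
  vs : D.v2 * D.sw * e a0 ∈ Qq e σ D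
  root : ∀ y ∈ Tq e σ D, y * y = e z0 → y ∈ Qq e σ D
  m1 : ∀ y ∈ Uq e σ D, IsConj (e z0) y → ¬ IsConj (e z0) (y * e z0)

structure F1c (e : S3 →* X) (σ : X) (D : D1e X) : Prop where
  zs : IsConj (e z0) D.sw
  zv : IsConj (e z0) D.v2
  y1T : D.y1 ∈ Tq e σ D
  y2T : D.y2 ∈ Tq e σ D
  r1 : D.y1 * D.y1 = D.u
  r2 : D.y2 * D.y2 = D.u
  nc : ¬ Mz D.u (D.y1 * D.y2 * D.y1⁻¹ * D.y2⁻¹)
  k1z : e x12 * e z0 = e z0 * e x12
  k2z : D.k2 * e z0 = e z0 * D.k2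
  k13 : e x12 ^ 3 = 1
  k23 : D.k2 ^ 3 = 1
  k1a : e x12 ∈ N[Qa e]
  k1b : e x12 ∈ C[Qb σ D]
  k2a : D.k2 ∈ C[Qa e]
  k2b : D.k2 ∈ N[Qb σ D]
  f1 : ∀ y ∈ Qa e, Mz (e z0) (e x12 * y * (e x12)⁻¹ * y⁻¹) → Mz (e z0) y
  f2 : ∀ y ∈ Qb σ D, Mz (e z0) (D.k2 * y * D.k2⁻¹ * y⁻¹) → Mz (e z0) y
  aa : e a0 ∈ N[Qa e]
  ab : e a0 ∈ N[Qb σ D]
  na : ∃ y ∈ Qa e, ¬ Mz (e z0) (e a0 * y * (e a0)⁻¹ * y⁻¹)
  nb : ∃ y ∈ Qb σ D, ¬ Mz (e z0) (e a0 * y * (e a0)⁻¹ * y⁻¹)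

def F1d (e : S3 →* X) (σ : X) (D : D1e X) : Prop := Cz (e z0) ≤ N[Qq e σ D]

structure F1e (e : S3 →* X) (τ : MulAut X) : Prop where
  c16 : Nat.card C[V0.map e] = 16
  el : ∀ y ∈ C[V0.map e], y * y = 1
  tv : ∀ y ∈ C[V0.map e], y⁻¹ * τ y ∈ V0.map e
  nt : ∃ y ∈ C[V0.map e], τ y ≠ y

def F1f (e : S3 →* X) (D : D1e X) : Prop :=
  ∀ x : X, x * x = 1 → x ≠ 1 → IsConj (e z0) x ∨ IsConj D.u x

/-- named elements of the symplectic case -/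
structure D2e (X : Type) where
  p : Fin 3 → X
  q : Fin 3 → X
  κ : Fin 3 → X
  zz : Fin 3 → X

def Qs (e : S3 →* X) (D : D2e X) (i : Fin 3) : Subgroup X := Subgroup.closure {D.p i, D.q i} ⊔ V0.map e
def As (D : D2e X) : Subgroup X := Subgroup.closure (Set.range D.p ∪ Set.range D.q)
def Ts (e : S3 →* X) (D : D2e X) : Subgroup X := As D ⊔ zpowers (e w0)

structure F2a (e : S3 →* X) (τ : MulAut X) (D : D2e X) : Prop where
  VA : V0.map e ≤ As D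
  AV : As D ≤ C[V0.map e]
  A2 : IsPGroup 2 (As D)
  sq : ∀ y ∈ As D, y * y ∈ V0.map e
  c16 : ∀ i, Nat.card (Qs e D i) = 16
  zV : ∀ i, D.zz i ∈ V0.map e
  chr : ∀ i, ∀ y ∈ As D, (∀ x ∈ As D, Mz (D.zz i) (y * x * y⁻¹ * x⁻¹)) ↔ y ∈ Qs e D i
  τp : ∀ i, τ (D.p i) = (D.p i)⁻¹
  τq : ∀ i, τ (D.q i) = D.p i * D.q i
  pV : ∀ i, D.p i ∉ V0.map e

structure F2b (e : S3 →* X) (D : D2e X) : Prop where
  κV : ∀ i, D.κ i ∈ C[V0.map e]
  κA : ∀ i, D.κ i ∈ N[As D]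
  κo : ∀ i, D.κ i ^ 3 = 1
  κ3 : ∀ i, ∀ y ∈ Qs e D i, D.κ i * y * (D.κ i)⁻¹ * y⁻¹ ∈ V0.map e → y ∈ V0.map e
  κc : ∀ i j, i ≠ j → ∀ y ∈ Qs e D j, D.κ i * y = y * D.κ i
  kb : ∃ b0 ∈ Qs e D 0, ∃ b1 ∈ Qs e D 1, b0 ∉ V0.map e ∧ b1 ∉ V0.map e ∧
    e y8 * (b0 * b1) * (e y8)⁻¹ ∈ As D
  kp : e y8 * D.p 2 * (e y8)⁻¹ ∈ As D

structure F2c (e : S3 →* X) (D : D2e X) : Prop where
  two : ∀ y ∈ C[V0.map e], Two y → y ∈ As D
  cA : ∀ y ∈ C[As D], Two y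

/-- every class of involutions other than that of `z` has a representative fixed by `τ` -/
def ClZ (e : S3 →* X) (τ : MulAut X) : Prop :=
  ∀ x : X, x * x = 1 → x ≠ 1 → IsConj (e z0) x ∨
    ∃ j, IsConj j x ∧ τ j = j ∧ ∀ S, IsSylowIn 2 S ⊤ → ¬ S ≤ Cz j

structure F3a (e : S3 →* X) : Prop where
  two : IsPGroup 2 C[V0.map e]
  ab : ∀ x ∈ C[V0.map e], ∀ y ∈ C[V0.map e], x * y = y * x
  om : ∀ y ∈ C[V0.map e], y * y = 1 → y ∈ V0.map e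

structure F3b (e : S3 →* X) (τ : MulAut X) (i j : X) (T : Subgroup X) : Prop where
  ii : i * i = e z0
  iT : i ∈ T
  ci : Cz (e z0) ≤ Cz i
  τj : τ j = j⁻¹
  nj : ∀ S, IsSylowIn 2 S ⊤ → ¬ S ≤ Cz j
  rt : ∀ y ∈ T, y * y = e z0 → y = i ∨ y = i⁻¹ ∨ IsConj j y

end Facts

/-- the subgroup generated by the elements of odd order -/
def O2 {G : Type u} [Group G] (H : Subgroup G) : Subgroup G :=
  Subgroup.closure {h | h ∈ H ∧ Odd (orderOf h)}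

/-! ### the elements of the models -/

def σ1 : X1 := mk1 ⟨!![1, 0, 0, 0; 0, 1, 0, 0; 0, 0, 0, 1; 0, 0, 2, 0], by decide +kernel⟩
def dd1 : D1e X1 where
  q2 := mk1 ⟨!![1, 0, 0, 0; 0, 1, 0, 0; 0, 0, 1, 1; 0, 0, 1, 2], by decide +kernel⟩
  k2 := mk1 ⟨!![1, 0, 0, 0; 0, 1, 0, 0; 0, 0, 1, 1; 0, 0, 0, 1], by decide +kernel⟩
  sw := mk1 ⟨!![0, 0, 1, 0; 0, 0, 0, 1; 1, 0, 0, 0; 0, 1, 0, 0], by decide +kernel⟩
  v2 := mk1 ⟨!![0, 0, 1, 1; 0, 0, 2, 1; 2, 1, 0, 0; 2, 2, 0, 0], by decide +kernel⟩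
  u := mk1 ⟨!![0, 1, 0, 0; 2, 0, 0, 0; 0, 0, 0, 1; 0, 0, 2, 0], by decide +kernel⟩
  y1 := mk1 ⟨!![0, 0, 2, 1; 0, 0, 2, 2; 1, 2, 0, 0; 1, 1, 0, 0], by decide +kernel⟩
  y2 := mk1 ⟨!![0, 0, 2, 0; 0, 0, 0, 2; 0, 2, 0, 0; 1, 0, 0, 0], by decide +kernel⟩

/-- the matrix `[a b; c d]` on the `i`-th hyperbolic plane -/
def bl (i : Fin 3) (a b c d : ZMod 3) : Matrix (Fin 3 ⊕ Fin 3) (Fin 3 ⊕ Fin 3) (ZMod 3) :=
  fromBlocks (diagonal fun k => if k = i then a else 1) (diagonal fun k => if k = i then b else 0)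
    (diagonal fun k => if k = i then c else 0) (diagonal fun k => if k = i then d else 1)

def S6 : Sp6 := ⟨fromBlocks !![0, 0, 0; 0, 0, 0; 0, 0, 1] !![0, 1, 0; 1, 0, 0; 0, 0, 0]
  !![0, 2, 0; 2, 0, 0; 0, 0, 0] !![0, 0, 0; 0, 0, 0; 0, 0, 1], by decide +kernel⟩
def σ2 : X2 := mk2 S6
def dd2 : D2e X2 where
  p i := mk2 ⟨bl i 0 1 2 0, by revert i; decide +kernel⟩
  q i := mk2 ⟨bl i 1 1 1 2, by revert i; decide +kernel⟩
  κ i := mk2 ⟨bl i 1 1 0 1, by revert i; decide +kernel⟩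
  zz i := mk2 ⟨bl i 2 0 0 2, by revert i; decide +kernel⟩

/-- `i² = -1` -/
def ii : F9 := ⟨0, 1⟩
def σ3 : X3 := ⟨!![0, ii, 0; ii, 0, 0; 0, 0, 1], by decide +kernel⟩
def i3 : X3 := ⟨!![ii, 0, 0; 0, ii, 0; 0, 0, -1], by decide +kernel⟩
def j3 : X3 := ⟨!![ii, 0, 0; 0, -ii, 0; 0, 0, 1], by decide +kernel⟩
def T3 : Subgroup X3 := C[V0.map e3] ⊔ zpowers (e3 w0)

/-! ### model pieces -/

def Mo1aS : Prop := IsSimpleGroup X1 ∧ ¬ IsMulCommutative X1 ∧ Nat.card X1 = 6065280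
def Mo1S : Prop := Kit → Mo1aS → Mo e1 σ1 τ1 θ1 1
def Cls1S : Prop := ClsF τ1
def F1fS : Prop := F1f e1 dd1 ∧ Cert 128 (MulAut.conj dd1.u)
def Nc1aS : Prop := NcF θ1
def Nc1bS : Prop := NcF (θ1 * τ1)
def F1aS : Prop := F1a e1 σ1 dd1
def F1bS : Prop := Mo1aS → F1b e1 σ1 dd1
def F1cS : Prop := F1c e1 σ1 dd1
def F1dS : Prop := F1d e1 σ1 dd1
def F1eS : Prop := F1e e1 τ1

def Mo2aS : Prop := IsSimpleGroup X2 ∧ ¬ IsMulCommutative X2 ∧ Nat.card X2 = 4585351680 ∧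
  Nat.card Sp6 = 9170703360
def Mo2S : Prop := Kit → Mo2aS → Mo e2 σ2 τ2 θ2 a0 ∧ Gn E2 {S6} = ⊤
def Cls2S : Prop := ClsF τ2
def F2fS : Prop := ∀ x : X2, x * x = 1 → x ≠ 1 → IsConj (e2 z0) x ∨ IsConj (mk2 J6) x
def F2gS : Prop := Cert 128 (MulAut.conj (mk2 J6)) ∧ τ2 (mk2 J6) = mk2 J6
def F2aS : Prop := F2a e2 τ2 dd2
def F2bS : Prop := F2b e2 dd2
def F2cS : Prop := F2c e2 dd2
def Fz2aS : Prop := ∃ Y : Subgroup X2, Y ≤ Cz (e2 z0) ∧ Cz (e2 z0) ≤ N[Y] ∧ Sq Y (zpowers (e2 z0)) ∧ e2 a0 ∈ Y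
def Fz2bS : Prop := Mo2aS → IsSylowIn 2 (Ts e2 dd2) ⊤ ∧ Ts e2 dd2 ≤ Cz (e2 z0) ∧ e2 z0 ∈ Ts e2 dd2 ∧
  e2 a0 ∈ Ts e2 dd2 ∧ e2 a0 ∉ zpowers (e2 z0) ∧
  (∀ x ∈ Ts e2 dd2, x * e2 a0 * x⁻¹ * (e2 a0)⁻¹ ∈ zpowers (e2 z0)) ∧
  ∀ S, IsSylowIn 2 S ⊤ → ¬ S ≤ Cz (mk2 J6)
def Fz2cS : Prop := ∀ x, IsConj (e2 z0) x → x * e2 z0 = e2 z0 * x → x ≠ e2 z0 →
  ∃ p, p * e2 z0 = e2 z0 * p ∧ x = p * e2 a0 * p⁻¹
def Id2S : Prop := Kit → OddS.{u} → Mo2aS → Mo2S → Ce2aS.{u} → Ce2bS.{u} → Ce2cS.{u} →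
  ∀ (G : Type u) [Group G] [Finite G] (d : Dat G), d.act = a0 → ∃ ψ, Tie d e2 σ2 τ2 θ2 ψ

def Mo3aS : Prop := IsSimpleGroup X3 ∧ ¬ IsMulCommutative X3 ∧ Nat.card X3 = 42456960 ∧
  Nonempty (X3 ≃* ProjectiveSpecialLinearGroup (Fin 3) F9)
def Mo3S : Prop := Kit → Mo3aS → Mo e3 σ3 τ3 θ3 (w0 * a0)
def Cls3S : Prop := ClsF τ3
def F3fS : Prop := ∀ x : X3, x * x = 1 → x ≠ 1 → IsConj (e3 z0) x
def Nc3aS : Prop := NcF θ3
def Nc3bS : Prop := NcF (θ3 * τ3)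
def F3aS : Prop := F3a e3
def F3bS : Prop := Mo3aS → F3b e3 τ3 i3 j3 T3
def Fz3aS : Prop := ∃ Y : Subgroup X3, Y ≤ Cz (e3 z0) ∧ Cz (e3 z0) ≤ N[Y] ∧ Sq Y (zpowers i3) ∧ e3 a0 ∈ Y
def Fz3bS : Prop := Mo3aS → IsSylowIn 2 T3 ⊤ ∧ T3 ≤ Cz (e3 z0) ∧ e3 z0 ∈ zpowers i3 ∧
  IsPGroup 2 (zpowers i3) ∧ i3 ∈ T3 ∧ e3 a0 ∈ T3 ∧ e3 a0 ∉ zpowers i3 ∧
  (∀ x ∈ T3, x * e3 a0 * x⁻¹ * (e3 a0)⁻¹ ∈ zpowers i3) ∧
  ∀ x, IsConj (e3 z0) x → x * e3 z0 = e3 z0 * x → x ≠ e3 z0 →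
    ∃ p, p * e3 z0 = e3 z0 * p ∧ x = p * e3 a0 * p⁻¹

/-! ### group pieces -/

def ZuS : Prop := NcjS.{u} → DihS.{u} →
  ∀ (X : Type) [Group X] (e : S3 →* X) (σ : X) (τ θ : MulAut X) (T : Subgroup X),
  IsSylowIn 2 T ⊤ → T ≤ Cz (e z0) → ClZ e τ →
  ∀ (G : Type u) [Group G] [Finite G] (S : Sit G) (ψ : X →* G), Tie S.toDat e σ τ θ ψ → ZU S.toDat

def Cv1S : Prop := Kit → DihS.{u} → OddIS.{u} → CvgS.{u} →
  ∀ (X : Type) [Group X] (e : S3 →* X) (σ : X) (τ θ : MulAut X), F1e e τ →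
  ∀ (G : Type u) [Group G] [Finite G] (S : Sit G) (ψ : X →* G), Tie S.toDat e σ τ θ ψ →
    S.X ⊓ C[S.V] ≤ PP S.R

def Zu1S : Prop := ∀ (X : Type) [Group X] (e : S3 →* X) (σ : X) (τ θ : MulAut X) (D : D1e X),
  F1a e σ D → F1b e σ D → F1c e σ D → F1f e D →
  ∀ (G : Type u) [Group G] [Finite G] (S : Sit G) (ψ : X →* G), Tie S.toDat e σ τ θ ψ → ZU S.toDat

def Tr1S : Prop := ∀ (X : Type) [Group X] (e : S3 →* X) (σ : X) (τ θ : MulAut X) (D : D1e X),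
  F1a e σ D → F1b e σ D → F1c e σ D →
  ∀ (G : Type u) [Group G] [Finite G] (S : Sit G) (ψ : X →* G), Tie S.toDat e σ τ θ ψ → ZU S.toDat →
    IsSylowIn 2 ((Qq e σ D).map ψ) (O2 (S.X ⊓ Cz S.z)) ∧ S.a ∉ O2 (S.X ⊓ Cz S.z) ∧
    S.X ⊓ Cz S.z ≤ O2 (S.X ⊓ Cz S.z) ⊔ (Tq e σ D).map ψ

def Cz1aS : Prop := PrkS.{u} → PrtS.{u} → StepS.{u} →
  ∀ (X : Type) [Group X] (e : S3 →* X) (σ : X) (τ θ : MulAut X) (D : D1e X),
  F1a e σ D → F1c e σ D → F1d e σ D →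
  ∀ (G : Type u) [Group G] [Finite G] (S : Sit G) (ψ : X →* G), Tie S.toDat e σ τ θ ψ →
    S.X ⊓ C[S.V] ≤ PP S.R → IsSylowIn 2 ((Qq e σ D).map ψ) (O2 (S.X ⊓ Cz S.z)) →
    S.a ∉ O2 (S.X ⊓ Cz S.z) →
    O2 (S.X ⊓ Cz S.z) ≤ N[(Qa e).map ψ] ⊓ N[(Qb σ D).map ψ]

def Cz1bS : Prop := Odd4S.{u} →
  ∀ (X : Type) [Group X] (e : S3 →* X) (σ : X) (τ θ : MulAut X) (D : D1e X),
  F1a e σ D → F1c e σ D →
  ∀ (G : Type u) [Group G] [Finite G] (S : Sit G) (ψ : X →* G), Tie S.toDat e σ τ θ ψ →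
    S.X ⊓ C[S.V] ≤ PP S.R → IsSylowIn 2 ((Qq e σ D).map ψ) (O2 (S.X ⊓ Cz S.z)) →
    O2 (S.X ⊓ Cz S.z) ≤ N[(Qa e).map ψ] ⊓ N[(Qb σ D).map ψ] → O2 (S.X ⊓ Cz S.z) ≤ PP S.R

def Cv2aS : Prop := DihS.{u} → PrkS.{u} → PrtS.{u} → StepS.{u} →
  ∀ (X : Type) [Group X] (e : S3 →* X) (σ : X) (τ θ : MulAut X) (D : D2e X),
  F2a e τ D → F2b e D → F2c e D →
  ∀ (G : Type u) [Group G] [Finite G] (S : Sit G) (ψ : X →* G), Tie S.toDat e σ τ θ ψ →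
    IsSylowIn 2 ((As D).map ψ) (S.X ⊓ C[S.V]) ∧ ∀ i, S.X ⊓ C[S.V] ≤ N[(Qs e D i).map ψ]

/-- the odd core of `C(V)` in the symplectic case -/
structure CvI {X : Type} [Group X] {G : Type u} [Group G] (S : Sit G) (e : S3 →* X) (D : D2e X)
    (ψ : X →* G) (I : Subgroup G) : Prop where
  odd : Odd (Nat.card I)
  mem : ∀ x, x ∈ I ↔ x ∈ S.X ⊓ C[S.V] ∧ Odd (orderOf x) ∧
    ∀ i, ∀ y ∈ (Qs e D i).map ψ, x * y * x⁻¹ * y⁻¹ ∈ S.V
  cA : I ≤ C[(As D).map ψ]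
  le : S.X ⊓ C[S.V] ≤ S.R ⊔ I

def Cv2bS : Prop := ∀ (X : Type) [Group X] (e : S3 →* X) (σ : X) (τ θ : MulAut X) (D : D2e X),
  F2a e τ D → F2b e D →
  ∀ (G : Type u) [Group G] [Finite G] (S : Sit G) (ψ : X →* G), Tie S.toDat e σ τ θ ψ →
    IsSylowIn 2 ((As D).map ψ) (S.X ⊓ C[S.V]) → (∀ i, S.X ⊓ C[S.V] ≤ N[(Qs e D i).map ψ]) →
    ∃ I, CvI S e D ψ I

def Cv2cS : Prop := Kit → OddIS.{u} →
  ∀ (X : Type) [Group X] (e : S3 →* X) (σ : X) (τ θ : MulAut X) (D : D2e X),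
  F2a e τ D → F2b e D → F2c e D →
  ∀ (G : Type u) [Group G] [Finite G] (S : Sit G) (ψ : X →* G), Tie S.toDat e σ τ θ ψ →
    IsSylowIn 2 ((As D).map ψ) (S.X ⊓ C[S.V]) → (∀ i, S.X ⊓ C[S.V] ≤ N[(Qs e D i).map ψ]) →
    ∀ I, CvI S e D ψ I → S.X ⊓ C[S.V] ≤ PP S.R

def Cv3S : Prop := Kit → DihS.{u} → OddIS.{u} → CvgS.{u} →
  ∀ (X : Type) [Group X] (e : S3 →* X) (σ : X) (τ θ : MulAut X), F3a e →
  ∀ (G : Type u) [Group G] [Finite G] (S : Sit G) (ψ : X →* G), Tie S.toDat e σ τ θ ψ →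
    S.X ⊓ C[S.V] ≤ PP S.R

def Ci3S : Prop := NcjS.{u} → DihS.{u} → Odd4S.{u} →
  ∀ (X : Type) [Group X] (e : S3 →* X) (σ : X) (τ θ : MulAut X) (i j : X) (T : Subgroup X),
  F3b e τ i j T → IsSylowIn 2 T ⊤ → T ≤ Cz (e z0) →
  ∀ (G : Type u) [Group G] [Finite G] (S : Sit G) (ψ : X →* G), Tie S.toDat e σ τ θ ψ →
    S.X ⊓ C[S.V] ≤ PP S.R → S.X ⊓ Cz S.z ≤ Cz (ψ i)

set_option linter.unusedTactic false in
set_option linter.unreachableTactic false in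
theorem eqns_G40B : True := by
  first | (have := @Cfsg.Agent.H78.G40.m6.eq_def.{0}) | (have := @Cfsg.Agent.H78.G40.m6.eq_def) | skip
  first | (have := @Cfsg.Agent.H78.G40.m6.eq_1.{0}) | (have := @Cfsg.Agent.H78.G40.m6.eq_1) | skip
  first | (have := @Cfsg.Agent.H78.G40.m6.eq_unfold.{0}) | (have := @Cfsg.Agent.H78.G40.m6.eq_unfold) | skip
  first | (have := @Cfsg.Agent.H78.G40.m6.congr_simp.{0}) | (have := @Cfsg.Agent.H78.G40.m6.congr_simp) | skip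
  first | (have := @Cfsg.Agent.H78.G40.Mz.eq_def.{0}) | (have := @Cfsg.Agent.H78.G40.Mz.eq_def) | skip
  first | (have := @Cfsg.Agent.H78.G40.Mz.eq_1.{0}) | (have := @Cfsg.Agent.H78.G40.Mz.eq_1) | skip
  first | (have := @Cfsg.Agent.H78.G40.Mz.eq_unfold.{0}) | (have := @Cfsg.Agent.H78.G40.Mz.eq_unfold) | skip
  first | (have := @Cfsg.Agent.H78.G40.Mz.congr_simp.{0}) | (have := @Cfsg.Agent.H78.G40.Mz.congr_simp) | skip
  first | (have := @Cfsg.Agent.H78.G40.Qa.eq_def.{0}) | (have := @Cfsg.Agent.H78.G40.Qa.eq_def) | skip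
  first | (have := @Cfsg.Agent.H78.G40.Qa.eq_1.{0}) | (have := @Cfsg.Agent.H78.G40.Qa.eq_1) | skip
  first | (have := @Cfsg.Agent.H78.G40.Qa.eq_unfold.{0}) | (have := @Cfsg.Agent.H78.G40.Qa.eq_unfold) | skip
  first | (have := @Cfsg.Agent.H78.G40.Qa.congr_simp.{0}) | (have := @Cfsg.Agent.H78.G40.Qa.congr_simp) | skip
  first | (have := @Cfsg.Agent.H78.G40.Qb.eq_def.{0}) | (have := @Cfsg.Agent.H78.G40.Qb.eq_def) | skip
  first | (have := @Cfsg.Agent.H78.G40.Qb.eq_1.{0}) | (have := @Cfsg.Agent.H78.G40.Qb.eq_1) | skip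
  first | (have := @Cfsg.Agent.H78.G40.Qb.eq_unfold.{0}) | (have := @Cfsg.Agent.H78.G40.Qb.eq_unfold) | skip
  first | (have := @Cfsg.Agent.H78.G40.Qb.congr_simp.{0}) | (have := @Cfsg.Agent.H78.G40.Qb.congr_simp) | skip
  first | (have := @Cfsg.Agent.H78.G40.Qq.eq_def.{0}) | (have := @Cfsg.Agent.H78.G40.Qq.eq_def) | skip
  first | (have := @Cfsg.Agent.H78.G40.Qq.eq_1.{0}) | (have := @Cfsg.Agent.H78.G40.Qq.eq_1) | skip
  first | (have := @Cfsg.Agent.H78.G40.Qq.eq_unfold.{0}) | (have := @Cfsg.Agent.H78.G40.Qq.eq_unfold) | skip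
  first | (have := @Cfsg.Agent.H78.G40.Qq.congr_simp.{0}) | (have := @Cfsg.Agent.H78.G40.Qq.congr_simp) | skip
  first | (have := @Cfsg.Agent.H78.G40.Uq.eq_def.{0}) | (have := @Cfsg.Agent.H78.G40.Uq.eq_def) | skip
  first | (have := @Cfsg.Agent.H78.G40.Uq.eq_1.{0}) | (have := @Cfsg.Agent.H78.G40.Uq.eq_1) | skip
  first | (have := @Cfsg.Agent.H78.G40.Uq.eq_unfold.{0}) | (have := @Cfsg.Agent.H78.G40.Uq.eq_unfold) | skip
  first | (have := @Cfsg.Agent.H78.G40.Uq.congr_simp.{0}) | (have := @Cfsg.Agent.H78.G40.Uq.congr_simp) | skip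
  first | (have := @Cfsg.Agent.H78.G40.Tq.eq_def.{0}) | (have := @Cfsg.Agent.H78.G40.Tq.eq_def) | skip
  first | (have := @Cfsg.Agent.H78.G40.Tq.eq_1.{0}) | (have := @Cfsg.Agent.H78.G40.Tq.eq_1) | skip
  first | (have := @Cfsg.Agent.H78.G40.Tq.eq_unfold.{0}) | (have := @Cfsg.Agent.H78.G40.Tq.eq_unfold) | skip
  first | (have := @Cfsg.Agent.H78.G40.Tq.congr_simp.{0}) | (have := @Cfsg.Agent.H78.G40.Tq.congr_simp) | skip
  first | (have := @Cfsg.Agent.H78.G40.F1d.eq_def.{0}) | (have := @Cfsg.Agent.H78.G40.F1d.eq_def) | skip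
  first | (have := @Cfsg.Agent.H78.G40.F1d.eq_1.{0}) | (have := @Cfsg.Agent.H78.G40.F1d.eq_1) | skip
  first | (have := @Cfsg.Agent.H78.G40.F1d.eq_unfold.{0}) | (have := @Cfsg.Agent.H78.G40.F1d.eq_unfold) | skip
  first | (have := @Cfsg.Agent.H78.G40.F1d.congr_simp.{0}) | (have := @Cfsg.Agent.H78.G40.F1d.congr_simp) | skip
  first | (have := @Cfsg.Agent.H78.G40.F1f.eq_def.{0}) | (have := @Cfsg.Agent.H78.G40.F1f.eq_def) | skip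
  first | (have := @Cfsg.Agent.H78.G40.F1f.eq_1.{0}) | (have := @Cfsg.Agent.H78.G40.F1f.eq_1) | skip
  first | (have := @Cfsg.Agent.H78.G40.F1f.eq_unfold.{0}) | (have := @Cfsg.Agent.H78.G40.F1f.eq_unfold) | skip
  first | (have := @Cfsg.Agent.H78.G40.F1f.congr_simp.{0}) | (have := @Cfsg.Agent.H78.G40.F1f.congr_simp) | skip
  first | (have := @Cfsg.Agent.H78.G40.Qs.eq_def.{0}) | (have := @Cfsg.Agent.H78.G40.Qs.eq_def) | skip
  first | (have := @Cfsg.Agent.H78.G40.Qs.eq_1.{0}) | (have := @Cfsg.Agent.H78.G40.Qs.eq_1) | skip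
  first | (have := @Cfsg.Agent.H78.G40.Qs.eq_unfold.{0}) | (have := @Cfsg.Agent.H78.G40.Qs.eq_unfold) | skip
  first | (have := @Cfsg.Agent.H78.G40.Qs.congr_simp.{0}) | (have := @Cfsg.Agent.H78.G40.Qs.congr_simp) | skip
  first | (have := @Cfsg.Agent.H78.G40.As.eq_def.{0}) | (have := @Cfsg.Agent.H78.G40.As.eq_def) | skip
  first | (have := @Cfsg.Agent.H78.G40.As.eq_1.{0}) | (have := @Cfsg.Agent.H78.G40.As.eq_1) | skip
  first | (have := @Cfsg.Agent.H78.G40.As.eq_unfold.{0}) | (have := @Cfsg.Agent.H78.G40.As.eq_unfold) | skip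
  first | (have := @Cfsg.Agent.H78.G40.As.congr_simp.{0}) | (have := @Cfsg.Agent.H78.G40.As.congr_simp) | skip
  first | (have := @Cfsg.Agent.H78.G40.Ts.eq_def.{0}) | (have := @Cfsg.Agent.H78.G40.Ts.eq_def) | skip
  first | (have := @Cfsg.Agent.H78.G40.Ts.eq_1.{0}) | (have := @Cfsg.Agent.H78.G40.Ts.eq_1) | skip
  first | (have := @Cfsg.Agent.H78.G40.Ts.eq_unfold.{0}) | (have := @Cfsg.Agent.H78.G40.Ts.eq_unfold) | skip
  first | (have := @Cfsg.Agent.H78.G40.Ts.congr_simp.{0}) | (have := @Cfsg.Agent.H78.G40.Ts.congr_simp) | skip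
  first | (have := @Cfsg.Agent.H78.G40.ClZ.eq_def.{0}) | (have := @Cfsg.Agent.H78.G40.ClZ.eq_def) | skip
  first | (have := @Cfsg.Agent.H78.G40.ClZ.eq_1.{0}) | (have := @Cfsg.Agent.H78.G40.ClZ.eq_1) | skip
  first | (have := @Cfsg.Agent.H78.G40.ClZ.eq_unfold.{0}) | (have := @Cfsg.Agent.H78.G40.ClZ.eq_unfold) | skip
  first | (have := @Cfsg.Agent.H78.G40.ClZ.congr_simp.{0}) | (have := @Cfsg.Agent.H78.G40.ClZ.congr_simp) | skip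
  first | (have := @Cfsg.Agent.H78.G40.O2.eq_def.{0}) | (have := @Cfsg.Agent.H78.G40.O2.eq_def) | skip
  first | (have := @Cfsg.Agent.H78.G40.O2.eq_1.{0}) | (have := @Cfsg.Agent.H78.G40.O2.eq_1) | skip
  first | (have := @Cfsg.Agent.H78.G40.O2.eq_unfold.{0}) | (have := @Cfsg.Agent.H78.G40.O2.eq_unfold) | skip
  first | (have := @Cfsg.Agent.H78.G40.O2.congr_simp.{0}) | (have := @Cfsg.Agent.H78.G40.O2.congr_simp) | skip
  first | (have := @Cfsg.Agent.H78.G40.σ1.eq_def.{0}) | (have := @Cfsg.Agent.H78.G40.σ1.eq_def) | skip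
  first | (have := @Cfsg.Agent.H78.G40.σ1.eq_1.{0}) | (have := @Cfsg.Agent.H78.G40.σ1.eq_1) | skip
  first | (have := @Cfsg.Agent.H78.G40.σ1.eq_unfold.{0}) | (have := @Cfsg.Agent.H78.G40.σ1.eq_unfold) | skip
  first | (have := @Cfsg.Agent.H78.G40.σ1.congr_simp.{0}) | (have := @Cfsg.Agent.H78.G40.σ1.congr_simp) | skip
  first | (have := @Cfsg.Agent.H78.G40.dd1.eq_def.{0}) | (have := @Cfsg.Agent.H78.G40.dd1.eq_def) | skip
  first | (have := @Cfsg.Agent.H78.G40.dd1.eq_1.{0}) | (have := @Cfsg.Agent.H78.G40.dd1.eq_1) | skip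
  first | (have := @Cfsg.Agent.H78.G40.dd1.eq_unfold.{0}) | (have := @Cfsg.Agent.H78.G40.dd1.eq_unfold) | skip
  first | (have := @Cfsg.Agent.H78.G40.dd1.congr_simp.{0}) | (have := @Cfsg.Agent.H78.G40.dd1.congr_simp) | skip
  first | (have := @Cfsg.Agent.H78.G40.bl.eq_def.{0}) | (have := @Cfsg.Agent.H78.G40.bl.eq_def) | skip
  first | (have := @Cfsg.Agent.H78.G40.bl.eq_1.{0}) | (have := @Cfsg.Agent.H78.G40.bl.eq_1) | skip
  first | (have := @Cfsg.Agent.H78.G40.bl.eq_unfold.{0}) | (have := @Cfsg.Agent.H78.G40.bl.eq_unfold) | skip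
  first | (have := @Cfsg.Agent.H78.G40.bl.congr_simp.{0}) | (have := @Cfsg.Agent.H78.G40.bl.congr_simp) | skip
  first | (have := @Cfsg.Agent.H78.G40.S6.eq_def.{0}) | (have := @Cfsg.Agent.H78.G40.S6.eq_def) | skip
  first | (have := @Cfsg.Agent.H78.G40.S6.eq_1.{0}) | (have := @Cfsg.Agent.H78.G40.S6.eq_1) | skip
  first | (have := @Cfsg.Agent.H78.G40.S6.eq_unfold.{0}) | (have := @Cfsg.Agent.H78.G40.S6.eq_unfold) | skip
  first | (have := @Cfsg.Agent.H78.G40.S6.congr_simp.{0}) | (have := @Cfsg.Agent.H78.G40.S6.congr_simp) | skip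
  first | (have := @Cfsg.Agent.H78.G40.σ2.eq_def.{0}) | (have := @Cfsg.Agent.H78.G40.σ2.eq_def) | skip
  first | (have := @Cfsg.Agent.H78.G40.σ2.eq_1.{0}) | (have := @Cfsg.Agent.H78.G40.σ2.eq_1) | skip
  first | (have := @Cfsg.Agent.H78.G40.σ2.eq_unfold.{0}) | (have := @Cfsg.Agent.H78.G40.σ2.eq_unfold) | skip
  first | (have := @Cfsg.Agent.H78.G40.σ2.congr_simp.{0}) | (have := @Cfsg.Agent.H78.G40.σ2.congr_simp) | skip
  first | (have := @Cfsg.Agent.H78.G40.dd2.eq_def.{0}) | (have := @Cfsg.Agent.H78.G40.dd2.eq_def) | skip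
  first | (have := @Cfsg.Agent.H78.G40.dd2.eq_1.{0}) | (have := @Cfsg.Agent.H78.G40.dd2.eq_1) | skip
  first | (have := @Cfsg.Agent.H78.G40.dd2.eq_unfold.{0}) | (have := @Cfsg.Agent.H78.G40.dd2.eq_unfold) | skip
  first | (have := @Cfsg.Agent.H78.G40.dd2.congr_simp.{0}) | (have := @Cfsg.Agent.H78.G40.dd2.congr_simp) | skip
  first | (have := @Cfsg.Agent.H78.G40.ii.eq_def.{0}) | (have := @Cfsg.Agent.H78.G40.ii.eq_def) | skip
  first | (have := @Cfsg.Agent.H78.G40.ii.eq_1.{0}) | (have := @Cfsg.Agent.H78.G40.ii.eq_1) | skip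
  first | (have := @Cfsg.Agent.H78.G40.ii.eq_unfold.{0}) | (have := @Cfsg.Agent.H78.G40.ii.eq_unfold) | skip
  first | (have := @Cfsg.Agent.H78.G40.ii.congr_simp.{0}) | (have := @Cfsg.Agent.H78.G40.ii.congr_simp) | skip
  first | (have := @Cfsg.Agent.H78.G40.σ3.eq_def.{0}) | (have := @Cfsg.Agent.H78.G40.σ3.eq_def) | skip
  first | (have := @Cfsg.Agent.H78.G40.σ3.eq_1.{0}) | (have := @Cfsg.Agent.H78.G40.σ3.eq_1) | skip
  first | (have := @Cfsg.Agent.H78.G40.σ3.eq_unfold.{0}) | (have := @Cfsg.Agent.H78.G40.σ3.eq_unfold) | skip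
  first | (have := @Cfsg.Agent.H78.G40.σ3.congr_simp.{0}) | (have := @Cfsg.Agent.H78.G40.σ3.congr_simp) | skip
  first | (have := @Cfsg.Agent.H78.G40.i3.eq_def.{0}) | (have := @Cfsg.Agent.H78.G40.i3.eq_def) | skip
  first | (have := @Cfsg.Agent.H78.G40.i3.eq_1.{0}) | (have := @Cfsg.Agent.H78.G40.i3.eq_1) | skip
  first | (have := @Cfsg.Agent.H78.G40.i3.eq_unfold.{0}) | (have := @Cfsg.Agent.H78.G40.i3.eq_unfold) | skip
  first | (have := @Cfsg.Agent.H78.G40.i3.congr_simp.{0}) | (have := @Cfsg.Agent.H78.G40.i3.congr_simp) | skip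
  first | (have := @Cfsg.Agent.H78.G40.j3.eq_def.{0}) | (have := @Cfsg.Agent.H78.G40.j3.eq_def) | skip
  first | (have := @Cfsg.Agent.H78.G40.j3.eq_1.{0}) | (have := @Cfsg.Agent.H78.G40.j3.eq_1) | skip
  first | (have := @Cfsg.Agent.H78.G40.j3.eq_unfold.{0}) | (have := @Cfsg.Agent.H78.G40.j3.eq_unfold) | skip
  first | (have := @Cfsg.Agent.H78.G40.j3.congr_simp.{0}) | (have := @Cfsg.Agent.H78.G40.j3.congr_simp) | skip
  first | (have := @Cfsg.Agent.H78.G40.T3.eq_def.{0}) | (have := @Cfsg.Agent.H78.G40.T3.eq_def) | skip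
  first | (have := @Cfsg.Agent.H78.G40.T3.eq_1.{0}) | (have := @Cfsg.Agent.H78.G40.T3.eq_1) | skip
  first | (have := @Cfsg.Agent.H78.G40.T3.eq_unfold.{0}) | (have := @Cfsg.Agent.H78.G40.T3.eq_unfold) | skip
  first | (have := @Cfsg.Agent.H78.G40.T3.congr_simp.{0}) | (have := @Cfsg.Agent.H78.G40.T3.congr_simp) | skip
  first | (have := @Cfsg.Agent.H78.G40.Mo1aS.eq_def.{0}) | (have := @Cfsg.Agent.H78.G40.Mo1aS.eq_def) | skip
  first | (have := @Cfsg.Agent.H78.G40.Mo1aS.eq_1.{0}) | (have := @Cfsg.Agent.H78.G40.Mo1aS.eq_1) | skip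
  first | (have := @Cfsg.Agent.H78.G40.Mo1aS.eq_unfold.{0}) | (have := @Cfsg.Agent.H78.G40.Mo1aS.eq_unfold) | skip
  first | (have := @Cfsg.Agent.H78.G40.Mo1aS.congr_simp.{0}) | (have := @Cfsg.Agent.H78.G40.Mo1aS.congr_simp) | skip
  first | (have := @Cfsg.Agent.H78.G40.Mo1S.eq_def.{0}) | (have := @Cfsg.Agent.H78.G40.Mo1S.eq_def) | skip
  first | (have := @Cfsg.Agent.H78.G40.Mo1S.eq_1.{0}) | (have := @Cfsg.Agent.H78.G40.Mo1S.eq_1) | skip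
  first | (have := @Cfsg.Agent.H78.G40.Mo1S.eq_unfold.{0}) | (have := @Cfsg.Agent.H78.G40.Mo1S.eq_unfold) | skip
  first | (have := @Cfsg.Agent.H78.G40.Mo1S.congr_simp.{0}) | (have := @Cfsg.Agent.H78.G40.Mo1S.congr_simp) | skip
  first | (have := @Cfsg.Agent.H78.G40.Cls1S.eq_def.{0}) | (have := @Cfsg.Agent.H78.G40.Cls1S.eq_def) | skip
  first | (have := @Cfsg.Agent.H78.G40.Cls1S.eq_1.{0}) | (have := @Cfsg.Agent.H78.G40.Cls1S.eq_1) | skip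
  first | (have := @Cfsg.Agent.H78.G40.Cls1S.eq_unfold.{0}) | (have := @Cfsg.Agent.H78.G40.Cls1S.eq_unfold) | skip
  first | (have := @Cfsg.Agent.H78.G40.Cls1S.congr_simp.{0}) | (have := @Cfsg.Agent.H78.G40.Cls1S.congr_simp) | skip
  first | (have := @Cfsg.Agent.H78.G40.F1fS.eq_def.{0}) | (have := @Cfsg.Agent.H78.G40.F1fS.eq_def) | skip
  first | (have := @Cfsg.Agent.H78.G40.F1fS.eq_1.{0}) | (have := @Cfsg.Agent.H78.G40.F1fS.eq_1) | skip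
  first | (have := @Cfsg.Agent.H78.G40.F1fS.eq_unfold.{0}) | (have := @Cfsg.Agent.H78.G40.F1fS.eq_unfold) | skip
  first | (have := @Cfsg.Agent.H78.G40.F1fS.congr_simp.{0}) | (have := @Cfsg.Agent.H78.G40.F1fS.congr_simp) | skip
  first | (have := @Cfsg.Agent.H78.G40.Nc1aS.eq_def.{0}) | (have := @Cfsg.Agent.H78.G40.Nc1aS.eq_def) | skip
  first | (have := @Cfsg.Agent.H78.G40.Nc1aS.eq_1.{0}) | (have := @Cfsg.Agent.H78.G40.Nc1aS.eq_1) | skip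
  first | (have := @Cfsg.Agent.H78.G40.Nc1aS.eq_unfold.{0}) | (have := @Cfsg.Agent.H78.G40.Nc1aS.eq_unfold) | skip
  first | (have := @Cfsg.Agent.H78.G40.Nc1aS.congr_simp.{0}) | (have := @Cfsg.Agent.H78.G40.Nc1aS.congr_simp) | skip
  first | (have := @Cfsg.Agent.H78.G40.Nc1bS.eq_def.{0}) | (have := @Cfsg.Agent.H78.G40.Nc1bS.eq_def) | skip
  first | (have := @Cfsg.Agent.H78.G40.Nc1bS.eq_1.{0}) | (have := @Cfsg.Agent.H78.G40.Nc1bS.eq_1) | skip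
  first | (have := @Cfsg.Agent.H78.G40.Nc1bS.eq_unfold.{0}) | (have := @Cfsg.Agent.H78.G40.Nc1bS.eq_unfold) | skip
  first | (have := @Cfsg.Agent.H78.G40.Nc1bS.congr_simp.{0}) | (have := @Cfsg.Agent.H78.G40.Nc1bS.congr_simp) | skip
  first | (have := @Cfsg.Agent.H78.G40.F1aS.eq_def.{0}) | (have := @Cfsg.Agent.H78.G40.F1aS.eq_def) | skip
  first | (have := @Cfsg.Agent.H78.G40.F1aS.eq_1.{0}) | (have := @Cfsg.Agent.H78.G40.F1aS.eq_1) | skip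
  first | (have := @Cfsg.Agent.H78.G40.F1aS.eq_unfold.{0}) | (have := @Cfsg.Agent.H78.G40.F1aS.eq_unfold) | skip
  first | (have := @Cfsg.Agent.H78.G40.F1aS.congr_simp.{0}) | (have := @Cfsg.Agent.H78.G40.F1aS.congr_simp) | skip
  first | (have := @Cfsg.Agent.H78.G40.F1bS.eq_def.{0}) | (have := @Cfsg.Agent.H78.G40.F1bS.eq_def) | skip
  first | (have := @Cfsg.Agent.H78.G40.F1bS.eq_1.{0}) | (have := @Cfsg.Agent.H78.G40.F1bS.eq_1) | skip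
  first | (have := @Cfsg.Agent.H78.G40.F1bS.eq_unfold.{0}) | (have := @Cfsg.Agent.H78.G40.F1bS.eq_unfold) | skip
  first | (have := @Cfsg.Agent.H78.G40.F1bS.congr_simp.{0}) | (have := @Cfsg.Agent.H78.G40.F1bS.congr_simp) | skip
  first | (have := @Cfsg.Agent.H78.G40.F1cS.eq_def.{0}) | (have := @Cfsg.Agent.H78.G40.F1cS.eq_def) | skip
  first | (have := @Cfsg.Agent.H78.G40.F1cS.eq_1.{0}) | (have := @Cfsg.Agent.H78.G40.F1cS.eq_1) | skip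
  first | (have := @Cfsg.Agent.H78.G40.F1cS.eq_unfold.{0}) | (have := @Cfsg.Agent.H78.G40.F1cS.eq_unfold) | skip
  first | (have := @Cfsg.Agent.H78.G40.F1cS.congr_simp.{0}) | (have := @Cfsg.Agent.H78.G40.F1cS.congr_simp) | skip
  first | (have := @Cfsg.Agent.H78.G40.F1dS.eq_def.{0}) | (have := @Cfsg.Agent.H78.G40.F1dS.eq_def) | skip
  first | (have := @Cfsg.Agent.H78.G40.F1dS.eq_1.{0}) | (have := @Cfsg.Agent.H78.G40.F1dS.eq_1) | skip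
  first | (have := @Cfsg.Agent.H78.G40.F1dS.eq_unfold.{0}) | (have := @Cfsg.Agent.H78.G40.F1dS.eq_unfold) | skip
  first | (have := @Cfsg.Agent.H78.G40.F1dS.congr_simp.{0}) | (have := @Cfsg.Agent.H78.G40.F1dS.congr_simp) | skip
  first | (have := @Cfsg.Agent.H78.G40.F1eS.eq_def.{0}) | (have := @Cfsg.Agent.H78.G40.F1eS.eq_def) | skip
  first | (have := @Cfsg.Agent.H78.G40.F1eS.eq_1.{0}) | (have := @Cfsg.Agent.H78.G40.F1eS.eq_1) | skip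
  first | (have := @Cfsg.Agent.H78.G40.F1eS.eq_unfold.{0}) | (have := @Cfsg.Agent.H78.G40.F1eS.eq_unfold) | skip
  first | (have := @Cfsg.Agent.H78.G40.F1eS.congr_simp.{0}) | (have := @Cfsg.Agent.H78.G40.F1eS.congr_simp) | skip
  first | (have := @Cfsg.Agent.H78.G40.Mo2aS.eq_def.{0}) | (have := @Cfsg.Agent.H78.G40.Mo2aS.eq_def) | skip
  first | (have := @Cfsg.Agent.H78.G40.Mo2aS.eq_1.{0}) | (have := @Cfsg.Agent.H78.G40.Mo2aS.eq_1) | skip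
  first | (have := @Cfsg.Agent.H78.G40.Mo2aS.eq_unfold.{0}) | (have := @Cfsg.Agent.H78.G40.Mo2aS.eq_unfold) | skip
  first | (have := @Cfsg.Agent.H78.G40.Mo2aS.congr_simp.{0}) | (have := @Cfsg.Agent.H78.G40.Mo2aS.congr_simp) | skip
  first | (have := @Cfsg.Agent.H78.G40.Mo2S.eq_def.{0}) | (have := @Cfsg.Agent.H78.G40.Mo2S.eq_def) | skip
  first | (have := @Cfsg.Agent.H78.G40.Mo2S.eq_1.{0}) | (have := @Cfsg.Agent.H78.G40.Mo2S.eq_1) | skip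
  first | (have := @Cfsg.Agent.H78.G40.Mo2S.eq_unfold.{0}) | (have := @Cfsg.Agent.H78.G40.Mo2S.eq_unfold) | skip
  first | (have := @Cfsg.Agent.H78.G40.Mo2S.congr_simp.{0}) | (have := @Cfsg.Agent.H78.G40.Mo2S.congr_simp) | skip
  first | (have := @Cfsg.Agent.H78.G40.Cls2S.eq_def.{0}) | (have := @Cfsg.Agent.H78.G40.Cls2S.eq_def) | skip
  first | (have := @Cfsg.Agent.H78.G40.Cls2S.eq_1.{0}) | (have := @Cfsg.Agent.H78.G40.Cls2S.eq_1) | skip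
  first | (have := @Cfsg.Agent.H78.G40.Cls2S.eq_unfold.{0}) | (have := @Cfsg.Agent.H78.G40.Cls2S.eq_unfold) | skip
  first | (have := @Cfsg.Agent.H78.G40.Cls2S.congr_simp.{0}) | (have := @Cfsg.Agent.H78.G40.Cls2S.congr_simp) | skip
  first | (have := @Cfsg.Agent.H78.G40.F2fS.eq_def.{0}) | (have := @Cfsg.Agent.H78.G40.F2fS.eq_def) | skip
  first | (have := @Cfsg.Agent.H78.G40.F2fS.eq_1.{0}) | (have := @Cfsg.Agent.H78.G40.F2fS.eq_1) | skip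
  first | (have := @Cfsg.Agent.H78.G40.F2fS.eq_unfold.{0}) | (have := @Cfsg.Agent.H78.G40.F2fS.eq_unfold) | skip
  first | (have := @Cfsg.Agent.H78.G40.F2fS.congr_simp.{0}) | (have := @Cfsg.Agent.H78.G40.F2fS.congr_simp) | skip
  first | (have := @Cfsg.Agent.H78.G40.F2gS.eq_def.{0}) | (have := @Cfsg.Agent.H78.G40.F2gS.eq_def) | skip
  first | (have := @Cfsg.Agent.H78.G40.F2gS.eq_1.{0}) | (have := @Cfsg.Agent.H78.G40.F2gS.eq_1) | skip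
  first | (have := @Cfsg.Agent.H78.G40.F2gS.eq_unfold.{0}) | (have := @Cfsg.Agent.H78.G40.F2gS.eq_unfold) | skip
  first | (have := @Cfsg.Agent.H78.G40.F2gS.congr_simp.{0}) | (have := @Cfsg.Agent.H78.G40.F2gS.congr_simp) | skip
  first | (have := @Cfsg.Agent.H78.G40.F2aS.eq_def.{0}) | (have := @Cfsg.Agent.H78.G40.F2aS.eq_def) | skip
  first | (have := @Cfsg.Agent.H78.G40.F2aS.eq_1.{0}) | (have := @Cfsg.Agent.H78.G40.F2aS.eq_1) | skip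
  first | (have := @Cfsg.Agent.H78.G40.F2aS.eq_unfold.{0}) | (have := @Cfsg.Agent.H78.G40.F2aS.eq_unfold) | skip
  first | (have := @Cfsg.Agent.H78.G40.F2aS.congr_simp.{0}) | (have := @Cfsg.Agent.H78.G40.F2aS.congr_simp) | skip
  first | (have := @Cfsg.Agent.H78.G40.F2bS.eq_def.{0}) | (have := @Cfsg.Agent.H78.G40.F2bS.eq_def) | skip
  first | (have := @Cfsg.Agent.H78.G40.F2bS.eq_1.{0}) | (have := @Cfsg.Agent.H78.G40.F2bS.eq_1) | skip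
  first | (have := @Cfsg.Agent.H78.G40.F2bS.eq_unfold.{0}) | (have := @Cfsg.Agent.H78.G40.F2bS.eq_unfold) | skip
  first | (have := @Cfsg.Agent.H78.G40.F2bS.congr_simp.{0}) | (have := @Cfsg.Agent.H78.G40.F2bS.congr_simp) | skip
  first | (have := @Cfsg.Agent.H78.G40.F2cS.eq_def.{0}) | (have := @Cfsg.Agent.H78.G40.F2cS.eq_def) | skip
  first | (have := @Cfsg.Agent.H78.G40.F2cS.eq_1.{0}) | (have := @Cfsg.Agent.H78.G40.F2cS.eq_1) | skip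
  first | (have := @Cfsg.Agent.H78.G40.F2cS.eq_unfold.{0}) | (have := @Cfsg.Agent.H78.G40.F2cS.eq_unfold) | skip
  first | (have := @Cfsg.Agent.H78.G40.F2cS.congr_simp.{0}) | (have := @Cfsg.Agent.H78.G40.F2cS.congr_simp) | skip
  first | (have := @Cfsg.Agent.H78.G40.Fz2aS.eq_def.{0}) | (have := @Cfsg.Agent.H78.G40.Fz2aS.eq_def) | skip
  first | (have := @Cfsg.Agent.H78.G40.Fz2aS.eq_1.{0}) | (have := @Cfsg.Agent.H78.G40.Fz2aS.eq_1) | skip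
  first | (have := @Cfsg.Agent.H78.G40.Fz2aS.eq_unfold.{0}) | (have := @Cfsg.Agent.H78.G40.Fz2aS.eq_unfold) | skip
  first | (have := @Cfsg.Agent.H78.G40.Fz2aS.congr_simp.{0}) | (have := @Cfsg.Agent.H78.G40.Fz2aS.congr_simp) | skip
  first | (have := @Cfsg.Agent.H78.G40.Fz2bS.eq_def.{0}) | (have := @Cfsg.Agent.H78.G40.Fz2bS.eq_def) | skip
  first | (have := @Cfsg.Agent.H78.G40.Fz2bS.eq_1.{0}) | (have := @Cfsg.Agent.H78.G40.Fz2bS.eq_1) | skip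
  first | (have := @Cfsg.Agent.H78.G40.Fz2bS.eq_unfold.{0}) | (have := @Cfsg.Agent.H78.G40.Fz2bS.eq_unfold) | skip
  first | (have := @Cfsg.Agent.H78.G40.Fz2bS.congr_simp.{0}) | (have := @Cfsg.Agent.H78.G40.Fz2bS.congr_simp) | skip
  first | (have := @Cfsg.Agent.H78.G40.Fz2cS.eq_def.{0}) | (have := @Cfsg.Agent.H78.G40.Fz2cS.eq_def) | skip
  first | (have := @Cfsg.Agent.H78.G40.Fz2cS.eq_1.{0}) | (have := @Cfsg.Agent.H78.G40.Fz2cS.eq_1) | skip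
  first | (have := @Cfsg.Agent.H78.G40.Fz2cS.eq_unfold.{0}) | (have := @Cfsg.Agent.H78.G40.Fz2cS.eq_unfold) | skip
  first | (have := @Cfsg.Agent.H78.G40.Fz2cS.congr_simp.{0}) | (have := @Cfsg.Agent.H78.G40.Fz2cS.congr_simp) | skip
  first | (have := @Cfsg.Agent.H78.G40.Id2S.eq_def.{0}) | (have := @Cfsg.Agent.H78.G40.Id2S.eq_def) | skip
  first | (have := @Cfsg.Agent.H78.G40.Id2S.eq_1.{0}) | (have := @Cfsg.Agent.H78.G40.Id2S.eq_1) | skip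
  first | (have := @Cfsg.Agent.H78.G40.Id2S.eq_unfold.{0}) | (have := @Cfsg.Agent.H78.G40.Id2S.eq_unfold) | skip
  first | (have := @Cfsg.Agent.H78.G40.Id2S.congr_simp.{0}) | (have := @Cfsg.Agent.H78.G40.Id2S.congr_simp) | skip
  first | (have := @Cfsg.Agent.H78.G40.Mo3aS.eq_def.{0}) | (have := @Cfsg.Agent.H78.G40.Mo3aS.eq_def) | skip
  first | (have := @Cfsg.Agent.H78.G40.Mo3aS.eq_1.{0}) | (have := @Cfsg.Agent.H78.G40.Mo3aS.eq_1) | skip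
  first | (have := @Cfsg.Agent.H78.G40.Mo3aS.eq_unfold.{0}) | (have := @Cfsg.Agent.H78.G40.Mo3aS.eq_unfold) | skip
  first | (have := @Cfsg.Agent.H78.G40.Mo3aS.congr_simp.{0}) | (have := @Cfsg.Agent.H78.G40.Mo3aS.congr_simp) | skip
  first | (have := @Cfsg.Agent.H78.G40.Mo3S.eq_def.{0}) | (have := @Cfsg.Agent.H78.G40.Mo3S.eq_def) | skip
  first | (have := @Cfsg.Agent.H78.G40.Mo3S.eq_1.{0}) | (have := @Cfsg.Agent.H78.G40.Mo3S.eq_1) | skip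
  first | (have := @Cfsg.Agent.H78.G40.Mo3S.eq_unfold.{0}) | (have := @Cfsg.Agent.H78.G40.Mo3S.eq_unfold) | skip
  first | (have := @Cfsg.Agent.H78.G40.Mo3S.congr_simp.{0}) | (have := @Cfsg.Agent.H78.G40.Mo3S.congr_simp) | skip
  first | (have := @Cfsg.Agent.H78.G40.Cls3S.eq_def.{0}) | (have := @Cfsg.Agent.H78.G40.Cls3S.eq_def) | skip
  first | (have := @Cfsg.Agent.H78.G40.Cls3S.eq_1.{0}) | (have := @Cfsg.Agent.H78.G40.Cls3S.eq_1) | skip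
  first | (have := @Cfsg.Agent.H78.G40.Cls3S.eq_unfold.{0}) | (have := @Cfsg.Agent.H78.G40.Cls3S.eq_unfold) | skip
  first | (have := @Cfsg.Agent.H78.G40.Cls3S.congr_simp.{0}) | (have := @Cfsg.Agent.H78.G40.Cls3S.congr_simp) | skip
  first | (have := @Cfsg.Agent.H78.G40.F3fS.eq_def.{0}) | (have := @Cfsg.Agent.H78.G40.F3fS.eq_def) | skip
  first | (have := @Cfsg.Agent.H78.G40.F3fS.eq_1.{0}) | (have := @Cfsg.Agent.H78.G40.F3fS.eq_1) | skip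
  first | (have := @Cfsg.Agent.H78.G40.F3fS.eq_unfold.{0}) | (have := @Cfsg.Agent.H78.G40.F3fS.eq_unfold) | skip
  first | (have := @Cfsg.Agent.H78.G40.F3fS.congr_simp.{0}) | (have := @Cfsg.Agent.H78.G40.F3fS.congr_simp) | skip
  first | (have := @Cfsg.Agent.H78.G40.Nc3aS.eq_def.{0}) | (have := @Cfsg.Agent.H78.G40.Nc3aS.eq_def) | skip
  first | (have := @Cfsg.Agent.H78.G40.Nc3aS.eq_1.{0}) | (have := @Cfsg.Agent.H78.G40.Nc3aS.eq_1) | skip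
  first | (have := @Cfsg.Agent.H78.G40.Nc3aS.eq_unfold.{0}) | (have := @Cfsg.Agent.H78.G40.Nc3aS.eq_unfold) | skip
  first | (have := @Cfsg.Agent.H78.G40.Nc3aS.congr_simp.{0}) | (have := @Cfsg.Agent.H78.G40.Nc3aS.congr_simp) | skip
  first | (have := @Cfsg.Agent.H78.G40.Nc3bS.eq_def.{0}) | (have := @Cfsg.Agent.H78.G40.Nc3bS.eq_def) | skip
  first | (have := @Cfsg.Agent.H78.G40.Nc3bS.eq_1.{0}) | (have := @Cfsg.Agent.H78.G40.Nc3bS.eq_1) | skip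
  first | (have := @Cfsg.Agent.H78.G40.Nc3bS.eq_unfold.{0}) | (have := @Cfsg.Agent.H78.G40.Nc3bS.eq_unfold) | skip
  first | (have := @Cfsg.Agent.H78.G40.Nc3bS.congr_simp.{0}) | (have := @Cfsg.Agent.H78.G40.Nc3bS.congr_simp) | skip
  first | (have := @Cfsg.Agent.H78.G40.F3aS.eq_def.{0}) | (have := @Cfsg.Agent.H78.G40.F3aS.eq_def) | skip
  first | (have := @Cfsg.Agent.H78.G40.F3aS.eq_1.{0}) | (have := @Cfsg.Agent.H78.G40.F3aS.eq_1) | skip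
  first | (have := @Cfsg.Agent.H78.G40.F3aS.eq_unfold.{0}) | (have := @Cfsg.Agent.H78.G40.F3aS.eq_unfold) | skip
  first | (have := @Cfsg.Agent.H78.G40.F3aS.congr_simp.{0}) | (have := @Cfsg.Agent.H78.G40.F3aS.congr_simp) | skip
  first | (have := @Cfsg.Agent.H78.G40.F3bS.eq_def.{0}) | (have := @Cfsg.Agent.H78.G40.F3bS.eq_def) | skip
  first | (have := @Cfsg.Agent.H78.G40.F3bS.eq_1.{0}) | (have := @Cfsg.Agent.H78.G40.F3bS.eq_1) | skip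
  first | (have := @Cfsg.Agent.H78.G40.F3bS.eq_unfold.{0}) | (have := @Cfsg.Agent.H78.G40.F3bS.eq_unfold) | skip
  first | (have := @Cfsg.Agent.H78.G40.F3bS.congr_simp.{0}) | (have := @Cfsg.Agent.H78.G40.F3bS.congr_simp) | skip
  first | (have := @Cfsg.Agent.H78.G40.Fz3aS.eq_def.{0}) | (have := @Cfsg.Agent.H78.G40.Fz3aS.eq_def) | skip
  first | (have := @Cfsg.Agent.H78.G40.Fz3aS.eq_1.{0}) | (have := @Cfsg.Agent.H78.G40.Fz3aS.eq_1) | skip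
  first | (have := @Cfsg.Agent.H78.G40.Fz3aS.eq_unfold.{0}) | (have := @Cfsg.Agent.H78.G40.Fz3aS.eq_unfold) | skip
  first | (have := @Cfsg.Agent.H78.G40.Fz3aS.congr_simp.{0}) | (have := @Cfsg.Agent.H78.G40.Fz3aS.congr_simp) | skip
  first | (have := @Cfsg.Agent.H78.G40.Fz3bS.eq_def.{0}) | (have := @Cfsg.Agent.H78.G40.Fz3bS.eq_def) | skip
  first | (have := @Cfsg.Agent.H78.G40.Fz3bS.eq_1.{0}) | (have := @Cfsg.Agent.H78.G40.Fz3bS.eq_1) | skip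
  first | (have := @Cfsg.Agent.H78.G40.Fz3bS.eq_unfold.{0}) | (have := @Cfsg.Agent.H78.G40.Fz3bS.eq_unfold) | skip
  first | (have := @Cfsg.Agent.H78.G40.Fz3bS.congr_simp.{0}) | (have := @Cfsg.Agent.H78.G40.Fz3bS.congr_simp) | skip
  first | (have := @Cfsg.Agent.H78.G40.ZuS.eq_def.{0}) | (have := @Cfsg.Agent.H78.G40.ZuS.eq_def) | skip
  first | (have := @Cfsg.Agent.H78.G40.ZuS.eq_1.{0}) | (have := @Cfsg.Agent.H78.G40.ZuS.eq_1) | skip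
  first | (have := @Cfsg.Agent.H78.G40.ZuS.eq_unfold.{0}) | (have := @Cfsg.Agent.H78.G40.ZuS.eq_unfold) | skip
  first | (have := @Cfsg.Agent.H78.G40.ZuS.congr_simp.{0}) | (have := @Cfsg.Agent.H78.G40.ZuS.congr_simp) | skip
  first | (have := @Cfsg.Agent.H78.G40.Cv1S.eq_def.{0}) | (have := @Cfsg.Agent.H78.G40.Cv1S.eq_def) | skip
  first | (have := @Cfsg.Agent.H78.G40.Cv1S.eq_1.{0}) | (have := @Cfsg.Agent.H78.G40.Cv1S.eq_1) | skip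
  first | (have := @Cfsg.Agent.H78.G40.Cv1S.eq_unfold.{0}) | (have := @Cfsg.Agent.H78.G40.Cv1S.eq_unfold) | skip
  first | (have := @Cfsg.Agent.H78.G40.Cv1S.congr_simp.{0}) | (have := @Cfsg.Agent.H78.G40.Cv1S.congr_simp) | skip
  first | (have := @Cfsg.Agent.H78.G40.Zu1S.eq_def.{0}) | (have := @Cfsg.Agent.H78.G40.Zu1S.eq_def) | skip
  first | (have := @Cfsg.Agent.H78.G40.Zu1S.eq_1.{0}) | (have := @Cfsg.Agent.H78.G40.Zu1S.eq_1) | skip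
  first | (have := @Cfsg.Agent.H78.G40.Zu1S.eq_unfold.{0}) | (have := @Cfsg.Agent.H78.G40.Zu1S.eq_unfold) | skip
  first | (have := @Cfsg.Agent.H78.G40.Zu1S.congr_simp.{0}) | (have := @Cfsg.Agent.H78.G40.Zu1S.congr_simp) | skip
  first | (have := @Cfsg.Agent.H78.G40.Tr1S.eq_def.{0}) | (have := @Cfsg.Agent.H78.G40.Tr1S.eq_def) | skip
  first | (have := @Cfsg.Agent.H78.G40.Tr1S.eq_1.{0}) | (have := @Cfsg.Agent.H78.G40.Tr1S.eq_1) | skip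
  first | (have := @Cfsg.Agent.H78.G40.Tr1S.eq_unfold.{0}) | (have := @Cfsg.Agent.H78.G40.Tr1S.eq_unfold) | skip
  first | (have := @Cfsg.Agent.H78.G40.Tr1S.congr_simp.{0}) | (have := @Cfsg.Agent.H78.G40.Tr1S.congr_simp) | skip
  first | (have := @Cfsg.Agent.H78.G40.Cz1aS.eq_def.{0}) | (have := @Cfsg.Agent.H78.G40.Cz1aS.eq_def) | skip
  first | (have := @Cfsg.Agent.H78.G40.Cz1aS.eq_1.{0}) | (have := @Cfsg.Agent.H78.G40.Cz1aS.eq_1) | skip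
  first | (have := @Cfsg.Agent.H78.G40.Cz1aS.eq_unfold.{0}) | (have := @Cfsg.Agent.H78.G40.Cz1aS.eq_unfold) | skip
  first | (have := @Cfsg.Agent.H78.G40.Cz1aS.congr_simp.{0}) | (have := @Cfsg.Agent.H78.G40.Cz1aS.congr_simp) | skip
  first | (have := @Cfsg.Agent.H78.G40.Cz1bS.eq_def.{0}) | (have := @Cfsg.Agent.H78.G40.Cz1bS.eq_def) | skip
  first | (have := @Cfsg.Agent.H78.G40.Cz1bS.eq_1.{0}) | (have := @Cfsg.Agent.H78.G40.Cz1bS.eq_1) | skip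
  first | (have := @Cfsg.Agent.H78.G40.Cz1bS.eq_unfold.{0}) | (have := @Cfsg.Agent.H78.G40.Cz1bS.eq_unfold) | skip
  first | (have := @Cfsg.Agent.H78.G40.Cz1bS.congr_simp.{0}) | (have := @Cfsg.Agent.H78.G40.Cz1bS.congr_simp) | skip
  first | (have := @Cfsg.Agent.H78.G40.Cv2aS.eq_def.{0}) | (have := @Cfsg.Agent.H78.G40.Cv2aS.eq_def) | skip
  first | (have := @Cfsg.Agent.H78.G40.Cv2aS.eq_1.{0}) | (have := @Cfsg.Agent.H78.G40.Cv2aS.eq_1) | skip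
  first | (have := @Cfsg.Agent.H78.G40.Cv2aS.eq_unfold.{0}) | (have := @Cfsg.Agent.H78.G40.Cv2aS.eq_unfold) | skip
  first | (have := @Cfsg.Agent.H78.G40.Cv2aS.congr_simp.{0}) | (have := @Cfsg.Agent.H78.G40.Cv2aS.congr_simp) | skip
  first | (have := @Cfsg.Agent.H78.G40.Cv2bS.eq_def.{0}) | (have := @Cfsg.Agent.H78.G40.Cv2bS.eq_def) | skip
  first | (have := @Cfsg.Agent.H78.G40.Cv2bS.eq_1.{0}) | (have := @Cfsg.Agent.H78.G40.Cv2bS.eq_1) | skip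
  first | (have := @Cfsg.Agent.H78.G40.Cv2bS.eq_unfold.{0}) | (have := @Cfsg.Agent.H78.G40.Cv2bS.eq_unfold) | skip
  first | (have := @Cfsg.Agent.H78.G40.Cv2bS.congr_simp.{0}) | (have := @Cfsg.Agent.H78.G40.Cv2bS.congr_simp) | skip
  first | (have := @Cfsg.Agent.H78.G40.Cv2cS.eq_def.{0}) | (have := @Cfsg.Agent.H78.G40.Cv2cS.eq_def) | skip
  first | (have := @Cfsg.Agent.H78.G40.Cv2cS.eq_1.{0}) | (have := @Cfsg.Agent.H78.G40.Cv2cS.eq_1) | skip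
  first | (have := @Cfsg.Agent.H78.G40.Cv2cS.eq_unfold.{0}) | (have := @Cfsg.Agent.H78.G40.Cv2cS.eq_unfold) | skip
  first | (have := @Cfsg.Agent.H78.G40.Cv2cS.congr_simp.{0}) | (have := @Cfsg.Agent.H78.G40.Cv2cS.congr_simp) | skip
  first | (have := @Cfsg.Agent.H78.G40.Cv3S.eq_def.{0}) | (have := @Cfsg.Agent.H78.G40.Cv3S.eq_def) | skip
  first | (have := @Cfsg.Agent.H78.G40.Cv3S.eq_1.{0}) | (have := @Cfsg.Agent.H78.G40.Cv3S.eq_1) | skip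
  first | (have := @Cfsg.Agent.H78.G40.Cv3S.eq_unfold.{0}) | (have := @Cfsg.Agent.H78.G40.Cv3S.eq_unfold) | skip
  first | (have := @Cfsg.Agent.H78.G40.Cv3S.congr_simp.{0}) | (have := @Cfsg.Agent.H78.G40.Cv3S.congr_simp) | skip
  first | (have := @Cfsg.Agent.H78.G40.Ci3S.eq_def.{0}) | (have := @Cfsg.Agent.H78.G40.Ci3S.eq_def) | skip
  first | (have := @Cfsg.Agent.H78.G40.Ci3S.eq_1.{0}) | (have := @Cfsg.Agent.H78.G40.Ci3S.eq_1) | skip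
  first | (have := @Cfsg.Agent.H78.G40.Ci3S.eq_unfold.{0}) | (have := @Cfsg.Agent.H78.G40.Ci3S.eq_unfold) | skip
  first | (have := @Cfsg.Agent.H78.G40.Ci3S.congr_simp.{0}) | (have := @Cfsg.Agent.H78.G40.Ci3S.congr_simp) | skip
  trivial

end Cfsg.Agent.H78.G40
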