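import Cfsg.Agent.H46.L40Defs
import Cfsg.Agent.H46.TDefs

/-! Project L40G (row S3140, the chapters with `o = false`), part A: frames and general pieces.
Paper proof: `stubs/notes/h78_s3140.md`.  Conjugation is `g * x * g⁻¹` throughout. -/

set_option autoImplicit false
set_option linter.unusedSectionVars false

noncomputable section

namespace Cfsg.Agent.H78.G40

open Subgroup Cfsg.Agent.H83 Cfsg.Agent.H46.L40
open Cfsg.Agent.H46.S94 (Cx AS Wr XX H0 EK Ind Base Inn OiF EKStmt E4Stmt E6Stmt TTStmt)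

universe u

local notation "C[" A "]" => Subgroup.centralizer (SetLike.coe A)
local notation "N[" A "]" => Subgroup.normalizer (SetLike.coe A)

/-- the centraliser of an element -/
abbrev Cz {G : Type u} [Group G] (a : G) : Subgroup G := centralizer {a}

def x12 : S3 := ⟨!![1, 1, 0; 0, 1, 0; 0, 0, 1], by decide⟩
def x21 : S3 := ⟨!![1, 0, 0; 1, 1, 0; 0, 0, 1], by decide⟩
def x23 : S3 := ⟨!![1, 0, 0; 0, 1, 1; 0, 0, 1], by decide⟩
def x32 : S3 := ⟨!![1, 0, 0; 0, 1, 0; 0, 1, 1], by decide⟩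
def n23 : S3 := ⟨!![1, 0, 0; 0, 0, 1; 0, 2, 0], by decide⟩
/-- order 8, fixes `z0`, sends `a0` to `w0 * a0` -/
def y8 : S3 := ⟨!![1, 1, 0; 2, 1, 0; 0, 0, 2], by decide⟩
/-- `SL₂(3)` in the upper block -/
def K12 : Subgroup S3 := Subgroup.closure {x12, x21}
/-- the four-group of diagonal matrices -/
def V0 : Subgroup S3 := Subgroup.closure {z0, a0}
/-- the four possible actions -/
def Act4 (c : S3) : Prop := c = 1 ∨ c = a0 ∨ c = w0 * a0 ∨ c = w0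

/-- facts on `S3` -/
structure Kit : Prop where
  base : Base S3
  card : Nat.card S3 = 5616
  aut : AutS
  inv : ∀ m : S3, m * m = 1 → m ≠ 1 → IsConj z0 m
  gr : ∀ c : S3, c * tr c = 1 → ∃ d, c = d * (tr d)⁻¹
  cz : ∀ m : S3, m * z0 = z0 * m → m ∈ Subgroup.closure ({x12, x21, a0} : Set S3)
  cv : ∀ m : S3, m * z0 = z0 * m → m * a0 = a0 * m → m ∈ V0
  gen : Subgroup.closure ({x12, x21, x23, x32} : Set S3) = ⊤
  gen2 : Subgroup.closure ({w0, n23, y8 * n23 * y8⁻¹} : Set S3) = ⊤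

def KitAS : Prop := Base S3 ∧ Nat.card S3 = 5616 ∧ OiF S3 4
def KitBS : Prop := (∀ m : S3, m * m = 1 → m ≠ 1 → IsConj z0 m) ∧
  ∀ c : S3, c * tr c = 1 → ∃ d, c = d * (tr d)⁻¹
def KitCS : Prop := (∀ m : S3, m * z0 = z0 * m → m ∈ Subgroup.closure ({x12, x21, a0} : Set S3)) ∧
  (∀ m : S3, m * z0 = z0 * m → m * a0 = a0 * m → m ∈ V0) ∧
  Subgroup.closure ({x12, x21, x23, x32} : Set S3) = ⊤ ∧ Subgroup.closure ({w0, n23, y8 * n23 * y8⁻¹} : Set S3) = ⊤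

section Frames
variable {G : Type u} [Group G]

/-- `x` is a 2-element -/
def Two (x : G) : Prop := ∃ n : ℕ, x ^ 2 ^ n = 1

/-- the graph automorphism (or `1`) -/
structure Gam (φ : S3 →* G) (t γ : G) (O : Subgroup G) : Prop where
  gg : γ * γ = 1
  gt : γ * t = t * γ
  act : γ = 1 ∨ ∀ x, γ * φ x * γ⁻¹ = φ (tr x)
  cov : ∀ c, c * t = t * c → ∃ m, ∃ o ∈ O,
    c = φ m * o ∨ c = φ m * o * t ∨ c = φ m * o * γ ∨ c = φ m * o * t * γ

/-- the relations of the amalgam -/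
structure Rl (φ : S3 →* G) (s t : G) (act : S3) : Prop where
  tt : t * t = 1
  tL : ∀ m, t * φ m = φ m * t
  ss : s * s = φ z0
  st : s * t * s⁻¹ = t * φ z0
  sa : s * φ a0 * s⁻¹ = φ (a0 * z0)
  s12 : s * φ x12 * s⁻¹ = φ (act * x12 * act⁻¹)
  s21 : s * φ x21 * s⁻¹ = φ (act * x21 * act⁻¹)
  br : s * φ n23 * s = φ n23 * s * φ n23

/-- the root elements of the second copy -/
def uu (φ : S3 →* G) (s : G) : G := φ n23 * s * φ x23 * (φ n23 * s)⁻¹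
def uv (φ : S3 →* G) (s : G) : G := φ n23 * s * φ x32 * (φ n23 * s)⁻¹

/-- the action of `w0` on them when the second action is not `a0` -/
def Bad2 (φ : S3 →* G) (s : G) : Prop :=
  (φ w0 * uu φ s * (φ w0)⁻¹ = uu φ s ∧ φ w0 * uv φ s * (φ w0)⁻¹ = uv φ s) ∨
  (φ w0 * uu φ s * (φ w0)⁻¹ = (uv φ s)⁻¹ ∧ φ w0 * uv φ s * (φ w0)⁻¹ = (uu φ s)⁻¹) ∨
  (φ w0 * uu φ s * (φ w0)⁻¹ = uv φ s ∧ φ w0 * uv φ s * (φ w0)⁻¹ = uu φ s)

def Good2 (φ : S3 →* G) (s : G) : Prop :=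
  φ w0 * uu φ s * (φ w0)⁻¹ = (uu φ s)⁻¹ ∧ φ w0 * uv φ s * (φ w0)⁻¹ = (uv φ s)⁻¹

/-- the relations of the parabolic subgroup in the symplectic case -/
structure Ru (φ : S3 →* G) (v t : G) : Prop where
  tt : t * t = 1
  tL : ∀ m, t * φ m = φ m * t
  v3 : v ^ 3 = 1
  tv : t * v * t = v⁻¹
  c32 : v * φ x32 = φ x32 * v
  c1 : v * (v * φ x23 * v⁻¹ * (φ x23)⁻¹) = v * φ x23 * v⁻¹ * (φ x23)⁻¹ * v
  c2 : φ x23 * (v * φ x23 * v⁻¹ * (φ x23)⁻¹) = v * φ x23 * v⁻¹ * (φ x23)⁻¹ * φ x23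
  av : φ a0 * v * (φ a0)⁻¹ = v⁻¹
  zv : φ z0 * v = v * φ z0
  wv : φ w0 * v * (φ w0)⁻¹ = v⁻¹

/-- the group generated by the image of `φ` and a set -/
abbrev Gn (φ : S3 →* G) (S : Set G) : Subgroup G := Subgroup.closure (Set.range φ ∪ S)

end Frames

/-- the element `β` -/
structure Bt (G : Type u) [Group G] extends Fr G where
  O : Subgroup G
  β : G
  γ : G
  cx : Cx φ t O
  gam : Gam φ t γ O
  nz : ¬ IsConj t (φ z0)
  βt : β * t * β⁻¹ = t * φ z0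
  βz : β * φ z0 = φ z0 * β
  βw : β * φ w0 = φ w0 * β
  βq : β * φ q0 = φ q0 * β
  βa : β * φ a0 = φ a0 * β ∨ (γ = 1 ∧ β * φ a0 * β⁻¹ = φ (a0 * z0))
  γβ : γ * β = β * γ

/-- the second copy `φ2` of `L`, centralized by `t a` -/
structure Dat (G : Type u) [Group G] extends Fr G where
  O : Subgroup G
  γ : G
  φ2 : S3 →* G
  act : S3
  act2 : S3
  cx : Cx φ t O
  gam : Gam φ t γ O
  nz : ¬ IsConj t (φ z0)
  inj2 : Function.Injective φ2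
  e23 : φ2 x23 = φ x23
  e32 : φ2 x32 = φ x32
  ez : φ2 z0 = φ z0
  ta : ∀ m, t * φ a0 * φ2 m = φ2 m * (t * φ a0)
  cO : ∀ o ∈ O, ∀ m, o * φ2 m = φ2 m * o
  X2 : ∀ m, φ2 m ∈ X
  ha : Act4 act
  ha2 : Act4 act2
  rl : Rl φ (φ2 w0) t act
  n12 : φ w0 * φ2 x12 * (φ w0)⁻¹ = φ2 (act2 * x12 * act2⁻¹)
  n21 : φ w0 * φ2 x21 * (φ w0)⁻¹ = φ2 (act2 * x21 * act2⁻¹)
  gs : γ * φ2 w0 = φ2 w0 * γ

namespace Dat
variable {G : Type u} [Group G] (d : Dat G)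
abbrev s : G := d.φ2 w0
/-- the amalgam -/
abbrev R : Subgroup G := Gn d.φ {d.φ2 w0}
abbrev z : G := d.φ z0
abbrev a : G := d.φ a0
abbrev V : Subgroup G := V0.map d.φ
end Dat

section Env
variable {G : Type u} [Group G]

abbrev PP (R : Subgroup G) : Subgroup G := R ⊔ C[R]

structure Env (R : Subgroup G) (t γ : G) (F : Subgroup G) : Prop where
  as : AS F
  le : R ≤ F
  cov0 : ∀ g, g ∈ F ∨ g * t ∈ F
  tt : t * t = 1
  t1 : t ≠ 1
  gg : γ * γ = 1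
  gt : γ * t = t * γ
  tN : t ∈ N[R]
  gN : γ ∈ N[R]
  odd : Odd (Nat.card C[R])
  zr : R ⊓ C[R] = ⊥
  cov : ∀ c, c * t = t * c → ∃ r ∈ R, ∃ o ∈ C[R],
    c = r * o ∨ c = r * o * t ∨ c = r * o * γ ∨ c = r * o * t * γ
  cls : ∀ r ∈ R, r * t * (r * t) = 1 → ∃ y ∈ R, r * t = y * t * y⁻¹
  nc0 : ∀ r ∈ R, ¬ IsConj t r
  nc1 : γ = 1 ∨ ∀ r ∈ R, ¬ IsConj t (r * γ) ∧ ¬ IsConj t (r * γ * t)

structure Fn (R : Subgroup G) (t : G) (F : Subgroup G) : Prop where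
  as : AS F
  le : R ≤ F
  pF : PP R ≤ F
  tt : t * t = 1
  tN : t ∈ N[R]
  tF : t ∉ F
  odd : Odd (Nat.card C[R])
  zr : R ⊓ C[R] = ⊥
  uf : ∀ g ∈ F, ∀ p ∈ PP R, g * t * g⁻¹ = p * t → g ∈ PP R
  two : ∀ p ∈ PP R, Two p → p ∈ R
  ct : ∀ r ∈ R, r * t * (r * t) = 1 → ∀ c ∈ F, c * (r * t) = r * t * c → c ∈ PP R
  syl : ∀ T, IsSylowIn 2 T R → IsSylowIn 2 T F

/-- `N` has a normal 2-complement -/
def NC2 (N : Subgroup G) : Prop :=
  ∃ I ≤ N, Odd (Nat.card I) ∧ ∀ x ∈ N, Odd (orderOf x) → x ∈ I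

/-- `Y / (Y ∩ Z)` is a non-abelian simple group whose order is not `m! / 2`, except for `m = 6` -/
def Sq (Y Z : Subgroup G) : Prop :=
  ∃ (W : Type) (_ : Group W) (π : Y →* W), Function.Surjective π ∧ (∀ y : Y, π y = 1 ↔ (y : G) ∈ Z) ∧
    IsSimpleGroup W ∧ ¬ IsMulCommutative W ∧ ∀ m : ℕ, 2 * Nat.card W = m.factorial → m = 6

/-- elementary abelian Sylow subgroup with distinguished four-groups -/
structure PrD {ι : Type} (N A U : Subgroup G) (S : Finset ι) (Q : ι → Subgroup G) (κ : ι → G) (τ : G) :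
    Prop where
  syl : IsSylowIn 2 A N
  el : ∀ x ∈ A, x * x = 1
  UA : U ≤ A
  QA : ∀ i ∈ S, Q i ≤ A
  c4 : ∀ i ∈ S, Nat.card (Q i) = 4
  gen : A ≤ U ⊔ ⨆ i ∈ S, Q i
  nQ : ∀ n ∈ N, n ∈ N[A] → ∀ i ∈ S, n ∈ N[Q i]
  cU : ∀ n ∈ N, n ∈ N[A] → n ∈ C[U]
  κN : ∀ i ∈ S, κ i ∈ N
  κA : ∀ i ∈ S, κ i ∈ N[A]
  κ3 : ∀ i ∈ S, ∀ x ∈ Q i, κ i * x = x * κ i → x = 1
  κc : ∀ i ∈ S, ∀ j ∈ S, i ≠ j → κ i ∈ C[Q j]
  ττ : τ * τ = 1
  τN : τ ∈ N[N]
  τn : τ ∉ N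
  τA : τ ∈ N[A]
  τQ : ∀ i ∈ S, τ ∈ N[Q i] ∧ τ ∉ C[Q i]
  H : ∀ y ∈ N, y * y = 1 → y * τ = τ * y → y ∈ A

end Env

/-- the situation after the transfer -/
structure Sit (G : Type u) [Group G] extends Dat G where
  fn : Fn toDat.R t X

section Model
variable {X : Type} [Group X]

/-- the model -/
structure Mo (e : S3 →* X) (σ : X) (τ θ : MulAut X) (act : S3) : Prop where
  fin : Finite X
  simple : IsSimpleGroup X
  nc : ¬ IsMulCommutative X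
  gen : Gn e {σ} = ⊤
  ss : σ * σ = e z0
  sa : σ * e a0 * σ⁻¹ = e (a0 * z0)
  s12 : σ * e x12 * σ⁻¹ = e (act * x12 * act⁻¹)
  s21 : σ * e x21 * σ⁻¹ = e (act * x21 * act⁻¹)
  br : σ * e n23 * σ = e n23 * σ * e n23
  τe : ∀ m, τ (e m) = e m
  τs : τ σ = σ⁻¹
  τo : ¬ Inn τ
  θe : ∀ m, θ (e m) = e (tr m)
  θs : θ σ = σ

structure Tie {G : Type u} [Group G] (d : Dat G) (e : S3 →* X) (σ : X) (τ θ : MulAut X) (ψ : X →* G) :
    Prop where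
  inj : Function.Injective ψ
  he : ∀ m, ψ (e m) = d.φ m
  hs : ψ σ = d.φ2 w0
  rg : ψ.range = d.R
  ht : ∀ x, d.t * ψ x * d.t = ψ (τ x)
  hg : d.γ = 1 ∨ ∀ x, d.γ * ψ x * d.γ⁻¹ = ψ (θ x)

/-- the fixed points of `α` are too large for the centraliser of a conjugate of `t` -/
def Cert (n : ℕ) (α : MulAut X) : Prop :=
  (∃ P : Subgroup X, IsPGroup 2 P ∧ n ≤ Nat.card P ∧ ∀ y ∈ P, α y = y) ∨
  ∃ (p q : X) (k : ℕ), (k = 5 ∨ k = 7) ∧ p ≠ 1 ∧ p * p = 1 ∧ q ^ 3 = 1 ∧ (p * q) ^ k = 1 ∧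
    α p = p ∧ α q = q

def ClsF (τ : MulAut X) : Prop := ∀ x, x * τ x = 1 → ∃ y, x = y * (τ y)⁻¹
def Nc0F (e : S3 →* X) : Prop :=
  ∀ x : X, x * x = 1 → x ≠ 1 → IsConj (e z0) x ∨ Cert 128 (MulAut.conj x)
def NcF (α : MulAut X) : Prop := ∀ x, x * α x = 1 → Cert 64 (MulAut.conj x * α)

/-- the data for the centraliser of `z` (symplectic and field case) -/
structure FZ (e : S3 →* X) (Z Y T : Subgroup X) : Prop where
  zZ : e z0 ∈ Z
  Z2 : IsPGroup 2 Z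
  ZT : Z ≤ T
  Yz : Y ≤ Cz (e z0)
  nY : Cz (e z0) ≤ N[Y]
  sq : Sq Y Z
  aY : e a0 ∈ Y
  aZ : e a0 ∉ Z
  syl : IsSylowIn 2 T ⊤
  Tz : T ≤ Cz (e z0)
  aT : e a0 ∈ T
  ca : ∀ x ∈ T, x * e a0 * x⁻¹ * (e a0)⁻¹ ∈ Z
  fus : ∀ x, IsConj (e z0) x → x * e z0 = e z0 * x → x ≠ e z0 →
    ∃ p, p * e z0 = e z0 * p ∧ x = p * e a0 * p⁻¹

end Model

/-! ### frames -/

def CxS : Prop := ∀ (G : Type u) [Group G] [Finite G] (f : Fr G), ∃ O, Cx f.φ f.t O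

def BtS : Prop := CxS.{u} →
  (∀ (G : Type u) [Group G] [Finite G] (e : Bool) (f : Fr1 G e), ∃ b : Bt G, b.X = f.X) ∧
  ∀ (G : Type u) [Group G] [Finite G] (f : Fr2 G false), ∃ b : Bt G, b.X = f.X

def NkS : Prop := Kit → ∀ (G : Type u) [Group G] [Finite G] (φ : S3 →* G) (t : G) (O : Subgroup G),
  Cx φ t O → ∀ g, g * t * g⁻¹ = t * φ z0 → g * φ z0 = φ z0 * g → g ∈ N[O] ∧ g ∈ N[K12.map φ]

def ActS : Prop := ∀ (G : Type u) [Group G] (φ : S3 →* G), Function.Injective φ → ∀ s, s ∈ N[K12.map φ] →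
  (s * φ a0 * s⁻¹ = φ (a0 * z0) → ∃ c, Act4 c ∧ s * φ x12 * s⁻¹ = φ (c * x12 * c⁻¹) ∧
    s * φ x21 * s⁻¹ = φ (c * x21 * c⁻¹)) ∧
  (s * φ w0 = φ w0 * s → s * φ q0 = φ q0 * s → s * φ x12 = φ x12 * s ∧ s * φ x21 = φ x21 * s)

def SdS : Prop := Kit → NkS.{u} → ActS.{u} →
  ∀ (G : Type u) [Group G] [Finite G] (b : Bt G), ∃ d : Dat G, d.X = b.X

def OddS : Prop := ∀ (G : Type u) [Group G] [Finite G] (d : Dat G), Odd (Nat.card C[d.R]) ∧ d.t ∈ N[d.R] ∧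
  d.γ ∈ N[d.R] ∧ d.O ≤ C[d.R] ∧ d.R ≤ d.X ∧ AS d.X ∧
  uu d.φ d.s = d.φ2 x12 ∧ uv d.φ d.s = d.φ2 x21 ∧ (d.act2 = a0 → Good2 d.φ d.s ∧ Ru d.φ (uu d.φ d.s) d.t) ∧
  (d.act2 ≠ a0 → Bad2 d.φ d.s)

def NcS : Prop := Kit → ∀ (G : Type u) [Group G] [Finite G] (φ : S3 →* G) (t : G) (O : Subgroup G),
  Cx φ t O → ∀ y, IsConj t y → (∀ P ≤ Cz y, IsPGroup 2 P → Nat.card P ≤ 64) ∧
    ∀ (p q : G) (k : ℕ), (k = 5 ∨ k = 7) → p * y = y * p → q * y = y * q → p * p = 1 → q ^ 3 = 1 →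
      (p * q) ^ k = 1 → p = 1

/-! ### coset enumerations -/

def CeS (act : S3) (n : ℕ) : Prop := ∀ (H : Type u) [Group H] [Finite H] (φ : S3 →* H) (s t : H),
  Rl φ s t act → Nat.card (Gn φ {s, t}) ≤ n * 11232
def Ce1S : Prop := CeS.{u} 1 1080
def Ce3S : Prop := CeS.{u} (w0 * a0) 7560
def Ce4S : Prop := CeS.{u} w0 5616
def Ce2aS : Prop := ∀ (H : Type u) [Group H] (φ : S3 →* H) (s t : H), Rl φ s t a0 → Bad2 φ s → φ z0 = 1
def Ce2bS : Prop := ∀ (H : Type u) [Group H] [Finite H] (φ : S3 →* H) (s t : H), Rl φ s t a0 → Good2 φ s →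
  Nat.card (Gn φ {s, t}) ≤ 2240 * Nat.card (Gn φ {uu φ s, t})
def Ce2cS : Prop := ∀ (H : Type u) [Group H] [Finite H] (φ : S3 →* H) (v t : H), Ru φ v t →
  Nat.card (Gn φ {v, t}) ≤ 729 * 11232

/-- identification by a model with trivial centre -/
def IdS : Prop := Kit → ∀ (X : Type) [Group X] (e : S3 →* X) (σ : X) (τ θ : MulAut X) (act : S3) (n : ℕ),
  Mo e σ τ θ act → CeS.{u} act n → 2 * Nat.card X = n * 11232 →
  ∀ (G : Type u) [Group G] [Finite G] (d : Dat G), d.act = act → ∃ ψ, Tie d e σ τ θ ψ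

def Id4S : Prop := Kit → Ce4S.{u} → ∀ (G : Type u) [Group G] [Finite G] (d : Dat G), d.act = w0 →
  ∃ B, Wr d.φ d.t B

/-! ### transfer -/

def EnvS : Prop := Kit → OddS.{u} → NcS.{u} →
  ∀ (X : Type) [Group X] (e : S3 →* X) (σ : X) (τ θ : MulAut X) (act : S3), Mo e σ τ θ act →
  ClsF τ → Nc0F e → (Inn θ ∨ (NcF θ ∧ NcF (θ * τ))) →
  ∀ (G : Type u) [Group G] [Finite G] (d : Dat G) (ψ : X →* G), Tie d e σ τ θ ψ →
    ∃ γ, Env d.R d.t γ d.X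

def GenS : Prop := TTStmt.{u} → ∀ (G : Type u) [Group G] [Finite G] (R F : Subgroup G) (t γ : G),
  Env R t γ F → Fn R t F

/-! ### general lemmas -/

def DihS : Prop := ∀ (G : Type u) [Group G] [Finite G] (R F : Subgroup G) (t : G), Fn R t F →
  ∀ N ≤ F, t ∈ N[N] → (∀ A, t ∈ N[A] → IsSylowIn 2 A (N ⊓ R) → IsSylowIn 2 A N) ∧
    ∃ A, t ∈ N[A] ∧ IsSylowIn 2 A (N ⊓ R)

def NcjS : Prop := DihS.{u} → ∀ (G : Type u) [Group G] [Finite G] (R F : Subgroup G) (t : G), Fn R t F →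
  ∀ (x y : G) (T : Subgroup G), IsSylowIn 2 T R → T ≤ Cz x → (t * y * t = y ∨ t * y * t = y⁻¹) →
  (∀ S, IsSylowIn 2 S R → ¬ S ≤ Cz y) → ∀ g ∈ F, g * x * g⁻¹ ≠ y

def Odd4S : Prop := ∀ (G : Type u) [Group G] [Finite G] (S : Sit G), S.X ⊓ C[S.V] ≤ PP S.R →
  ∀ I ≤ S.X, Odd (Nat.card I) → S.t ∈ N[I] → S.a ∈ N[I] → I ≤ Cz S.z → I ≤ PP S.R

def OddIS : Prop := ∀ (G : Type u) [Group G] [Finite G] (S : Sit G) (I : Subgroup G), I ≤ S.X →
  Odd (Nat.card I) → S.t ∈ N[I] → S.φ w0 ∈ N[I] → S.φ n23 ∈ N[I] → S.s ∈ N[I] → I ≤ C[S.V] →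
  I ⊓ PP S.R ≤ C[S.R] → S.φ w0 ∈ C[I] ∧ S.φ n23 ∈ C[I] ∧ S.s ∈ C[I]

def CvgS : Prop := Kit → DihS.{u} → OddIS.{u} → ∀ (G : Type u) [Group G] [Finite G] (S : Sit G),
  NC2 (S.X ⊓ C[S.V]) → (∀ r ∈ S.R, r ∈ C[S.V] → Two r) → S.X ⊓ C[S.V] ≤ PP S.R

def PrtS : Prop := ∀ (G : Type u) [Group G] [Finite G] (ι : Type) (N A U : Subgroup G) (S : Finset ι)
  (Q : ι → Subgroup G) (κ : ι → G) (τ : G), PrD N A U S Q κ τ →
  ∃ N0 ≤ N, N ≤ N[N0] ∧ τ ∈ N[N0] ∧ N0 ⊓ A = (⨆ i ∈ S, Q i) ∧ N ≤ N0 ⊔ A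

def StepS : Prop := ∀ (G : Type u) [Group G] [Finite G] (N0 Q : Subgroup G) (τ : G), τ * τ = 1 →
  τ ∈ N[N0] → τ ∉ N0 → τ ∈ N[Q] → Q ≤ N0 → (∀ y ∈ N0, y * y = 1 → y * τ = τ * y → y ∈ Q) →
  (∀ c ∈ Q, c * τ = τ * c → ∃ x ∈ Q, τ * c = x * τ * x⁻¹) →
  ∀ y ∈ N0, y * y = 1 → y ∈ Q ∨ ∃ c ∈ Q, c ≠ 1 ∧ c * τ = τ * c ∧ c * y = y * c

def PrkS : Prop := PrtS.{u} → StepS.{u} → ∀ (G : Type u) [Group G] [Finite G] (ι : Type)
  (N A U : Subgroup G) (S : Finset ι) (Q : ι → Subgroup G) (κ : ι → G) (τ : G), PrD N A U S Q κ τ →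
  ∀ i ∈ S, N ≤ N[Q i]

def Alt7S : Prop := ∀ (K : Type u) [Group K] (P : Subgroup K) (r : K),
  Nonempty (K ≃* alternatingGroup (Fin 7)) → Nonempty (P ≃* alternatingGroup (Fin 6)) → orderOf r = 2 →
  ¬ Cz r ≤ P

def GhS : Prop := Alt7S.{u} → ∀ (G : Type u) [Group G] [Finite G] (P Y : Subgroup G) (r : G),
  (∀ I : Subgroup G, I.Normal → Odd (Nat.card I) → I ≤ P) → Y ≤ P → P ≤ N[Y] → Sq Y ⊥ → r ∈ Y →
  Cfsg.IsTwoCentralInvolution r → (∀ g, g * r * g⁻¹ ∈ P → g ∈ P) → P = ⊤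

def GhzS : Prop := GhS.{u} → ∀ (G : Type u) [Group G] [Finite G] (H P Y Z T : Subgroup G) (r : G),
  P ≤ H → Z ≤ P → Z ≤ C[H] → IsPGroup 2 Z → (∀ I ≤ H, H ≤ N[I] → Odd (Nat.card I) → I ≤ P) →
  Y ≤ P → P ≤ N[Y] → Sq Y Z → r ∈ Y → r ∉ Z → r * r ∈ Z → IsSylowIn 2 T H → r ∈ T →
  (∀ x ∈ T, x * r * x⁻¹ * r⁻¹ ∈ Z) → (∀ h ∈ H, h * r * h⁻¹ ∈ P → h ∈ P) → H ≤ P

/-- no new fusion of `z` -/
def ZU {G : Type u} [Group G] (d : Dat G) : Prop :=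
  ∀ g ∈ d.X, g * d.z * g⁻¹ ∈ d.R → ∃ r ∈ d.R, g * d.z * g⁻¹ = r * d.z * r⁻¹

def CzgS : Prop := GhzS.{u} → Odd4S.{u} →
  ∀ (X : Type) [Group X] (e : S3 →* X) (σ : X) (τ θ : MulAut X) (Z Y T : Subgroup X), FZ e Z Y T →
  ∀ (G : Type u) [Group G] [Finite G] (S : Sit G) (ψ : X →* G), Tie S.toDat e σ τ θ ψ →
  S.X ⊓ C[S.V] ≤ PP S.R → ZU S.toDat → Z.map ψ ≤ C[(S.X ⊓ Cz S.z : Subgroup G)] → S.X ⊓ Cz S.z ≤ PP S.R

def FinS : Prop := GhzS.{u} →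
  ∀ (X : Type) [Group X] (e : S3 →* X) (σ : X) (τ θ : MulAut X) (act : S3) (T : Subgroup X),
  Mo e σ τ θ act → (∀ m : ℕ, 2 * Nat.card X ≠ m.factorial) → IsSylowIn 2 T ⊤ → T ≤ Cz (e z0) →
  ∀ (G : Type u) [Group G] [Finite G] (S : Sit G) (ψ : X →* G), Tie S.toDat e σ τ θ ψ →
  ZU S.toDat → S.X ⊓ Cz S.z ≤ PP S.R → Nonempty (S.X ≃* X)

/-! ### the wreath product -/

def E3lS : Prop := Kit → NcS.{u} → ∀ (G : Type u) [Group G] [Finite G] (φ : S3 →* G) (t : G)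
  (O B : Subgroup G) (d : B →* S3), Cx φ t O → Wr φ t B → EK φ t B d → ∀ g, g * t * g⁻¹ ∉ H0 t B

def E5lS : Prop := Kit → ∀ (G : Type u) [Group G] [Finite G] (φ : S3 →* G) (t : G)
  (F O B : Subgroup G) (d : B →* S3), AS F → Cx φ t O → Wr φ t B → EK φ t B d → B ≤ F → t ∉ F →
  (∀ g, g * t * g⁻¹ ∈ N[XX t B] → g ∈ N[XX t B]) → ¬ N[XX t B] ⊓ F ≤ XX t B ⊔ C[XX t B]

def E7lS : Prop := Kit → ∀ (G : Type u) [Group G] [Finite G] (φ : S3 →* G) (t : G)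
  (F O B : Subgroup G) (d : B →* S3) (h : G) (α : MulAut S3), AS F → Cx φ t O → Wr φ t B →
  EK φ t B d → B ≤ F → t ∉ F → (∀ g, g * t * g⁻¹ ∈ N[XX t B] → g ∈ N[XX t B]) →
  N[XX t B] ⊓ F ≤ H0 t B → h ∈ H0 t B ⊓ F → h * h = 1 → h * t = t * h → Ind d h α → ¬ Inn α →
  ∀ g ∈ F, ∀ β γ, g * h * g⁻¹ ∈ H0 t B → Ind d (g * h * g⁻¹) β →
    Ind d (t * (g * h * g⁻¹) * t) γ → (Inn β ↔ Inn γ)

def EndlS : Prop := Kit → OiF S3 4 → E3lS.{u} → E5lS.{u} → E7lS.{u} →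
  ∀ (G : Type u) [Group G] [Finite G] (φ : S3 →* G) (t : G) (F O B : Subgroup G), AS F → Cx φ t O →
  Wr φ t B → φ.range ≤ F → False

theorem chkA : r0 * x12 * r0⁻¹ = x23 ∧ r0 * x21 * r0⁻¹ = x32 ∧ r0 * w0 * r0⁻¹ = n23 ∧
    w0 = x12 * x21⁻¹ * x12 ∧ n23 = x23 * x32⁻¹ * x23 ∧ n23 * n23 = a0 ∧ y8 * z0 = z0 * y8 ∧
    y8 * a0 * y8⁻¹ = w0 * a0 ∧ n23 * w0 * x23 * (n23 * w0)⁻¹ = x12 ∧ n23 * w0 * x32 * (n23 * w0)⁻¹ = x21 ∧
    tr r0 = r0 ∧ tr w0 = w0 ∧ tr n23 = n23 ∧ n23 * z0 * n23⁻¹ = z0 * a0 ∧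
    n23 * tr x23 * n23⁻¹ = x23 ∧ n23 * tr x32 * n23⁻¹ = x32 := by
  decide +kernel

set_option linter.unusedTactic false in
theorem eqns_G40A : True := by
  first | (have := @Cfsg.Agent.H78.G40.Cz.eq_def.{0}) | (have := @Cfsg.Agent.H78.G40.Cz.eq_def) | skip
  first | (have := @Cfsg.Agent.H78.G40.Cz.eq_1.{0}) | (have := @Cfsg.Agent.H78.G40.Cz.eq_1) | skip
  first | (have := @Cfsg.Agent.H78.G40.Cz.eq_unfold.{0}) | (have := @Cfsg.Agent.H78.G40.Cz.eq_unfold) | skip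
  first | (have := @Cfsg.Agent.H78.G40.Cz.congr_simp.{0}) | (have := @Cfsg.Agent.H78.G40.Cz.congr_simp) | skip
  first | (have := @Cfsg.Agent.H78.G40.x12.eq_def.{0}) | (have := @Cfsg.Agent.H78.G40.x12.eq_def) | skip
  first | (have := @Cfsg.Agent.H78.G40.x12.eq_1.{0}) | (have := @Cfsg.Agent.H78.G40.x12.eq_1) | skip
  first | (have := @Cfsg.Agent.H78.G40.x12.eq_unfold.{0}) | (have := @Cfsg.Agent.H78.G40.x12.eq_unfold) | skip
  first | (have := @Cfsg.Agent.H78.G40.x12.congr_simp.{0}) | (have := @Cfsg.Agent.H78.G40.x12.congr_simp) | skip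
  first | (have := @Cfsg.Agent.H78.G40.x21.eq_def.{0}) | (have := @Cfsg.Agent.H78.G40.x21.eq_def) | skip
  first | (have := @Cfsg.Agent.H78.G40.x21.eq_1.{0}) | (have := @Cfsg.Agent.H78.G40.x21.eq_1) | skip
  first | (have := @Cfsg.Agent.H78.G40.x21.eq_unfold.{0}) | (have := @Cfsg.Agent.H78.G40.x21.eq_unfold) | skip
  first | (have := @Cfsg.Agent.H78.G40.x21.congr_simp.{0}) | (have := @Cfsg.Agent.H78.G40.x21.congr_simp) | skip
  first | (have := @Cfsg.Agent.H78.G40.x23.eq_def.{0}) | (have := @Cfsg.Agent.H78.G40.x23.eq_def) | skip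
  first | (have := @Cfsg.Agent.H78.G40.x23.eq_1.{0}) | (have := @Cfsg.Agent.H78.G40.x23.eq_1) | skip
  first | (have := @Cfsg.Agent.H78.G40.x23.eq_unfold.{0}) | (have := @Cfsg.Agent.H78.G40.x23.eq_unfold) | skip
  first | (have := @Cfsg.Agent.H78.G40.x23.congr_simp.{0}) | (have := @Cfsg.Agent.H78.G40.x23.congr_simp) | skip
  first | (have := @Cfsg.Agent.H78.G40.x32.eq_def.{0}) | (have := @Cfsg.Agent.H78.G40.x32.eq_def) | skip
  first | (have := @Cfsg.Agent.H78.G40.x32.eq_1.{0}) | (have := @Cfsg.Agent.H78.G40.x32.eq_1) | skip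
  first | (have := @Cfsg.Agent.H78.G40.x32.eq_unfold.{0}) | (have := @Cfsg.Agent.H78.G40.x32.eq_unfold) | skip
  first | (have := @Cfsg.Agent.H78.G40.x32.congr_simp.{0}) | (have := @Cfsg.Agent.H78.G40.x32.congr_simp) | skip
  first | (have := @Cfsg.Agent.H78.G40.n23.eq_def.{0}) | (have := @Cfsg.Agent.H78.G40.n23.eq_def) | skip
  first | (have := @Cfsg.Agent.H78.G40.n23.eq_1.{0}) | (have := @Cfsg.Agent.H78.G40.n23.eq_1) | skip
  first | (have := @Cfsg.Agent.H78.G40.n23.eq_unfold.{0}) | (have := @Cfsg.Agent.H78.G40.n23.eq_unfold) | skip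
  first | (have := @Cfsg.Agent.H78.G40.n23.congr_simp.{0}) | (have := @Cfsg.Agent.H78.G40.n23.congr_simp) | skip
  first | (have := @Cfsg.Agent.H78.G40.y8.eq_def.{0}) | (have := @Cfsg.Agent.H78.G40.y8.eq_def) | skip
  first | (have := @Cfsg.Agent.H78.G40.y8.eq_1.{0}) | (have := @Cfsg.Agent.H78.G40.y8.eq_1) | skip
  first | (have := @Cfsg.Agent.H78.G40.y8.eq_unfold.{0}) | (have := @Cfsg.Agent.H78.G40.y8.eq_unfold) | skip
  first | (have := @Cfsg.Agent.H78.G40.y8.congr_simp.{0}) | (have := @Cfsg.Agent.H78.G40.y8.congr_simp) | skip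
  first | (have := @Cfsg.Agent.H78.G40.K12.eq_def.{0}) | (have := @Cfsg.Agent.H78.G40.K12.eq_def) | skip
  first | (have := @Cfsg.Agent.H78.G40.K12.eq_1.{0}) | (have := @Cfsg.Agent.H78.G40.K12.eq_1) | skip
  first | (have := @Cfsg.Agent.H78.G40.K12.eq_unfold.{0}) | (have := @Cfsg.Agent.H78.G40.K12.eq_unfold) | skip
  first | (have := @Cfsg.Agent.H78.G40.K12.congr_simp.{0}) | (have := @Cfsg.Agent.H78.G40.K12.congr_simp) | skip
  first | (have := @Cfsg.Agent.H78.G40.V0.eq_def.{0}) | (have := @Cfsg.Agent.H78.G40.V0.eq_def) | skip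
  first | (have := @Cfsg.Agent.H78.G40.V0.eq_1.{0}) | (have := @Cfsg.Agent.H78.G40.V0.eq_1) | skip
  first | (have := @Cfsg.Agent.H78.G40.V0.eq_unfold.{0}) | (have := @Cfsg.Agent.H78.G40.V0.eq_unfold) | skip
  first | (have := @Cfsg.Agent.H78.G40.V0.congr_simp.{0}) | (have := @Cfsg.Agent.H78.G40.V0.congr_simp) | skip
  first | (have := @Cfsg.Agent.H78.G40.Act4.eq_def.{0}) | (have := @Cfsg.Agent.H78.G40.Act4.eq_def) | skip
  first | (have := @Cfsg.Agent.H78.G40.Act4.eq_1.{0}) | (have := @Cfsg.Agent.H78.G40.Act4.eq_1) | skip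
  first | (have := @Cfsg.Agent.H78.G40.Act4.eq_unfold.{0}) | (have := @Cfsg.Agent.H78.G40.Act4.eq_unfold) | skip
  first | (have := @Cfsg.Agent.H78.G40.Act4.congr_simp.{0}) | (have := @Cfsg.Agent.H78.G40.Act4.congr_simp) | skip
  first | (have := @Cfsg.Agent.H78.G40.KitAS.eq_def.{0}) | (have := @Cfsg.Agent.H78.G40.KitAS.eq_def) | skip
  first | (have := @Cfsg.Agent.H78.G40.KitAS.eq_1.{0}) | (have := @Cfsg.Agent.H78.G40.KitAS.eq_1) | skip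
  first | (have := @Cfsg.Agent.H78.G40.KitAS.eq_unfold.{0}) | (have := @Cfsg.Agent.H78.G40.KitAS.eq_unfold) | skip
  first | (have := @Cfsg.Agent.H78.G40.KitAS.congr_simp.{0}) | (have := @Cfsg.Agent.H78.G40.KitAS.congr_simp) | skip
  first | (have := @Cfsg.Agent.H78.G40.KitBS.eq_def.{0}) | (have := @Cfsg.Agent.H78.G40.KitBS.eq_def) | skip
  first | (have := @Cfsg.Agent.H78.G40.KitBS.eq_1.{0}) | (have := @Cfsg.Agent.H78.G40.KitBS.eq_1) | skip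
  first | (have := @Cfsg.Agent.H78.G40.KitBS.eq_unfold.{0}) | (have := @Cfsg.Agent.H78.G40.KitBS.eq_unfold) | skip
  first | (have := @Cfsg.Agent.H78.G40.KitBS.congr_simp.{0}) | (have := @Cfsg.Agent.H78.G40.KitBS.congr_simp) | skip
  first | (have := @Cfsg.Agent.H78.G40.KitCS.eq_def.{0}) | (have := @Cfsg.Agent.H78.G40.KitCS.eq_def) | skip
  first | (have := @Cfsg.Agent.H78.G40.KitCS.eq_1.{0}) | (have := @Cfsg.Agent.H78.G40.KitCS.eq_1) | skip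
  first | (have := @Cfsg.Agent.H78.G40.KitCS.eq_unfold.{0}) | (have := @Cfsg.Agent.H78.G40.KitCS.eq_unfold) | skip
  first | (have := @Cfsg.Agent.H78.G40.KitCS.congr_simp.{0}) | (have := @Cfsg.Agent.H78.G40.KitCS.congr_simp) | skip
  first | (have := @Cfsg.Agent.H78.G40.Two.eq_def.{0}) | (have := @Cfsg.Agent.H78.G40.Two.eq_def) | skip
  first | (have := @Cfsg.Agent.H78.G40.Two.eq_1.{0}) | (have := @Cfsg.Agent.H78.G40.Two.eq_1) | skip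
  first | (have := @Cfsg.Agent.H78.G40.Two.eq_unfold.{0}) | (have := @Cfsg.Agent.H78.G40.Two.eq_unfold) | skip
  first | (have := @Cfsg.Agent.H78.G40.Two.congr_simp.{0}) | (have := @Cfsg.Agent.H78.G40.Two.congr_simp) | skip
  first | (have := @Cfsg.Agent.H78.G40.uu.eq_def.{0}) | (have := @Cfsg.Agent.H78.G40.uu.eq_def) | skip
  first | (have := @Cfsg.Agent.H78.G40.uu.eq_1.{0}) | (have := @Cfsg.Agent.H78.G40.uu.eq_1) | skip
  first | (have := @Cfsg.Agent.H78.G40.uu.eq_unfold.{0}) | (have := @Cfsg.Agent.H78.G40.uu.eq_unfold) | skip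
  first | (have := @Cfsg.Agent.H78.G40.uu.congr_simp.{0}) | (have := @Cfsg.Agent.H78.G40.uu.congr_simp) | skip
  first | (have := @Cfsg.Agent.H78.G40.uv.eq_def.{0}) | (have := @Cfsg.Agent.H78.G40.uv.eq_def) | skip
  first | (have := @Cfsg.Agent.H78.G40.uv.eq_1.{0}) | (have := @Cfsg.Agent.H78.G40.uv.eq_1) | skip
  first | (have := @Cfsg.Agent.H78.G40.uv.eq_unfold.{0}) | (have := @Cfsg.Agent.H78.G40.uv.eq_unfold) | skip
  first | (have := @Cfsg.Agent.H78.G40.uv.congr_simp.{0}) | (have := @Cfsg.Agent.H78.G40.uv.congr_simp) | skip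
  first | (have := @Cfsg.Agent.H78.G40.Bad2.eq_def.{0}) | (have := @Cfsg.Agent.H78.G40.Bad2.eq_def) | skip
  first | (have := @Cfsg.Agent.H78.G40.Bad2.eq_1.{0}) | (have := @Cfsg.Agent.H78.G40.Bad2.eq_1) | skip
  first | (have := @Cfsg.Agent.H78.G40.Bad2.eq_unfold.{0}) | (have := @Cfsg.Agent.H78.G40.Bad2.eq_unfold) | skip
  first | (have := @Cfsg.Agent.H78.G40.Bad2.congr_simp.{0}) | (have := @Cfsg.Agent.H78.G40.Bad2.congr_simp) | skip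
  first | (have := @Cfsg.Agent.H78.G40.Good2.eq_def.{0}) | (have := @Cfsg.Agent.H78.G40.Good2.eq_def) | skip
  first | (have := @Cfsg.Agent.H78.G40.Good2.eq_1.{0}) | (have := @Cfsg.Agent.H78.G40.Good2.eq_1) | skip
  first | (have := @Cfsg.Agent.H78.G40.Good2.eq_unfold.{0}) | (have := @Cfsg.Agent.H78.G40.Good2.eq_unfold) | skip
  first | (have := @Cfsg.Agent.H78.G40.Good2.congr_simp.{0}) | (have := @Cfsg.Agent.H78.G40.Good2.congr_simp) | skip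
  first | (have := @Cfsg.Agent.H78.G40.Gn.eq_def.{0}) | (have := @Cfsg.Agent.H78.G40.Gn.eq_def) | skip
  first | (have := @Cfsg.Agent.H78.G40.Gn.eq_1.{0}) | (have := @Cfsg.Agent.H78.G40.Gn.eq_1) | skip
  first | (have := @Cfsg.Agent.H78.G40.Gn.eq_unfold.{0}) | (have := @Cfsg.Agent.H78.G40.Gn.eq_unfold) | skip
  first | (have := @Cfsg.Agent.H78.G40.Gn.congr_simp.{0}) | (have := @Cfsg.Agent.H78.G40.Gn.congr_simp) | skip
  first | (have := @Cfsg.Agent.H78.G40.Dat.s.eq_def.{0}) | (have := @Cfsg.Agent.H78.G40.Dat.s.eq_def) | skip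
  first | (have := @Cfsg.Agent.H78.G40.Dat.s.eq_1.{0}) | (have := @Cfsg.Agent.H78.G40.Dat.s.eq_1) | skip
  first | (have := @Cfsg.Agent.H78.G40.Dat.s.eq_unfold.{0}) | (have := @Cfsg.Agent.H78.G40.Dat.s.eq_unfold) | skip
  first | (have := @Cfsg.Agent.H78.G40.Dat.s.congr_simp.{0}) | (have := @Cfsg.Agent.H78.G40.Dat.s.congr_simp) | skip
  first | (have := @Cfsg.Agent.H78.G40.Dat.R.eq_def.{0}) | (have := @Cfsg.Agent.H78.G40.Dat.R.eq_def) | skip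
  first | (have := @Cfsg.Agent.H78.G40.Dat.R.eq_1.{0}) | (have := @Cfsg.Agent.H78.G40.Dat.R.eq_1) | skip
  first | (have := @Cfsg.Agent.H78.G40.Dat.R.eq_unfold.{0}) | (have := @Cfsg.Agent.H78.G40.Dat.R.eq_unfold) | skip
  first | (have := @Cfsg.Agent.H78.G40.Dat.R.congr_simp.{0}) | (have := @Cfsg.Agent.H78.G40.Dat.R.congr_simp) | skip
  first | (have := @Cfsg.Agent.H78.G40.Dat.z.eq_def.{0}) | (have := @Cfsg.Agent.H78.G40.Dat.z.eq_def) | skip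
  first | (have := @Cfsg.Agent.H78.G40.Dat.z.eq_1.{0}) | (have := @Cfsg.Agent.H78.G40.Dat.z.eq_1) | skip
  first | (have := @Cfsg.Agent.H78.G40.Dat.z.eq_unfold.{0}) | (have := @Cfsg.Agent.H78.G40.Dat.z.eq_unfold) | skip
  first | (have := @Cfsg.Agent.H78.G40.Dat.z.congr_simp.{0}) | (have := @Cfsg.Agent.H78.G40.Dat.z.congr_simp) | skip
  first | (have := @Cfsg.Agent.H78.G40.Dat.a.eq_def.{0}) | (have := @Cfsg.Agent.H78.G40.Dat.a.eq_def) | skip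
  first | (have := @Cfsg.Agent.H78.G40.Dat.a.eq_1.{0}) | (have := @Cfsg.Agent.H78.G40.Dat.a.eq_1) | skip
  first | (have := @Cfsg.Agent.H78.G40.Dat.a.eq_unfold.{0}) | (have := @Cfsg.Agent.H78.G40.Dat.a.eq_unfold) | skip
  first | (have := @Cfsg.Agent.H78.G40.Dat.a.congr_simp.{0}) | (have := @Cfsg.Agent.H78.G40.Dat.a.congr_simp) | skip
  first | (have := @Cfsg.Agent.H78.G40.Dat.V.eq_def.{0}) | (have := @Cfsg.Agent.H78.G40.Dat.V.eq_def) | skip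
  first | (have := @Cfsg.Agent.H78.G40.Dat.V.eq_1.{0}) | (have := @Cfsg.Agent.H78.G40.Dat.V.eq_1) | skip
  first | (have := @Cfsg.Agent.H78.G40.Dat.V.eq_unfold.{0}) | (have := @Cfsg.Agent.H78.G40.Dat.V.eq_unfold) | skip
  first | (have := @Cfsg.Agent.H78.G40.Dat.V.congr_simp.{0}) | (have := @Cfsg.Agent.H78.G40.Dat.V.congr_simp) | skip
  first | (have := @Cfsg.Agent.H78.G40.PP.eq_def.{0}) | (have := @Cfsg.Agent.H78.G40.PP.eq_def) | skip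
  first | (have := @Cfsg.Agent.H78.G40.PP.eq_1.{0}) | (have := @Cfsg.Agent.H78.G40.PP.eq_1) | skip
  first | (have := @Cfsg.Agent.H78.G40.PP.eq_unfold.{0}) | (have := @Cfsg.Agent.H78.G40.PP.eq_unfold) | skip
  first | (have := @Cfsg.Agent.H78.G40.PP.congr_simp.{0}) | (have := @Cfsg.Agent.H78.G40.PP.congr_simp) | skip
  first | (have := @Cfsg.Agent.H78.G40.NC2.eq_def.{0}) | (have := @Cfsg.Agent.H78.G40.NC2.eq_def) | skip
  first | (have := @Cfsg.Agent.H78.G40.NC2.eq_1.{0}) | (have := @Cfsg.Agent.H78.G40.NC2.eq_1) | skip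
  first | (have := @Cfsg.Agent.H78.G40.NC2.eq_unfold.{0}) | (have := @Cfsg.Agent.H78.G40.NC2.eq_unfold) | skip
  first | (have := @Cfsg.Agent.H78.G40.NC2.congr_simp.{0}) | (have := @Cfsg.Agent.H78.G40.NC2.congr_simp) | skip
  first | (have := @Cfsg.Agent.H78.G40.Sq.eq_def.{0}) | (have := @Cfsg.Agent.H78.G40.Sq.eq_def) | skip
  first | (have := @Cfsg.Agent.H78.G40.Sq.eq_1.{0}) | (have := @Cfsg.Agent.H78.G40.Sq.eq_1) | skip
  first | (have := @Cfsg.Agent.H78.G40.Sq.eq_unfold.{0}) | (have := @Cfsg.Agent.H78.G40.Sq.eq_unfold) | skip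
  first | (have := @Cfsg.Agent.H78.G40.Sq.congr_simp.{0}) | (have := @Cfsg.Agent.H78.G40.Sq.congr_simp) | skip
  first | (have := @Cfsg.Agent.H78.G40.Cert.eq_def.{0}) | (have := @Cfsg.Agent.H78.G40.Cert.eq_def) | skip
  first | (have := @Cfsg.Agent.H78.G40.Cert.eq_1.{0}) | (have := @Cfsg.Agent.H78.G40.Cert.eq_1) | skip
  first | (have := @Cfsg.Agent.H78.G40.Cert.eq_unfold.{0}) | (have := @Cfsg.Agent.H78.G40.Cert.eq_unfold) | skip
  first | (have := @Cfsg.Agent.H78.G40.Cert.congr_simp.{0}) | (have := @Cfsg.Agent.H78.G40.Cert.congr_simp) | skip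
  first | (have := @Cfsg.Agent.H78.G40.ClsF.eq_def.{0}) | (have := @Cfsg.Agent.H78.G40.ClsF.eq_def) | skip
  first | (have := @Cfsg.Agent.H78.G40.ClsF.eq_1.{0}) | (have := @Cfsg.Agent.H78.G40.ClsF.eq_1) | skip
  first | (have := @Cfsg.Agent.H78.G40.ClsF.eq_unfold.{0}) | (have := @Cfsg.Agent.H78.G40.ClsF.eq_unfold) | skip
  first | (have := @Cfsg.Agent.H78.G40.ClsF.congr_simp.{0}) | (have := @Cfsg.Agent.H78.G40.ClsF.congr_simp) | skip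
  first | (have := @Cfsg.Agent.H78.G40.Nc0F.eq_def.{0}) | (have := @Cfsg.Agent.H78.G40.Nc0F.eq_def) | skip
  first | (have := @Cfsg.Agent.H78.G40.Nc0F.eq_1.{0}) | (have := @Cfsg.Agent.H78.G40.Nc0F.eq_1) | skip
  first | (have := @Cfsg.Agent.H78.G40.Nc0F.eq_unfold.{0}) | (have := @Cfsg.Agent.H78.G40.Nc0F.eq_unfold) | skip
  first | (have := @Cfsg.Agent.H78.G40.Nc0F.congr_simp.{0}) | (have := @Cfsg.Agent.H78.G40.Nc0F.congr_simp) | skip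
  first | (have := @Cfsg.Agent.H78.G40.NcF.eq_def.{0}) | (have := @Cfsg.Agent.H78.G40.NcF.eq_def) | skip
  first | (have := @Cfsg.Agent.H78.G40.NcF.eq_1.{0}) | (have := @Cfsg.Agent.H78.G40.NcF.eq_1) | skip
  first | (have := @Cfsg.Agent.H78.G40.NcF.eq_unfold.{0}) | (have := @Cfsg.Agent.H78.G40.NcF.eq_unfold) | skip
  first | (have := @Cfsg.Agent.H78.G40.NcF.congr_simp.{0}) | (have := @Cfsg.Agent.H78.G40.NcF.congr_simp) | skip
  first | (have := @Cfsg.Agent.H78.G40.CxS.eq_def.{0}) | (have := @Cfsg.Agent.H78.G40.CxS.eq_def) | skip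
  first | (have := @Cfsg.Agent.H78.G40.CxS.eq_1.{0}) | (have := @Cfsg.Agent.H78.G40.CxS.eq_1) | skip
  first | (have := @Cfsg.Agent.H78.G40.CxS.eq_unfold.{0}) | (have := @Cfsg.Agent.H78.G40.CxS.eq_unfold) | skip
  first | (have := @Cfsg.Agent.H78.G40.CxS.congr_simp.{0}) | (have := @Cfsg.Agent.H78.G40.CxS.congr_simp) | skip
  first | (have := @Cfsg.Agent.H78.G40.BtS.eq_def.{0}) | (have := @Cfsg.Agent.H78.G40.BtS.eq_def) | skip
  first | (have := @Cfsg.Agent.H78.G40.BtS.eq_1.{0}) | (have := @Cfsg.Agent.H78.G40.BtS.eq_1) | skip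
  first | (have := @Cfsg.Agent.H78.G40.BtS.eq_unfold.{0}) | (have := @Cfsg.Agent.H78.G40.BtS.eq_unfold) | skip
  first | (have := @Cfsg.Agent.H78.G40.BtS.congr_simp.{0}) | (have := @Cfsg.Agent.H78.G40.BtS.congr_simp) | skip
  first | (have := @Cfsg.Agent.H78.G40.NkS.eq_def.{0}) | (have := @Cfsg.Agent.H78.G40.NkS.eq_def) | skip
  first | (have := @Cfsg.Agent.H78.G40.NkS.eq_1.{0}) | (have := @Cfsg.Agent.H78.G40.NkS.eq_1) | skip
  first | (have := @Cfsg.Agent.H78.G40.NkS.eq_unfold.{0}) | (have := @Cfsg.Agent.H78.G40.NkS.eq_unfold) | skip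
  first | (have := @Cfsg.Agent.H78.G40.NkS.congr_simp.{0}) | (have := @Cfsg.Agent.H78.G40.NkS.congr_simp) | skip
  first | (have := @Cfsg.Agent.H78.G40.ActS.eq_def.{0}) | (have := @Cfsg.Agent.H78.G40.ActS.eq_def) | skip
  first | (have := @Cfsg.Agent.H78.G40.ActS.eq_1.{0}) | (have := @Cfsg.Agent.H78.G40.ActS.eq_1) | skip
  first | (have := @Cfsg.Agent.H78.G40.ActS.eq_unfold.{0}) | (have := @Cfsg.Agent.H78.G40.ActS.eq_unfold) | skip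
  first | (have := @Cfsg.Agent.H78.G40.ActS.congr_simp.{0}) | (have := @Cfsg.Agent.H78.G40.ActS.congr_simp) | skip
  first | (have := @Cfsg.Agent.H78.G40.SdS.eq_def.{0}) | (have := @Cfsg.Agent.H78.G40.SdS.eq_def) | skip
  first | (have := @Cfsg.Agent.H78.G40.SdS.eq_1.{0}) | (have := @Cfsg.Agent.H78.G40.SdS.eq_1) | skip
  first | (have := @Cfsg.Agent.H78.G40.SdS.eq_unfold.{0}) | (have := @Cfsg.Agent.H78.G40.SdS.eq_unfold) | skip
  first | (have := @Cfsg.Agent.H78.G40.SdS.congr_simp.{0}) | (have := @Cfsg.Agent.H78.G40.SdS.congr_simp) | skip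
  first | (have := @Cfsg.Agent.H78.G40.OddS.eq_def.{0}) | (have := @Cfsg.Agent.H78.G40.OddS.eq_def) | skip
  first | (have := @Cfsg.Agent.H78.G40.OddS.eq_1.{0}) | (have := @Cfsg.Agent.H78.G40.OddS.eq_1) | skip
  first | (have := @Cfsg.Agent.H78.G40.OddS.eq_unfold.{0}) | (have := @Cfsg.Agent.H78.G40.OddS.eq_unfold) | skip
  first | (have := @Cfsg.Agent.H78.G40.OddS.congr_simp.{0}) | (have := @Cfsg.Agent.H78.G40.OddS.congr_simp) | skip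
  first | (have := @Cfsg.Agent.H78.G40.NcS.eq_def.{0}) | (have := @Cfsg.Agent.H78.G40.NcS.eq_def) | skip
  first | (have := @Cfsg.Agent.H78.G40.NcS.eq_1.{0}) | (have := @Cfsg.Agent.H78.G40.NcS.eq_1) | skip
  first | (have := @Cfsg.Agent.H78.G40.NcS.eq_unfold.{0}) | (have := @Cfsg.Agent.H78.G40.NcS.eq_unfold) | skip
  first | (have := @Cfsg.Agent.H78.G40.NcS.congr_simp.{0}) | (have := @Cfsg.Agent.H78.G40.NcS.congr_simp) | skip
  first | (have := @Cfsg.Agent.H78.G40.CeS.eq_def.{0}) | (have := @Cfsg.Agent.H78.G40.CeS.eq_def) | skip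
  first | (have := @Cfsg.Agent.H78.G40.CeS.eq_1.{0}) | (have := @Cfsg.Agent.H78.G40.CeS.eq_1) | skip
  first | (have := @Cfsg.Agent.H78.G40.CeS.eq_unfold.{0}) | (have := @Cfsg.Agent.H78.G40.CeS.eq_unfold) | skip
  first | (have := @Cfsg.Agent.H78.G40.CeS.congr_simp.{0}) | (have := @Cfsg.Agent.H78.G40.CeS.congr_simp) | skip
  first | (have := @Cfsg.Agent.H78.G40.Ce1S.eq_def.{0}) | (have := @Cfsg.Agent.H78.G40.Ce1S.eq_def) | skip
  first | (have := @Cfsg.Agent.H78.G40.Ce1S.eq_1.{0}) | (have := @Cfsg.Agent.H78.G40.Ce1S.eq_1) | skip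
  first | (have := @Cfsg.Agent.H78.G40.Ce1S.eq_unfold.{0}) | (have := @Cfsg.Agent.H78.G40.Ce1S.eq_unfold) | skip
  first | (have := @Cfsg.Agent.H78.G40.Ce1S.congr_simp.{0}) | (have := @Cfsg.Agent.H78.G40.Ce1S.congr_simp) | skip
  first | (have := @Cfsg.Agent.H78.G40.Ce3S.eq_def.{0}) | (have := @Cfsg.Agent.H78.G40.Ce3S.eq_def) | skip
  first | (have := @Cfsg.Agent.H78.G40.Ce3S.eq_1.{0}) | (have := @Cfsg.Agent.H78.G40.Ce3S.eq_1) | skip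
  first | (have := @Cfsg.Agent.H78.G40.Ce3S.eq_unfold.{0}) | (have := @Cfsg.Agent.H78.G40.Ce3S.eq_unfold) | skip
  first | (have := @Cfsg.Agent.H78.G40.Ce3S.congr_simp.{0}) | (have := @Cfsg.Agent.H78.G40.Ce3S.congr_simp) | skip
  first | (have := @Cfsg.Agent.H78.G40.Ce4S.eq_def.{0}) | (have := @Cfsg.Agent.H78.G40.Ce4S.eq_def) | skip
  first | (have := @Cfsg.Agent.H78.G40.Ce4S.eq_1.{0}) | (have := @Cfsg.Agent.H78.G40.Ce4S.eq_1) | skip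
  first | (have := @Cfsg.Agent.H78.G40.Ce4S.eq_unfold.{0}) | (have := @Cfsg.Agent.H78.G40.Ce4S.eq_unfold) | skip
  first | (have := @Cfsg.Agent.H78.G40.Ce4S.congr_simp.{0}) | (have := @Cfsg.Agent.H78.G40.Ce4S.congr_simp) | skip
  first | (have := @Cfsg.Agent.H78.G40.Ce2aS.eq_def.{0}) | (have := @Cfsg.Agent.H78.G40.Ce2aS.eq_def) | skip
  first | (have := @Cfsg.Agent.H78.G40.Ce2aS.eq_1.{0}) | (have := @Cfsg.Agent.H78.G40.Ce2aS.eq_1) | skip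
  first | (have := @Cfsg.Agent.H78.G40.Ce2aS.eq_unfold.{0}) | (have := @Cfsg.Agent.H78.G40.Ce2aS.eq_unfold) | skip
  first | (have := @Cfsg.Agent.H78.G40.Ce2aS.congr_simp.{0}) | (have := @Cfsg.Agent.H78.G40.Ce2aS.congr_simp) | skip
  first | (have := @Cfsg.Agent.H78.G40.Ce2bS.eq_def.{0}) | (have := @Cfsg.Agent.H78.G40.Ce2bS.eq_def) | skip
  first | (have := @Cfsg.Agent.H78.G40.Ce2bS.eq_1.{0}) | (have := @Cfsg.Agent.H78.G40.Ce2bS.eq_1) | skip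
  first | (have := @Cfsg.Agent.H78.G40.Ce2bS.eq_unfold.{0}) | (have := @Cfsg.Agent.H78.G40.Ce2bS.eq_unfold) | skip
  first | (have := @Cfsg.Agent.H78.G40.Ce2bS.congr_simp.{0}) | (have := @Cfsg.Agent.H78.G40.Ce2bS.congr_simp) | skip
  first | (have := @Cfsg.Agent.H78.G40.Ce2cS.eq_def.{0}) | (have := @Cfsg.Agent.H78.G40.Ce2cS.eq_def) | skip
  first | (have := @Cfsg.Agent.H78.G40.Ce2cS.eq_1.{0}) | (have := @Cfsg.Agent.H78.G40.Ce2cS.eq_1) | skip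
  first | (have := @Cfsg.Agent.H78.G40.Ce2cS.eq_unfold.{0}) | (have := @Cfsg.Agent.H78.G40.Ce2cS.eq_unfold) | skip
  first | (have := @Cfsg.Agent.H78.G40.Ce2cS.congr_simp.{0}) | (have := @Cfsg.Agent.H78.G40.Ce2cS.congr_simp) | skip
  first | (have := @Cfsg.Agent.H78.G40.IdS.eq_def.{0}) | (have := @Cfsg.Agent.H78.G40.IdS.eq_def) | skip
  first | (have := @Cfsg.Agent.H78.G40.IdS.eq_1.{0}) | (have := @Cfsg.Agent.H78.G40.IdS.eq_1) | skip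
  first | (have := @Cfsg.Agent.H78.G40.IdS.eq_unfold.{0}) | (have := @Cfsg.Agent.H78.G40.IdS.eq_unfold) | skip
  first | (have := @Cfsg.Agent.H78.G40.IdS.congr_simp.{0}) | (have := @Cfsg.Agent.H78.G40.IdS.congr_simp) | skip
  first | (have := @Cfsg.Agent.H78.G40.Id4S.eq_def.{0}) | (have := @Cfsg.Agent.H78.G40.Id4S.eq_def) | skip
  first | (have := @Cfsg.Agent.H78.G40.Id4S.eq_1.{0}) | (have := @Cfsg.Agent.H78.G40.Id4S.eq_1) | skip
  first | (have := @Cfsg.Agent.H78.G40.Id4S.eq_unfold.{0}) | (have := @Cfsg.Agent.H78.G40.Id4S.eq_unfold) | skip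
  first | (have := @Cfsg.Agent.H78.G40.Id4S.congr_simp.{0}) | (have := @Cfsg.Agent.H78.G40.Id4S.congr_simp) | skip
  first | (have := @Cfsg.Agent.H78.G40.EnvS.eq_def.{0}) | (have := @Cfsg.Agent.H78.G40.EnvS.eq_def) | skip
  first | (have := @Cfsg.Agent.H78.G40.EnvS.eq_1.{0}) | (have := @Cfsg.Agent.H78.G40.EnvS.eq_1) | skip
  first | (have := @Cfsg.Agent.H78.G40.EnvS.eq_unfold.{0}) | (have := @Cfsg.Agent.H78.G40.EnvS.eq_unfold) | skip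
  first | (have := @Cfsg.Agent.H78.G40.EnvS.congr_simp.{0}) | (have := @Cfsg.Agent.H78.G40.EnvS.congr_simp) | skip
  first | (have := @Cfsg.Agent.H78.G40.GenS.eq_def.{0}) | (have := @Cfsg.Agent.H78.G40.GenS.eq_def) | skip
  first | (have := @Cfsg.Agent.H78.G40.GenS.eq_1.{0}) | (have := @Cfsg.Agent.H78.G40.GenS.eq_1) | skip
  first | (have := @Cfsg.Agent.H78.G40.GenS.eq_unfold.{0}) | (have := @Cfsg.Agent.H78.G40.GenS.eq_unfold) | skip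
  first | (have := @Cfsg.Agent.H78.G40.GenS.congr_simp.{0}) | (have := @Cfsg.Agent.H78.G40.GenS.congr_simp) | skip
  first | (have := @Cfsg.Agent.H78.G40.DihS.eq_def.{0}) | (have := @Cfsg.Agent.H78.G40.DihS.eq_def) | skip
  first | (have := @Cfsg.Agent.H78.G40.DihS.eq_1.{0}) | (have := @Cfsg.Agent.H78.G40.DihS.eq_1) | skip
  first | (have := @Cfsg.Agent.H78.G40.DihS.eq_unfold.{0}) | (have := @Cfsg.Agent.H78.G40.DihS.eq_unfold) | skip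
  first | (have := @Cfsg.Agent.H78.G40.DihS.congr_simp.{0}) | (have := @Cfsg.Agent.H78.G40.DihS.congr_simp) | skip
  first | (have := @Cfsg.Agent.H78.G40.NcjS.eq_def.{0}) | (have := @Cfsg.Agent.H78.G40.NcjS.eq_def) | skip
  first | (have := @Cfsg.Agent.H78.G40.NcjS.eq_1.{0}) | (have := @Cfsg.Agent.H78.G40.NcjS.eq_1) | skip
  first | (have := @Cfsg.Agent.H78.G40.NcjS.eq_unfold.{0}) | (have := @Cfsg.Agent.H78.G40.NcjS.eq_unfold) | skip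
  first | (have := @Cfsg.Agent.H78.G40.NcjS.congr_simp.{0}) | (have := @Cfsg.Agent.H78.G40.NcjS.congr_simp) | skip
  first | (have := @Cfsg.Agent.H78.G40.Odd4S.eq_def.{0}) | (have := @Cfsg.Agent.H78.G40.Odd4S.eq_def) | skip
  first | (have := @Cfsg.Agent.H78.G40.Odd4S.eq_1.{0}) | (have := @Cfsg.Agent.H78.G40.Odd4S.eq_1) | skip
  first | (have := @Cfsg.Agent.H78.G40.Odd4S.eq_unfold.{0}) | (have := @Cfsg.Agent.H78.G40.Odd4S.eq_unfold) | skip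
  first | (have := @Cfsg.Agent.H78.G40.Odd4S.congr_simp.{0}) | (have := @Cfsg.Agent.H78.G40.Odd4S.congr_simp) | skip
  first | (have := @Cfsg.Agent.H78.G40.OddIS.eq_def.{0}) | (have := @Cfsg.Agent.H78.G40.OddIS.eq_def) | skip
  first | (have := @Cfsg.Agent.H78.G40.OddIS.eq_1.{0}) | (have := @Cfsg.Agent.H78.G40.OddIS.eq_1) | skip
  first | (have := @Cfsg.Agent.H78.G40.OddIS.eq_unfold.{0}) | (have := @Cfsg.Agent.H78.G40.OddIS.eq_unfold) | skip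
  first | (have := @Cfsg.Agent.H78.G40.OddIS.congr_simp.{0}) | (have := @Cfsg.Agent.H78.G40.OddIS.congr_simp) | skip
  first | (have := @Cfsg.Agent.H78.G40.CvgS.eq_def.{0}) | (have := @Cfsg.Agent.H78.G40.CvgS.eq_def) | skip
  first | (have := @Cfsg.Agent.H78.G40.CvgS.eq_1.{0}) | (have := @Cfsg.Agent.H78.G40.CvgS.eq_1) | skip
  first | (have := @Cfsg.Agent.H78.G40.CvgS.eq_unfold.{0}) | (have := @Cfsg.Agent.H78.G40.CvgS.eq_unfold) | skip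
  first | (have := @Cfsg.Agent.H78.G40.CvgS.congr_simp.{0}) | (have := @Cfsg.Agent.H78.G40.CvgS.congr_simp) | skip
  first | (have := @Cfsg.Agent.H78.G40.PrtS.eq_def.{0}) | (have := @Cfsg.Agent.H78.G40.PrtS.eq_def) | skip
  first | (have := @Cfsg.Agent.H78.G40.PrtS.eq_1.{0}) | (have := @Cfsg.Agent.H78.G40.PrtS.eq_1) | skip
  first | (have := @Cfsg.Agent.H78.G40.PrtS.eq_unfold.{0}) | (have := @Cfsg.Agent.H78.G40.PrtS.eq_unfold) | skip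
  first | (have := @Cfsg.Agent.H78.G40.PrtS.congr_simp.{0}) | (have := @Cfsg.Agent.H78.G40.PrtS.congr_simp) | skip
  first | (have := @Cfsg.Agent.H78.G40.StepS.eq_def.{0}) | (have := @Cfsg.Agent.H78.G40.StepS.eq_def) | skip
  first | (have := @Cfsg.Agent.H78.G40.StepS.eq_1.{0}) | (have := @Cfsg.Agent.H78.G40.StepS.eq_1) | skip
  first | (have := @Cfsg.Agent.H78.G40.StepS.eq_unfold.{0}) | (have := @Cfsg.Agent.H78.G40.StepS.eq_unfold) | skip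
  first | (have := @Cfsg.Agent.H78.G40.StepS.congr_simp.{0}) | (have := @Cfsg.Agent.H78.G40.StepS.congr_simp) | skip
  first | (have := @Cfsg.Agent.H78.G40.PrkS.eq_def.{0}) | (have := @Cfsg.Agent.H78.G40.PrkS.eq_def) | skip
  first | (have := @Cfsg.Agent.H78.G40.PrkS.eq_1.{0}) | (have := @Cfsg.Agent.H78.G40.PrkS.eq_1) | skip
  first | (have := @Cfsg.Agent.H78.G40.PrkS.eq_unfold.{0}) | (have := @Cfsg.Agent.H78.G40.PrkS.eq_unfold) | skip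
  first | (have := @Cfsg.Agent.H78.G40.PrkS.congr_simp.{0}) | (have := @Cfsg.Agent.H78.G40.PrkS.congr_simp) | skip
  first | (have := @Cfsg.Agent.H78.G40.Alt7S.eq_def.{0}) | (have := @Cfsg.Agent.H78.G40.Alt7S.eq_def) | skip
  first | (have := @Cfsg.Agent.H78.G40.Alt7S.eq_1.{0}) | (have := @Cfsg.Agent.H78.G40.Alt7S.eq_1) | skip
  first | (have := @Cfsg.Agent.H78.G40.Alt7S.eq_unfold.{0}) | (have := @Cfsg.Agent.H78.G40.Alt7S.eq_unfold) | skip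
  first | (have := @Cfsg.Agent.H78.G40.Alt7S.congr_simp.{0}) | (have := @Cfsg.Agent.H78.G40.Alt7S.congr_simp) | skip
  first | (have := @Cfsg.Agent.H78.G40.GhS.eq_def.{0}) | (have := @Cfsg.Agent.H78.G40.GhS.eq_def) | skip
  first | (have := @Cfsg.Agent.H78.G40.GhS.eq_1.{0}) | (have := @Cfsg.Agent.H78.G40.GhS.eq_1) | skip
  first | (have := @Cfsg.Agent.H78.G40.GhS.eq_unfold.{0}) | (have := @Cfsg.Agent.H78.G40.GhS.eq_unfold) | skip
  first | (have := @Cfsg.Agent.H78.G40.GhS.congr_simp.{0}) | (have := @Cfsg.Agent.H78.G40.GhS.congr_simp) | skip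
  first | (have := @Cfsg.Agent.H78.G40.GhzS.eq_def.{0}) | (have := @Cfsg.Agent.H78.G40.GhzS.eq_def) | skip
  first | (have := @Cfsg.Agent.H78.G40.GhzS.eq_1.{0}) | (have := @Cfsg.Agent.H78.G40.GhzS.eq_1) | skip
  first | (have := @Cfsg.Agent.H78.G40.GhzS.eq_unfold.{0}) | (have := @Cfsg.Agent.H78.G40.GhzS.eq_unfold) | skip
  first | (have := @Cfsg.Agent.H78.G40.GhzS.congr_simp.{0}) | (have := @Cfsg.Agent.H78.G40.GhzS.congr_simp) | skip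
  first | (have := @Cfsg.Agent.H78.G40.ZU.eq_def.{0}) | (have := @Cfsg.Agent.H78.G40.ZU.eq_def) | skip
  first | (have := @Cfsg.Agent.H78.G40.ZU.eq_1.{0}) | (have := @Cfsg.Agent.H78.G40.ZU.eq_1) | skip
  first | (have := @Cfsg.Agent.H78.G40.ZU.eq_unfold.{0}) | (have := @Cfsg.Agent.H78.G40.ZU.eq_unfold) | skip
  first | (have := @Cfsg.Agent.H78.G40.ZU.congr_simp.{0}) | (have := @Cfsg.Agent.H78.G40.ZU.congr_simp) | skip
  first | (have := @Cfsg.Agent.H78.G40.CzgS.eq_def.{0}) | (have := @Cfsg.Agent.H78.G40.CzgS.eq_def) | skip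
  first | (have := @Cfsg.Agent.H78.G40.CzgS.eq_1.{0}) | (have := @Cfsg.Agent.H78.G40.CzgS.eq_1) | skip
  first | (have := @Cfsg.Agent.H78.G40.CzgS.eq_unfold.{0}) | (have := @Cfsg.Agent.H78.G40.CzgS.eq_unfold) | skip
  first | (have := @Cfsg.Agent.H78.G40.CzgS.congr_simp.{0}) | (have := @Cfsg.Agent.H78.G40.CzgS.congr_simp) | skip
  first | (have := @Cfsg.Agent.H78.G40.FinS.eq_def.{0}) | (have := @Cfsg.Agent.H78.G40.FinS.eq_def) | skip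
  first | (have := @Cfsg.Agent.H78.G40.FinS.eq_1.{0}) | (have := @Cfsg.Agent.H78.G40.FinS.eq_1) | skip
  first | (have := @Cfsg.Agent.H78.G40.FinS.eq_unfold.{0}) | (have := @Cfsg.Agent.H78.G40.FinS.eq_unfold) | skip
  first | (have := @Cfsg.Agent.H78.G40.FinS.congr_simp.{0}) | (have := @Cfsg.Agent.H78.G40.FinS.congr_simp) | skip
  first | (have := @Cfsg.Agent.H78.G40.E3lS.eq_def.{0}) | (have := @Cfsg.Agent.H78.G40.E3lS.eq_def) | skip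
  first | (have := @Cfsg.Agent.H78.G40.E3lS.eq_1.{0}) | (have := @Cfsg.Agent.H78.G40.E3lS.eq_1) | skip
  first | (have := @Cfsg.Agent.H78.G40.E3lS.eq_unfold.{0}) | (have := @Cfsg.Agent.H78.G40.E3lS.eq_unfold) | skip
  first | (have := @Cfsg.Agent.H78.G40.E3lS.congr_simp.{0}) | (have := @Cfsg.Agent.H78.G40.E3lS.congr_simp) | skip
  first | (have := @Cfsg.Agent.H78.G40.E5lS.eq_def.{0}) | (have := @Cfsg.Agent.H78.G40.E5lS.eq_def) | skip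
  first | (have := @Cfsg.Agent.H78.G40.E5lS.eq_1.{0}) | (have := @Cfsg.Agent.H78.G40.E5lS.eq_1) | skip
  first | (have := @Cfsg.Agent.H78.G40.E5lS.eq_unfold.{0}) | (have := @Cfsg.Agent.H78.G40.E5lS.eq_unfold) | skip
  first | (have := @Cfsg.Agent.H78.G40.E5lS.congr_simp.{0}) | (have := @Cfsg.Agent.H78.G40.E5lS.congr_simp) | skip
  first | (have := @Cfsg.Agent.H78.G40.E7lS.eq_def.{0}) | (have := @Cfsg.Agent.H78.G40.E7lS.eq_def) | skip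
  first | (have := @Cfsg.Agent.H78.G40.E7lS.eq_1.{0}) | (have := @Cfsg.Agent.H78.G40.E7lS.eq_1) | skip
  first | (have := @Cfsg.Agent.H78.G40.E7lS.eq_unfold.{0}) | (have := @Cfsg.Agent.H78.G40.E7lS.eq_unfold) | skip
  first | (have := @Cfsg.Agent.H78.G40.E7lS.congr_simp.{0}) | (have := @Cfsg.Agent.H78.G40.E7lS.congr_simp) | skip
  first | (have := @Cfsg.Agent.H78.G40.EndlS.eq_def.{0}) | (have := @Cfsg.Agent.H78.G40.EndlS.eq_def) | skip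
  first | (have := @Cfsg.Agent.H78.G40.EndlS.eq_1.{0}) | (have := @Cfsg.Agent.H78.G40.EndlS.eq_1) | skip
  first | (have := @Cfsg.Agent.H78.G40.EndlS.eq_unfold.{0}) | (have := @Cfsg.Agent.H78.G40.EndlS.eq_unfold) | skip
  first | (have := @Cfsg.Agent.H78.G40.EndlS.congr_simp.{0}) | (have := @Cfsg.Agent.H78.G40.EndlS.congr_simp) | skip
  trivial

end Cfsg.Agent.H78.G40
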