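import Mathlib
import Cfsg.Agent.H46.J3Out
import Cfsg.Agent.H74.Cover
import Cfsg.Agent.H78.CodMult

/-!
# The Schur multiplier of the third Janko group
-/

set_option autoImplicit false
set_option maxRecDepth 1000000
set_option Elab.async false

namespace Cfsg.Agent.H78.MJ3

open Cfsg.Agent.H42 Cfsg.Agent.H46 Cfsg.Agent.H46.J3 Cfsg.Agent.H74 Cfsg.Agent.H78.CM Cfsg.Spor

/-- The elements used. -/
noncomputable def tb : ℕ → ℕ := getL [ca, cb,
  nat_lit 0x330300000000001110110010000200220000001000110010110000001001010000000001001001100,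
  nat_lit 0x103000132003110011200032330000102123110002011023300220211311111230320010021031010,
  nat_lit 0x103010330000013123220002101010102220012000132003330101102103100212313111310210100,
  nat_lit 0x201300000201001000000010101200301000001301000010000101010010001010010100000000010,
  nat_lit 0x330300000000001110110010000200220000001000110010110000001001010000000001001001100,
  nat_lit 0x103132011120030022312220110312301033010320022220132330133311020033011200100300002,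
  nat_lit 0x112203101031113220203300220103221202223032110300103110001002030131232300130230003,
  nat_lit 0x1112321000312101100122233121101031113010322333101110213021011302231102112130130,
  nat_lit 0x23100000131020311323002211200031011010333113001233313031023333022222301022233320,
  nat_lit 0x301232021320022222213131112321110320222131100301011233123300331132103201320213013,
  nat_lit 0x131213231010212231130303313001221111023012211313133100323231313002202230222021301,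
  nat_lit 0x223112212101310321122023103201120221113112332033011212211221100031213330331232121,
  nat_lit 0x32332303212101203330133303211113200202101020312211003232300112000030102222002331,
  nat_lit 0x210322013303222103012332230121211212221321232222332222032222021301312203110222310,
  nat_lit 0x211102301121020213222023210123223211313121211130212013213102033210122000133120022,
  nat_lit 0x330233230320011221210203113002230230100121001010231001330000003332313200332123030,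
  nat_lit 0x121310301122230130311332322133222113230321101311202120300212212221032103302002202,
  nat_lit 0x220310321301322202033013112311212200201133000223222001210301133333030323013203231,
  nat_lit 0x30100131102010031201321011102301323013031322001113321331222121010333211111231113,
  nat_lit 0x101303122003312111011113012331101021033030130030301103200033032303210300331102023,
  nat_lit 0x220130123132220120322302012331121133130213202333200332032322013013320300311211233]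

/-- Their words. -/
def tw : List (List ℕ) :=
  [[1, 1, 1, 1, 1, 1, 1, 1, 1, 1, 1, 1, 1, 1, 1, 1],
   [0, 1, 1, 1, 0, 1, 1, 0, 1, 0, 1, 1, 1, 1, 1, 1, 0, 2, 0, 2, 0],
   [0, 1, 0, 1, 0, 2, 2, 2, 2, 2, 2, 0, 2, 0, 2, 2, 0, 2, 2, 2, 0],
   [1],
   [2],
   [0, 1, 1, 1, 1, 1, 1, 0, 2, 0, 2, 0, 2, 0, 1, 1, 1, 0, 1, 1, 0],
   [0, 2, 2, 0, 2, 2, 2, 0, 1, 0, 1, 0, 1, 0, 2, 2, 2, 2, 2, 2, 0],
   [1, 1, 1, 1, 0, 1, 0, 2, 2, 2, 2, 0, 7, 3, 7, 7, 3],
   [2, 2, 2, 0, 2, 2, 0, 2, 2, 0, 2, 0, 5, 3, 8, 6, 3],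
   [2, 0, 2, 2, 2, 2, 2, 2, 0, 1, 1, 1, 0, 1, 0, 8, 6, 3, 7],
   [1, 0, 2, 0, 2, 0, 1, 0, 2, 2, 0, 2, 2, 2, 2, 0, 4, 6, 8, 3],
   [2, 2, 0, 1, 1, 1, 1, 0, 1, 0, 1, 1, 1, 0, 1, 1, 0, 5, 7, 3, 3],
   [1, 1, 0, 1, 1, 1, 1, 1, 0, 1, 0, 2, 2, 0, 6, 3, 5, 7, 7],
   [2, 2, 0, 2, 0, 1, 1, 0, 1, 1, 1, 0, 4, 4, 8, 4, 8, 3],
   [1, 1, 1, 1, 0, 2, 0, 1, 1, 0, 5, 4, 8, 5, 5, 4],
   [2, 0, 1, 1, 0, 1, 0, 2, 0, 1, 0, 2, 2, 0, 1, 0, 5, 7, 3, 6],
   [0, 2, 2, 0, 2, 0, 2, 0, 1, 0, 2, 0, 6, 6, 4, 6, 3, 3],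
   [2, 2, 2, 2, 2, 2, 0, 8, 6, 6, 6],
   [1, 0, 1, 0, 1, 0, 2, 0, 2, 0, 1, 1, 0, 5, 7, 3, 8],
   [2, 0, 1, 1, 0, 2, 2, 0, 1, 0, 2, 2, 2, 0, 3, 3, 7, 4],
   [0, 1, 0, 2, 0, 2, 0, 1, 1, 0, 1, 1, 1, 0, 1, 0, 8, 6, 7, 5, 4]]

theorem tb_chk : OJ.slpB tb tw 2 = true := by decide +kernel

/-- Rules. -/
def c2_rule : List (List (List ℕ)) :=
  [[[], [1, 3, 6], [2, 4, 6], [3, 6], [4, 6], [5, 6], [6]],
   [[], [], [2, 5, 6], [3, 6], [4, 5], [5], [6]],
   [[], [], [5, 6], [3, 5], [4], [5], [6]],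
   [[], [], [], [6], [4, 6], [5], [6]],
   [[], [], [], [], [6], [5], [6]],
   [[], [], [], [], [], [], [6]],
   [[], [], [], [], [], [], []]]

/-- Fused subgroups. -/
def c2_fq : List (List (List ℕ)) :=
  [[[0], [2, 3, 4, 5], [0, 1, 2, 5, 6], [4], [3, 4, 5], [5, 6], [6]],
   [[1, 3, 5, 6], [1, 2, 5], [2, 3], [6]]]

/-- Their images. -/
def c2_fq' : List (List (List ℕ)) :=
  [[[0, 3], [1, 5], [0, 2], [3], [4, 5], [5, 6], [6]],
   [[2, 3, 4, 6], [1, 5], [1], [1, 6]]]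

/-- Rows. -/
def c2_sA : List Spec :=
  [⟨1, [0], [], 1, 1, 255⟩,
   ⟨1, [1], [], 2, 1, 255⟩,
   ⟨1, [2], [], 3, 1, 255⟩,
   ⟨1, [3], [], 9, 1, 255⟩,
   ⟨1, [4], [], 0, 1, 255⟩,
   ⟨1, [5], [], 8, 1, 255⟩,
   ⟨1, [6], [], 16, 1, 255⟩,
   ⟨0, [3], [3, 3], 27, 1, 255⟩,
   ⟨0, [4], [4, 4], 34, 1, 255⟩,
   ⟨0, [5], [3, 1], 41, 1, 255⟩,
   ⟨3, [6, 2], [2, 6], 13, 1, 1⟩,
   ⟨4, [3, 2], [2, 3], 20, 1, 1⟩,
   ⟨0, [2], [2, 2], 19, 1, 255⟩,
   ⟨4, [3, 1], [1, 3], 12, 1, 1⟩,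
   ⟨0, [4], [3, 2], 33, 1, 255⟩,
   ⟨3, [5, 3], [3, 5], 26, 1, 255⟩,
   ⟨3, [5, 0], [0, 5, 6], 55, 1, 1⟩,
   ⟨3, [3, 0], [0, 3, 6], 4, 1, 1⟩,
   ⟨0, [4], [3, 0], 6, 1, 255⟩,
   ⟨0, [3], [0, 0], 48, 1, 255⟩,
   ⟨0, [2], [1, 1], 40, 1, 255⟩,
   ⟨0, [1], [0, 0], 24, 1, 255⟩,
   ⟨0, [2], [0, 0], 32, 1, 255⟩,
   ⟨0, [1], [1, 0], 10, 1, 1⟩,
   ⟨3, [4, 0], [0, 4, 6], 25, 1, 255⟩,
   ⟨3, [3, 1], [1, 3, 6], 18, 1, 1⟩,
   ⟨0, [2], [2, 0], 5, 1, 255⟩,
   ⟨4, [2, 2], [], 17, 1, 1⟩,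
   ⟨4, [3, 0], [0, 3], 11, 1, 1⟩,
   ⟨3, [1, 0], [0, 1, 3, 6], 52, 1, 1⟩,
   ⟨3, [3, 2], [2, 3, 5], 54, 1, 1⟩,
   ⟨3, [2, 0], [0, 2, 4, 6], 53, 1, 1⟩]

/-- Rows. -/
def c2_sB : List Spec :=
  []

/-- Rows. -/
def c2_sC : List Spec :=
  [⟨4, [3, 3], [], 59, 2, 255⟩,
   ⟨3, [0, 0], [], 49, 2, 255⟩,
   ⟨4, [1, 1], [], 57, 2, 255⟩,
   ⟨4, [2, 1], [1, 2], 58, 2, 129⟩]

/-- The certificate. -/
noncomputable def c2 : Cert where
  q := 1
  n := 7
  nf := 2
  b := 24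
  M := 256
  D := 2
  fuel := 77
  rule := fun i j => getLL (getL3 c2_rule i) j
  fq := fun i j => getLL (getL3 c2_fq i) j
  fq' := fun i j => getLL (getL3 c2_fq' i) j
  nrm := nrmM 24 63 8
  nri := getL [0, 0, 0, 1, 0, 1, 2]
  nrj := getL [1, 2, 3, 2, 0, 1, 2]
  B := getL [0x1000000000000000000000000, 0x1000000000000000000000000000000, 0x10000000000000000ff000000000000000000, 0x20000000000fe, 0x20000fe000000, 0xfe000002000000000000, 0xfe000000000000]
  nU := 0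
  U := getL []
  ord := getL []
  sA := c2_sA
  sB := c2_sB
  sC := c2_sC

theorem c2_nrm : Nrm c2.b c2.R c2.M c2.nrm := by
  dsimp only [c2, Cert.R]
  exact (nrm_nrmM (b := 24) (R := 63) (v := 8) (by norm_num) : Nrm 24 63 (2 ^ 8) _)

theorem c2_chk : c2.chk 1 = true := by decide +kernel

theorem c2_rel : c2.relChk OJ (fun j => tb (getL [9, 10, 11, 12, 13, 14, 15] j)) (fun j => tb (getL [16, 17] j)) = true := by
  decide +kernel

theorem c2_srt : allB (sortP (fun i => OJ.key (OJ.word (fun j => tb (getL [9, 10, 11, 12, 13, 14, 15] j))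
    (nfW (Nat.succ c2.q) c2.n (fld 8 (nat_lit 0xc426a2d327333721d564708175c4e015f15612664221259115b4b056e281c57511b2760682e145e4a047c3c7d3d58135d163575347462247838793923652f690d43501a105a296f2c6b3a7b3b7a3776367746092563004f0a44024c18533171307020671952410e1e540b4566211f553f7e3e7f6d2a48074d030f4006496c2b) i) []))) 128) 128 = true := by decide +kernel

/-- Rules. -/
def c3_rule : List (List (List ℕ)) :=
  [[[3, 4], [1, 2, 2], [2, 3], [3], [4]],
   [[], [3, 3, 4], [2, 4], [3], [4]],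
   [[], [], [], [3], [4]],
   [[], [], [], [], [4]],
   [[], [], [], [], []]]

/-- Fused subgroups. -/
def c3_fq : List (List (List ℕ)) :=
  []

/-- Their images. -/
def c3_fq' : List (List (List ℕ)) :=
  []

/-- Rows. -/
def c3_sA : List Spec :=
  [⟨1, [0], [], 0, 1, 728⟩,
   ⟨1, [1], [], 1, 1, 728⟩,
   ⟨1, [2], [], 2, 1, 728⟩,
   ⟨1, [3], [], 6, 1, 728⟩,
   ⟨1, [4], [], 7, 1, 728⟩,
   ⟨0, [4], [2, 0], 19, 1, 1⟩,
   ⟨0, [3], [1, 0], 13, 1, 365⟩,
   ⟨0, [2, 2], [2, 0], 18, 1, 1⟩,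
   ⟨0, [4], [1, 0], 14, 1, 365⟩,
   ⟨0, [2, 2], [2, 1], 24, 1, 1⟩,
   ⟨0, [0], [0, 0, 0], 4, 1, 728⟩,
   ⟨0, [1], [1, 1, 1], 9, 1, 728⟩,
   ⟨0, [2], [1, 0], 8, 1, 1⟩,
   ⟨0, [1], [0, 0, 0], 12, 1, 364⟩]

/-- Rows. -/
def c3_sB : List Spec :=
  [⟨0, [3, 3], [3, 0], 3, 3, 244⟩]

/-- Rows. -/
def c3_sC : List Spec :=
  [⟨2, [0], [], 3, 1, 364⟩]

/-- The certificate. -/
noncomputable def c3 : Cert where
  q := 2
  n := 5
  nf := 0
  b := 27
  M := 729
  D := 3
  fuel := 64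
  rule := fun i j => getLL (getL3 c3_rule i) j
  fq := fun i j => getLL (getL3 c3_fq i) j
  fq' := fun i j => getLL (getL3 c3_fq' i) j
  nrm := nrmL 27 25 729
  nri := getL [0, 0, 0, 1, 1]
  nrj := getL [0, 1, 2, 1, 2]
  B := getL [0x2d800000000000b600000000000001, 0x2d800000020000b5c0000000000000, 0xb58000000, 0xb580000000000000, 0x2d6000000000000000000000000000]
  nU := 1
  U := getL [unitV 27 9 * 1]
  ord := getL [3]
  sA := c3_sA
  sB := c3_sB
  sC := c3_sC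

theorem c3_nrm : Nrm c3.b c3.R c3.M c3.nrm := by
  dsimp only [c3, Cert.R]
  exact nrm_nrmL 27 25 729

theorem c3_chk : c3.chk 3 = true := by decide +kernel

theorem c3_rel : c3.relChk OJ (fun j => tb (getL [18, 19, 20, 21, 22] j)) (fun j => tb (getL [] j)) = true := by
  decide +kernel

theorem c3_srt : allB (sortP (fun i => OJ.key (OJ.word (fun j => tb (getL [18, 19, 20, 21, 22] j))
    (nfW (Nat.succ c3.q) c3.n (fld 8 (nat_lit 0xef9b11e64824aec34a2c3ad8cea6abed4ba1e7256dd0cd3e43cfbe0f6c1eccd6ade178ec6fd96a3bbaaf495c86978707540bcb140e0246dab347956231323fc880a4d57f3d1d191651537dee391cb4405536921344f1c4d1c9c16734acd2799c33df4d5269c09198275675aa65c5b19041a9eb726ea82b829fa05a5be26622353801c71bb7dba368502f7389b58cbd158dbfc28521709ea56445b24f9d05b82d8fd7570a8be49303b62e61ddde6b882829f25f7b4258a72006817e3096940017ea8304e97712a2bb8e5d0d1f8459cadc4ee5267c76089ad310e8c67471638ae3093c7a37f0602ab0b9995e4c1ae0230c18d4bc)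 i) []))) 243) 243 = true := by decide +kernel

variable {F : Type*} [Field F] {ω : F} (hF : IsF4 ω)
include hF

theorem tb_tab : (CJ hF).Tab ⊤ tb 23 :=
  Coded.Tab.of_slpB (CJ hF) (m := 2) tw (fun j hj => by
    interval_cases j
    exacts [tabJ_gen hF 0 (by norm_num), tabJ_gen hF 1 (by norm_num)]) tb_chk

theorem b2 : MBound (J3 F ω) (392445 * 392445) 1 :=
  haveI := finite_J hF
  mBound_sorted (C := c2) (CJ hF) (ex_tab _ (tb_tab hF) (by decide +kernel))
    (ex_tab _ (tb_tab hF) (by decide +kernel)) (by show Nat.Prime 2; norm_num) (card_J hF) c2_nrm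
    (by decide +kernel) c2_rel _ (by decide +kernel) c2_srt c2_chk

theorem b3 : MBound (J3 F ω) (206720 * 206720) 3 :=
  haveI := finite_J hF
  mBound_sorted (C := c3) (CJ hF) (ex_tab _ (tb_tab hF) (by decide +kernel))
    (ex_tab _ (tb_tab hF) (by decide +kernel)) (by show Nat.Prime 3; norm_num) (card_J hF) c3_nrm
    (by decide +kernel) c3_rel _ (by decide +kernel) c3_srt c3_chk

theorem bound : MBound (J3 F ω) 1 3 :=
  haveI := finite_J hF
  (((((b2 hF).mul (b3 hF)).mul (mBound_of_prime (p := 5) (k := 10046592) (by norm_num) (card_J hF))).mul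
    (mBound_of_prime (p := 17) (k := 2954880) (by norm_num) (card_J hF))).mul
    (mBound_of_prime (p := 19) (k := 2643840) (by norm_num) (card_J hF))).congr (by norm_num)
    (by norm_num)

theorem elt : MElt (J3 F ω) 3 := by
  have := finite_J hF
  have hc : om hF ∈ Subgroup.center (threeJ3 F ω) := by
    rw [center_eq hF]; exact Subgroup.mem_zpowers _
  refine mElt_of_ext (ξ := QuotientGroup.mk' (Subgroup.center (threeJ3 F ω)))
    ⟨QuotientGroup.mk'_surjective _, (QuotientGroup.ker_mk' _).le⟩ (z := om hF)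
    ⟨(QuotientGroup.ker_mk' _).ge hc, ?_⟩ (ord_om hF).symm.dvd
  exact mem_commutator_of_coprime (closure_tab hF) (ta_pow hF) (tb_pow hF)
    (pow_orderOf_eq_one (om hF)) (by rw [ord_om hF]; norm_num)

theorem mult_J3 : Cfsg.HasCyclicSchurMultiplier (J3 F ω) 3 :=
  haveI := finite_J hF
  (bound hF).finish_cyclic (elt hF)

end Cfsg.Agent.H78.MJ3
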