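import Cfsg.Agent.H80.FrameUnit
import Cfsg.Agent.H31.HermSU

/-!
The Eichler group of the standard hermitian form.
-/

set_option autoImplicit false

namespace Cfsg.Agent.H78UM

open Cfsg Cfsg.Agent.H78 Cfsg.Agent.H26 Subgroup

theorem su_qs {K : Type*} [Field K] [Fintype K] {q n : ℕ} (hK : Fintype.card K = q ^ 2)
    (hn : 4 ≤ n) : IsQuasisimple (suP hK n).E ∧
      Nonempty (((suP hK n).E ⧸ center (suP hK n).E) ≃* PSU n K q) := by
  have h3 : ¬ (n = 3 ∧ q = 2) := by omega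
  have e := H31.quotientCenterCongr (suE hK h3)
  have : Group.IsPerfect (SU n K q) := ⟨H31.commutator_SU hK (by omega) h3⟩
  have := H31.isSimpleGroup_PSU hK (n := n) (by omega) h3
  exact ⟨⟨Group.IsPerfect.ofSurjective (f := (suE hK h3).symm.toMonoidHom)
    (suE hK h3).symm.surjective, e.isSimpleGroup⟩, ⟨e⟩⟩

/-- The unitary models. -/
theorem umod' :
  ∀ (K : Type) [Field K] [Fintype K] (q k : ℕ), Fintype.card K = q ^ 2 → 3 ≤ k →
    (∃ (V : Type) (_ : AddCommGroup V) (_ : Module K V) (_ : FiniteDimensional K V)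
      (P : PForm K V) (Fr : Frame P k), Herm P ∧ (∀ x, P.σ x = x ^ q) ∧ Fr.Norm ∧ Fr.V0 = ⊥ ∧
      IsQuasisimple P.E ∧ ((4 ≤ q ∨ 4 ≤ k) → HasCyclicSchurMultiplier P.E 1) ∧
      Nonempty ((P.E ⧸ center P.E) ≃* PSU (2 * k) K q)) ∧
    ∃ (V : Type) (_ : AddCommGroup V) (_ : Module K V) (_ : FiniteDimensional K V)
      (P : PForm K V) (Fr : Frame P k) (v0 : V), UOdd Fr v0 ∧ (∀ x, P.σ x = x ^ q) ∧
      IsQuasisimple P.E ∧ Nonempty ((P.E ⧸ center P.E) ≃* PSU (2 * k + 1) K q) := by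
  intro K _ _ q k hK hk
  constructor
  · obtain ⟨Fr, hN⟩ := exists_frame_su hK k (le_refl (2 * k))
    obtain ⟨h1, h2⟩ := su_qs hK (n := 2 * k) (by omega)
    exact ⟨_, _, _, inferInstance, suP hK (2 * k), Fr, herm_suP hK _, fun _ => rfl, hN,
      Fr.V0_eq_bot (by simp), h1,
      fun h => H80.multiplier_su hK (by omega) (by omega) (by omega) (by omega), h2⟩
  · obtain ⟨Fr, hN⟩ := exists_frame_su hK k (Nat.le_succ (2 * k))
    obtain ⟨v, h⟩ := (herm_suP hK _).exists_uOdd hN (by simp)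
    obtain ⟨h1, h2⟩ := su_qs hK (n := 2 * k + 1) (by omega)
    exact ⟨_, _, _, inferInstance, suP hK (2 * k + 1), Fr, v, h, fun _ => rfl, h1, h2⟩

end Cfsg.Agent.H78UM
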