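import Cfsg.Agent.H56.ZCBk

/-!
Two good elements with a common point and different blocks are conjugate modulo the centre.
-/

set_option autoImplicit false

namespace Cfsg.Agent.H78.ZcOd

open Subgroup Cfsg.Agent.H56.FS Cfsg.Agent.H56.ZC
open scoped commutatorElement

universe u

variable {G : Type*} [Group G] {p : ℕ} {D : Set (Subgroup G)}

theorem inv_pow_mul {a b : G} (ha : a * a = 1) (hb : b * b = 1) (i : ℕ) :
    ((a * b) ^ i)⁻¹ * a = a * (a * b) ^ i := by
  have ea : a⁻¹ = a := inv_eq_of_mul_eq_one_right ha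
  have eb : b⁻¹ = b := inv_eq_of_mul_eq_one_right hb
  have e : (a * b)⁻¹ = a * (a * b) * a⁻¹ := by
    rw [mul_inv_rev, ea, eb, ← mul_assoc, ha, one_mul]
  rw [← inv_pow, e, conj_pow, inv_mul_cancel_right]

theorem conj_a {a b : G} (ha : a * a = 1) (hb : b * b = 1) (i : ℕ) :
    ((a * b) ^ i)⁻¹ * a * ((a * b) ^ i)⁻¹⁻¹ = a * (a * b) ^ (2 * i) := by
  rw [inv_pow_mul ha hb, inv_inv, mul_assoc, ← pow_add, two_mul]

theorem conj_b {a b : G} (ha : a * a = 1) (hb : b * b = 1) (i : ℕ) :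
    ((a * b) ^ i)⁻¹ * b * ((a * b) ^ i)⁻¹⁻¹ = a * (a * b) ^ (2 * i + 1) := by
  have e : b = a * (a * b) := by rw [← mul_assoc, ha, one_mul]
  calc ((a * b) ^ i)⁻¹ * b * ((a * b) ^ i)⁻¹⁻¹
      = ((a * b) ^ i)⁻¹ * a * ((a * b) * (a * b) ^ i) := by
        rw [inv_inv]; conv_lhs => rw [e]
        rw [← e]; simp only [mul_assoc]
        rw [← mul_assoc a a, ha, one_mul]
    _ = _ := by
        rw [inv_pow_mul ha hb, mul_assoc, ← pow_succ', ← pow_add]
        congr 2; ring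

theorem key [Finite G] (h : Fx p D) {a b : G} (ha : Gz D a) (hb : Gz D b) {A : Subgroup G}
    (hA : A ∈ D) (h1 : A ≤ Ce a) (h2 : A ≤ Ce b) (k : ℕ)
    (hk : (a * b) ^ k * (a * b) ^ k ∈ center G) : (a * b) ^ k ∈ Ez D a := by
  have sa := h.toMc.gz_sq ha
  have sb := h.toMc.gz_sq hb
  have ea : a⁻¹ = a := inv_eq_of_mul_eq_one_right sa
  have hg : Gz D (a * (a * b) ^ k) := by
    rcases Nat.even_or_odd' k with ⟨i, rfl | rfl⟩
    · rw [← conj_a sa sb]; exact gz_cj h.inv _ ha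
    · rw [← conj_b sa sb]; exact gz_cj h.inv _ hb
  have c1 := le_Ce_iff.1 h1
  have c2 := le_Ce_iff.1 h2
  have h3 : A ≤ Ce (a * (a * b) ^ k) := le_Ce_iff.2 (mul_mem c1 (pow_mem (mul_mem c1 c2) k))
  have hc : ⁅a * (a * b) ^ k, a⁆ ∈ center G := by
    have e : ⁅a * (a * b) ^ k, a⁆ = ((a * b) ^ k * (a * b) ^ k)⁻¹ := by
      rw [commutatorElement_def, ← inv_pow_mul sa sb, mul_inv_rev, mul_inv_rev, inv_inv, ea]
      rw [mul_assoc _ a a, sa, mul_one, mul_assoc, ← inv_pow_mul sa sb, mul_assoc _ a a, sa,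
        mul_one]
    rw [e]; exact inv_mem hk
  have h4 := (h.mem_E ha hg hA h1 h3 (norm_of_cz h.inv hc)).1
  have h5 := mul_mem (inv_mem (mem_E0 ha)) h4
  rwa [inv_mul_cancel_left] at h5

theorem od : OdStmt.{u} := by
  intro G _ _ p D h a b ha hb A hA h1 h2 hne
  have sa := h.toMc.gz_sq ha
  have sb := h.toMc.gz_sq hb
  have hex : ∃ n : ℕ, 0 < n ∧ (a * b) ^ n ∈ center G :=
    ⟨orderOf (a * b), orderOf_pos _, by rw [pow_orderOf_eq_one]; exact one_mem _⟩
  classical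
  obtain ⟨n0, hn⟩ := Nat.find_spec hex
  have hmin := fun m => Nat.find_min hex (m := m)
  generalize Nat.find hex = n at n0 hn hmin
  rcases Nat.even_or_odd' n with ⟨k, rfl | rfl⟩
  · exfalso
    have k0 : 0 < k := by omega
    have hs : (a * b) ^ k ∉ center G := fun e => hmin k (by omega) ⟨k0, e⟩
    have hk : (a * b) ^ k * (a * b) ^ k ∈ center G := by rw [← pow_add, ← two_mul]; exact hn
    have e : b * a = (a * b)⁻¹ := by
      rw [mul_inv_rev, inv_eq_of_mul_eq_one_right sa, inv_eq_of_mul_eq_one_right sb]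
    have e1 := key h ha hb hA h1 h2 k hk
    have e2 := key h hb ha hA h2 h1 k (by
      rw [e, inv_pow, ← mul_inv_rev]; exact inv_mem hk)
    rw [e, inv_pow] at e2
    have e3 : (a * b) ^ k ∈ Ez D b := by simpa using inv_mem e2
    exact hne ((h.toMc.blk3 ha e1 hs).symm.trans (h.toMc.blk3 hb e3 hs))
  · have m1 : a ∈ closure ({a, b} : Set G) := subset_closure (by simp)
    have m2 : b ∈ closure ({a, b} : Set G) := subset_closure (by simp)
    refine ⟨((a * b) ^ (k + 1))⁻¹, inv_mem (pow_mem (mul_mem m1 m2) _), _, hn, ?_⟩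
    rw [conj_a sa sb, show 2 * (k + 1) = (2 * k + 1) + 1 by ring, pow_succ' (a * b) (2 * k + 1),
      ← mul_assoc, ← mul_assoc, sa, one_mul]

end Cfsg.Agent.H78.ZcOd
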