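import Mathlib
import Cfsg.Agent.H58.Q4K2

/-!
# The pointwise stabiliser of a block of size seven
-/

set_option autoImplicit false

namespace Cfsg.Agent.H78QF

open Subgroup Equiv Function Cfsg.Agent.H58.Q4
open scoped Pointwise commutatorElement

universe u

theorem comm_cent {Q : Type*} [Group Q] (c : Q) (h : ∀ a : Q, a * c * a⁻¹ ∈ zpowers c) (a b : Q) :
    Commute ⁅a, b⁆ c := by
  obtain ⟨i, hi⟩ := mem_zpowers_iff.1 (h a⁻¹)
  obtain ⟨j, hj⟩ := mem_zpowers_iff.1 (h b⁻¹)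
  have e1 : a⁻¹ * (b⁻¹ * c * b⁻¹⁻¹) * a⁻¹⁻¹ = c ^ (i * j) := by
    rw [← hj, ← conj_zpow, ← hi, ← zpow_mul]
  have e2 : b⁻¹ * (a⁻¹ * c * a⁻¹⁻¹) * b⁻¹⁻¹ = c ^ (i * j) := by
    rw [← hi, ← conj_zpow, ← hj, ← zpow_mul, mul_comm]
  have e3 := e1.trans e2.symm
  rw [inv_inv, inv_inv] at e3
  show a * b * a⁻¹ * b⁻¹ * c = c * (a * b * a⁻¹ * b⁻¹)
  calc a * b * a⁻¹ * b⁻¹ * c = a * b * (a⁻¹ * (b⁻¹ * c * b) * a) * a⁻¹ * b⁻¹ := by group
    _ = a * b * (b⁻¹ * (a⁻¹ * c * a) * b) * a⁻¹ * b⁻¹ := by rw [e3]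
    _ = c * (a * b * a⁻¹ * b⁻¹) := by group

/-- The normaliser centralises a section of prime order. -/
theorem cent_sec {G : Type*} [Group G] {N D P : Subgroup G} {c : G} (hDN : D ≤ N)
    (hPD : P ≤ D) (hc : c ∈ D) (hNP : ∀ n ∈ N, ∀ x ∈ P, n * x * n⁻¹ ∈ P)
    (hND : ∀ n ∈ N, ∀ x ∈ D, n * x * n⁻¹ ∈ D) (hD : D ≤ P ⊔ zpowers c)
    (hperf : N ≤ ⁅N, N⁆ ⊔ (N ⊓ D)) : ∀ t ∈ N, t * c * t⁻¹ * c⁻¹ ∈ P := by
  have hn : (P.subgroupOf N).Normal :=
    ⟨fun x hx g => by rw [mem_subgroupOf] at hx ⊢; exact hNP g g.2 x hx⟩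
  let φ : N →* N ⧸ P.subgroupOf N := QuotientGroup.mk' _
  let c' : N := ⟨c, hDN hc⟩
  have hW : ∀ d (hd : d ∈ D), φ ⟨d, hDN hd⟩ ∈ zpowers (φ c') := by
    have : D ≤ ((zpowers (φ c')).comap φ).map N.subtype := by
      refine hD.trans (sup_le ?_ (zpowers_le.2 ⟨c', mem_zpowers _, rfl⟩))
      intro x hx
      refine ⟨⟨x, hDN (hPD hx)⟩, ?_, rfl⟩
      have : φ ⟨x, hDN (hPD hx)⟩ = 1 := (QuotientGroup.eq_one_iff _).2 hx
      show φ _ ∈ zpowers (φ c')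
      rw [this]; exact one_mem _
    intro d hd
    obtain ⟨y, hy, rfl⟩ := this hd
    exact hy
  have hnor : ∀ a : N ⧸ P.subgroupOf N, a * φ c' * a⁻¹ ∈ zpowers (φ c') := by
    intro a
    obtain ⟨n, rfl⟩ := QuotientGroup.mk'_surjective _ a
    have := hW _ (hND n n.2 c hc)
    rw [show (⟨n * c * (n : G)⁻¹, hDN (hND n n.2 c hc)⟩ : N) = n * c' * n⁻¹ from rfl,
      map_mul, map_mul, map_inv] at this
    exact this
  have hZ : N ≤ ((centralizer {φ c'}).comap φ).map N.subtype := by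
    refine hperf.trans (sup_le ?_ ?_)
    · rw [commutator_le]
      intro a ha b hb
      refine ⟨⁅(⟨a, ha⟩ : N), (⟨b, hb⟩ : N)⁆, ?_, rfl⟩
      show φ _ ∈ centralizer {φ c'}
      rw [map_commutatorElement, mem_centralizer_singleton_iff]
      exact (comm_cent _ hnor _ _).eq
    · intro d hd
      refine ⟨⟨d, hd.1⟩, ?_, rfl⟩
      show φ _ ∈ centralizer {φ c'}
      rw [mem_centralizer_singleton_iff]
      obtain ⟨i, hi⟩ := mem_zpowers_iff.1 (hW d hd.2)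
      rw [← hi]
      exact ((Commute.refl (φ c')).zpow_left i).eq
  intro t ht
  obtain ⟨y, hy, rfl⟩ := hZ ht
  have h1 : φ y * φ c' = φ c' * φ y := mem_centralizer_singleton_iff.1 hy
  have h2 : φ (y * c' * y⁻¹ * c'⁻¹) = 1 := by
    rw [map_mul, map_mul, map_mul, map_inv, map_inv, h1]; group
  exact mem_subgroupOf.1 ((QuotientGroup.eq_one_iff (y * c' * y⁻¹ * c'⁻¹)).1 h2)

/-- A `2`-element acting as a double transposition on seven points. -/
theorem exists_double {G Ω : Type u} [Group G] [Finite G] [MulAction G Ω] [Finite Ω]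
    {N : Subgroup G} {B : Set Ω} (hl : Hl N B) (hB : B.ncard = 7) :
    ∃ t ∈ N, Tw t ∧ (F1 Ω t ∩ B).ncard = 3 := by
  have hc : Nat.card B = 7 := hB
  let q := Finite.equivFinOfCardEq hc
  let e : Fin 7 → Ω := fun i => (q.symm i : Ω)
  have he : Injective e := Subtype.val_injective.comp q.symm.injective
  have hr : Set.range e = B := by
    ext x
    exact ⟨fun ⟨i, hi⟩ => hi ▸ (q.symm i).2, fun hx => ⟨q ⟨x, hx⟩, by simp [e]⟩⟩
  obtain ⟨ρ, hρ, -, hA⟩ := hl.co 7 e he hr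
  have hσ : (swap 0 1 * swap 2 3 : Perm (Fin 7)) ∈ ρ.range := by
    rw [hA (Or.inr rfl), Perm.mem_alternatingGroup]; simp
  obtain ⟨g, hg⟩ := hσ
  obtain ⟨a, b, hab, ⟨n, hn⟩, ho⟩ := exists_two_odd g
  have h1 : ρ (g ^ b) = 1 := by
    refine Tw.eq_one (Tw.of_sq ?_) (Odd.of_dvd_nat ho (orderOf_map_dvd ρ _))
    rw [map_pow, hg, ← pow_two, ← pow_mul, mul_comm b 2, pow_mul,
      show (swap 0 1 * swap 2 3 : Perm (Fin 7)) ^ 2 = 1 by decide, one_pow]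
  have h2 : ρ (g ^ a) = swap 0 1 * swap 2 3 := by
    rw [← hg, ← congrArg ρ hab, map_mul, h1, mul_one]
  refine ⟨(g ^ a : N), (g ^ a).2, ⟨n, congrArg Subtype.val hn⟩, ?_⟩
  have : F1 Ω ((g ^ a : N) : G) ∩ B = e '' {4, 5, 6} := by
    ext x
    constructor
    · rintro ⟨hx, hxB⟩
      rw [← hr] at hxB
      obtain ⟨i, rfl⟩ := hxB
      rw [mem_F1, hρ, h2] at hx
      refine ⟨i, ?_, rfl⟩
      simp only [Set.mem_insert_iff, Set.mem_singleton_iff]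
      exact (by decide : ∀ i : Fin 7, (swap 0 1 * swap 2 3 : Perm (Fin 7)) i = i →
        i = 4 ∨ i = 5 ∨ i = 6) i (he hx)
    · rintro ⟨i, hi, rfl⟩
      refine ⟨?_, hr ▸ ⟨i, rfl⟩⟩
      rw [mem_F1, hρ, h2]
      congr 1
      simp only [Set.mem_insert_iff, Set.mem_singleton_iff] at hi
      rcases hi with rfl | rfl | rfl <;> decide
  rw [this, Set.ncard_image_of_injective _ he]
  exact Set.ncard_eq_three.2 ⟨4, 5, 6, by decide, by decide, by decide, rfl⟩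

theorem k7c (fr : FrStmt.{u}) (blk : BlkStmt.{u}) (k7a : K7aStmt.{u}) : K7cStmt.{u} := by
  intro G Ω _ _ _ _ K P ev bk F hF h16 hKP
  obtain ⟨hP2, hodd, hFB, hl, hKB, hHN, -, hNB, -, -, -, -, -, -⟩ := blk G Ω K P ev F hF
  have hB7 := bk F hF
  have m7 := k7a G Ω K P ev bk F hF
  obtain ⟨-, -, -, -, fr5, -⟩ := fr G _ _ (ev.fr F hF)
  rw [hKP] at hodd hKB fr5
  have hDH : St G (Fx Ω (P F)) ≤ St G F := St_anti hFB
  have h3 := hl.sev hB7 F hFB hF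
  rw [inf_eq_right.2 hHN] at h3
  have h15 : (P F).relIndex (St G F) ∣ 15 := by
    rw [Nat.dvd_iff_prime_pow_dvd_dvd]
    intro p k hp hk
    rcases Nat.eq_zero_or_pos k with rfl | hk0
    · simp
    have : Fact p.Prime := ⟨hp⟩
    have hp2 : p ≠ 2 := by
      rintro rfl
      exact (Nat.not_even_iff_odd.2 hodd) (even_iff_two_dvd.2 ((dvd_pow_self 2 hk0.ne').trans hk))
    obtain ⟨U, hU, hUp, hUc⟩ := exists_pgroup_card (hk.trans (relIndex_dvd_card _ _))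
    have := fr5 U hU (IsPGroup.disjoint_of_ne p 2 hp2 _ _ hUp hP2).eq_bot (P F) le_rfl
      (hU.trans hHN)
    rw [h16, hUc] at this
    exact (Nat.modEq_iff_dvd' (by norm_num)).1 this.symm
  rw [← relIndex_mul_relIndex _ _ _ hKB hDH, h3] at h15
  have h5 : (P F).relIndex (St G (Fx Ω (P F))) ∣ 5 :=
    Nat.dvd_of_mul_dvd_mul_right (by norm_num : 0 < 3) h15
  rcases (Nat.dvd_prime Nat.prime_five).1 h5 with h | h
  · exact le_antisymm (relIndex_eq_one.1 h) hKB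
  exfalso
  have : Fact (Nat.Prime 5) := ⟨Nat.prime_five⟩
  obtain ⟨c', hc'⟩ := exists_prime_orderOf_dvd_card' (G := St G (Fx Ω (P F))) 5
    (h ▸ relIndex_dvd_card _ _)
  obtain ⟨c, hc⟩ := c'
  rw [orderOf_mk] at hc'
  have hc5 : IsPGroup 5 (zpowers c) := IsPGroup.of_card (n := 1) (by rw [Nat.card_zpowers, hc']; rfl)
  have hdis : zpowers c ⊓ P F = ⊥ :=
    (IsPGroup.disjoint_of_ne 5 2 (by norm_num) _ _ hc5 hP2).eq_bot
  have hcP : c ∉ P F := fun h => by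
    have : c ∈ zpowers c ⊓ P F := ⟨mem_zpowers c, h⟩
    rw [hdis, mem_bot] at this
    rw [this, orderOf_one] at hc'
    omega
  have hD : St G (Fx Ω (P F)) ≤ P F ⊔ zpowers c := by
    have h1 := relIndex_mul_relIndex (P F) (P F ⊔ zpowers c) (St G (Fx Ω (P F))) le_sup_left
      (sup_le hKB (zpowers_le.2 hc))
    rw [h] at h1
    rcases (Nat.dvd_prime Nat.prime_five).1 (Dvd.intro _ h1) with h2 | h2
    · exact absurd (relIndex_eq_one.1 h2 (mem_sup_right (mem_zpowers c))) hcP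
    · rw [h2] at h1
      exact relIndex_eq_one.1 (by omega)
  have key := cent_sec (hDH.trans hHN) hKB hc (fun n hn x hx => conj_mem_of_Nm hn hx)
    (fun n hn x hx => conj_mem_of_Nm (mem_Nm_St ((hNB n).1 hn)) hx) hD (hl.perf (by omega))
  obtain ⟨t, ht, htw, ht3⟩ := exists_double hl hB7
  obtain ⟨h4, -, -⟩ := m7.half t ht htw ht3
  rw [h16] at h4
  have h4' : Nat.card ↥(P F ⊓ Ce t) = 4 := by
    have : Nat.card ↥(P F ⊓ Ce t) ^ 2 = 4 ^ 2 := h4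
    exact (Nat.pow_left_injective (by norm_num) this)
  have hcN : c ∈ Nm (P F ⊓ Ce t) := by
    refine mem_Nm_of_finite fun a ha => ?_
    have ha1 : c * a * c⁻¹ ∈ P F := conj_mem_of_Nm (hHN (hDH hc)) ha.1
    refine ⟨ha1, mem_Ce.2 ?_⟩
    have e1 := (mem_Ce.1 ha.2).eq
    have e2 := (m7.comm _ (key t ht) _ ha1).eq
    have e3 : t * a * t⁻¹ = a := by rw [← e1]; group
    show c * a * c⁻¹ * t = t * (c * a * c⁻¹)
    calc c * a * c⁻¹ * t
        = (t * c * t⁻¹ * c⁻¹ * (c * a * c⁻¹)) * (t * c * t⁻¹ * c⁻¹)⁻¹ * t := by rw [e2]; group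
      _ = t * c * (t⁻¹ * a * t) * c⁻¹ := by group
      _ = t * (c * a * c⁻¹) := by
        rw [show t⁻¹ * a * t = a by rw [mul_assoc, e1]; group]; group
  have := fr5 (zpowers c) (zpowers_le.2 (hDH hc)) hdis (P F ⊓ Ce t) inf_le_left (zpowers_le.2 hcN)
  rw [h4', Nat.card_zpowers, hc'] at this
  exact absurd this (by decide)

end Cfsg.Agent.H78QF
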