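import Mathlib
import Cfsg.Agent.H78.ThTitsD
import Cfsg.Agent.H1.TitsOut

/-!
# Every element of the Tits group is a product of two conjugates of an element of order five
-/

set_option autoImplicit false
set_option maxRecDepth 100000

namespace Cfsg.Agent.H78.ThT

open Cfsg Cfsg.Lie Cfsg.Agent.H42 Cfsg.Agent.H46 Cfsg.Agent.H74 Cfsg.Agent.H91.TC
  Cfsg.Agent.H1.TitsOut Subgroup

/-- The element of order five. -/
noncomputable def x5 : TitsGroup := CT.el (el5 1)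

theorem R_x5 : CT.R (el5 1) x5 := CT.R_el (let ⟨_, x, _, h, _⟩ := syl5; ⟨x, h⟩)

/-- Products of two conjugates. -/
def Cov (g : TitsGroup) : Prop := ∃ u v, g = (u * x5 * u⁻¹) * (v * x5 * v⁻¹)

theorem Cov.of_conj {g k : TitsGroup} (h : Cov (k * g * k⁻¹)) : Cov g := by
  obtain ⟨u, v, e⟩ := h
  refine ⟨k⁻¹ * u, k⁻¹ * v, ?_⟩
  calc g = k⁻¹ * (k * g * k⁻¹) * k := by group
    _ = _ := by rw [e]; group

theorem R_cj (l : List ℕ) : ∃ u, CT.R (cj l) (u * x5 * u⁻¹) := by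
  induction l with
  | nil => exact ⟨1, by rw [one_mul, inv_one, mul_one]; exact R_x5⟩
  | cons i l ih =>
    obtain ⟨u, hu⟩ := ih
    have hi : i % 6 < 6 := Nat.mod_lt _ (by norm_num)
    obtain ⟨g, hg⟩ := exists_gen (i % 6) (by omega)
    have h2 : g⁻¹ = g := inv_eq_of_mul_eq_one_right
      (CT.eq_of_eqB (CT.R_mul hg hg) CT.R_one (of_allB chk6.1 hi))
    refine ⟨g * u, ?_⟩
    rw [show g * u * x5 * (g * u)⁻¹ = g * (u * x5 * u⁻¹) * g⁻¹ by group, h2]
    exact CT.R_mul (CT.R_mul hg hu) hg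

theorem cov_of_cert {a : ℕ} {g : TitsGroup} (h : CT.R a g) {l l' : List ℕ}
    (hc : cert a l l' = true) : Cov g := by
  obtain ⟨u, hu⟩ := R_cj l
  obtain ⟨v, hv⟩ := R_cj l'
  exact ⟨u, v, (CT.eq_of_eqB (CT.R_mul hu hv) h hc).symm⟩

theorem nf_succ (d i : ℕ) : nf (d + 1) i =
    if i % 2 = 0 then nf d (i / 2) else O.mul (xs2 (10 - d)) (nf d (i / 2)) := by
  refine (iteB_eq _ _ _).trans (if_congr beq_iff rfl rfl)

theorem ex_nf (d : ℕ) : ∀ i, ∃ g, CT.R (nf d i) g := by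
  induction d with
  | zero => exact fun _ => ⟨1, CT.R_one⟩
  | succ d ih =>
    intro i
    obtain ⟨g, hg⟩ := ih (i / 2)
    obtain ⟨y, hy⟩ := exists_of_tab xs2_tab (10 - d) (by omega)
    rw [nf_succ]
    split_ifs
    exacts [⟨g, hg⟩, ⟨_, CT.R_mul hy hg⟩]

theorem syl2 : ∃ P : Subgroup TitsGroup, Nat.card P = 2 ^ 11 ∧ CT.Enum P el2 2048 := by
  choose! x hx using exists_of_tab xs2_tab
  choose! g hg using exists_of_tab gs2_tab
  have h1 := Cert.ne_of_neChk (C := tp2) CT Q hok PT_act hx ne2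
  have P := Cert.pcG_of_relChk (C := tp2) CT hx hg let2 rel2 h1
  have H : PcMod x ⊥ 1 11 :=
    { central := fun t ht g => by rw [mem_bot.mp ht, one_mul, mul_one]
      pow := fun i hi => by
        rw [show x i ^ (1 + 1) = _ from P.pow i hi]; exact ev_mem_pcC (P.letters i i le_rfl hi)
      conj := fun i j hij hj => by
        rw [mul_assoc, P.conj i j hij hj, inv_mul_cancel_left]
        exact ev_mem_pcC (P.letters i j hij.le hj) }
  have key : ∀ d ≤ 11, ∀ c ∈ pcC x ⊥ 11 (11 - d), ∃ i < 2 ^ d, CT.R (nf d i) c := by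
    intro d
    induction d with
    | zero =>
      intro _ c hc
      rw [Nat.sub_zero, pcC_top, mem_bot] at hc
      exact ⟨0, by norm_num, hc ▸ CT.R_one⟩
    | succ d ih =>
      intro hd c hc
      rw [show 11 - (d + 1) = 10 - d by omega] at hc
      obtain ⟨e, c', hc', rfl⟩ := H.normal_form (by omega) hc
      have h2 := mul_mem (pow_mem (H.pow (10 - d) (by omega)) (e / 2)) hc'
      rw [show 10 - d + 1 = 11 - d by omega] at h2
      obtain ⟨i, hi, hR⟩ := ih (by omega) _ h2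
      refine ⟨2 * i + e % 2, by rw [pow_succ]; omega, ?_⟩
      rw [nf_succ, show (2 * i + e % 2) / 2 = i by omega, ← Nat.mod_add_div e 2, pow_add, pow_mul,
        mul_assoc]
      split_ifs with h
      · rwa [show e % 2 = 0 by omega, pow_zero, one_mul]
      · rw [show e % 2 = 1 by omega, pow_one]
        exact CT.R_mul (hx _ (by omega)) hR
  have he : CT.Enum (pcC x ⊥ 11 0) el2 2048 := key 11 le_rfl
  refine ⟨_, le_antisymm (he.card_le CT) (Nat.le_of_dvd Nat.card_pos ?_), he⟩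
  have := P.pow_dvd_card Nat.prime_two
  rwa [pcC, sup_bot_eq]

theorem cov_two {g : TitsGroup} (h : g ^ 2 ^ 11 = 1) : Cov g := by
  obtain ⟨P, h1, h2⟩ := syl2
  obtain ⟨h3, h4⟩ := sylow_of_card (r := 8775) P h1 (card_T.trans (by norm_num)) (by norm_num)
  obtain ⟨k, hk⟩ := exists_conj_mem_of_pow P h3 h4 h
  obtain ⟨i, hi, hR⟩ := h2 _ hk
  have h5 := of_allB chkS2 hi
  obtain ⟨s, hs⟩ := ex_nf 11 (bits (recS i) (nat_lit 6) (nat_lit 0x7ff))
  obtain ⟨r, hr⟩ := ex_nf 11 (repS (bits (recS i) (nat_lit 0) (nat_lit 63) % 35))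
  have h6 := cov_of_cert hr (of_allB chkS1 (Nat.mod_lt _ (by norm_num)))
  refine Cov.of_conj (k := s⁻¹ * k) ?_
  rwa [show s⁻¹ * k * g * (s⁻¹ * k)⁻¹ = s⁻¹ * (k * g * k⁻¹) * s by group,
    ← CT.conj_of_conjB hs hr hR h5, show s⁻¹ * (s * r * s⁻¹) * s = r by group]

theorem j_mem (g : TitsGroup) : j g ∈ GG := g.1.2

theorem eq_one_of_cent' {G : Type*} [Group G] {N : Subgroup G} [IsSimpleGroup N]
    (h1 : N.index = 2) (h2 : ¬ IsMulCommutative N) (h3 : ∀ g : G, g * g = 1 → g ∈ N) {d : G}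
    (h : ∀ g : N, g * d = d * g) : d = 1 := by
  have hz : ∀ e : N, (∀ g : N, (g : G) * e = e * g) → e = 1 := fun e he => by
    rcases (inferInstance : (center N).Normal).eq_bot_or_eq_top with h | h
    · exact mem_bot.1 (h ▸ mem_center_iff.2 fun g => Subtype.ext (he g))
    · exact absurd ⟨⟨fun a b => mem_center_iff.1 (h ▸ mem_top b) a⟩⟩ h2
  have h4 := hz ⟨d * d, mul_self_mem_of_index_two h1 _⟩ fun g => by
    change g * (d * d) = d * d * g
    rw [← mul_assoc, h, mul_assoc, h, mul_assoc]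
  exact congrArg Subtype.val (hz ⟨d, h3 d (congrArg Subtype.val h4)⟩ h)

theorem eq_one_of_cent {d : Γ} (hd : d ∈ GG) (h : ∀ g : TitsGroup, j g * d = d * j g) : d = 1 :=
  have := H34.Tits.tits.2.1
  congrArg Subtype.val (eq_one_of_cent' (d := (⟨d, hd⟩ : GG)) H34.Tits.tits.1 H34.Tits.tits.2.2.1
    (fun _ => H34.Tits.mem_comm) fun g => Subtype.ext (h g))

theorem not_mem_cc : ¬ CG.Mem TT cc := fun h => by
  have h1 : CG.Mem TT cd := by
    obtain ⟨c, hc, Rc⟩ := h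
    obtain ⟨d, hd, Rd⟩ := tabG 3 (by norm_num)
    have h2 := (mem_TT ((tabG 3 (by norm_num)).mul (tabG 2 (by norm_num))) chk6.2.1).mem
      (CG.R_mul Rd Rc)
    exact ⟨d, (mul_mem_cancel_right hc).1 h2, Rd⟩
  have h2 : CG.Tab TT gG 4 := fun i hi => by
    interval_cases i
    exacts [mem_TT (tabG 0 (by norm_num)) (of_allB chkG.2.2.2.2.2.1 (i := 0) (by norm_num)),
      mem_TT (tabG 1 (by norm_num)) (of_allB chkG.2.2.2.2.2.1 (i := 1) (by norm_num)), h, h1]
  have h3 : commutator GG = ⊤ := eq_top_iff.2 fun g _ => by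
    obtain ⟨k, hk⟩ := GG_le.trans h2.closure_le g.2
    exact (show k.1 = g from Subtype.ext hk) ▸ k.2
  have := H34.Tits.tits.1
  rw [h3, index_top] at this
  omega

theorem cent' {Γ H : Type*} [Group Γ] [Group H] (C : Coded O Γ) (j : H →* Γ)
    (hj : Function.Injective j) {GG : Subgroup Γ} (j_mem : ∀ g, j g ∈ GG)
    (hz : ∀ d ∈ GG, (∀ g, j g * d = d * j g) → d = 1) {t t' t'' : H}
    (Rt : (C.comap j hj).R ct t) (Ru : (C.comap j hj).R cu t') (Rv : (C.comap j hj).R cv t'')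
    (hT : ∀ g, ∃ i < 1755, (C.comap j hj).R (tab i) (g * t * g⁻¹))
    (hcl : closure {t, t', t''} = ⊤) (hgen : (C.comap j hj).Tab ⊤ gen 23) (hcc : C.Mem GG cc)
    (hcc' : ¬ C.Mem j.range cc) {A k e b n m : ℕ} {a : H} (Ra : (C.comap j hj).R A a)
    (he : 0 < e ∧ e < 4096) (hm : 0 < m) {gw W : ℕ → List ℕ} {par gi dep : ℕ → ℕ} {E : ℕ → ℕ}
    (hE : E = O.tabW (fun j => O.word gen (gw j)) m par gi dep)
    (h1 : allB (fun j => andB (allL (fun i => ltB i 23) (gw j))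
      (O.commB (O.word gen (gw j)) A)) m = true) (h2 : ThT.chkW A b W = true)
    (h3 : prd A k e (tab b) = true)
    (h5 : ∀ i < 1755, prd A k e (tab i) = true → (∃ r < n, O.conjB (E r) (tab b) (tab i) = true) ∨
      ∃ r l, allL (fun i => ltB i 23) l = true ∧ O.commB (O.mul cc (O.word gen l)) A = true ∧
        O.conjB (O.mul (E r) (O.mul cc (O.word gen l))) (tab b) (tab i) = true)
    {c : H} (hc : c ∈ centralizer {a}) : ∃ r < n, (C.comap j hj).R (E r) c := by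
  replace hc := mem_centralizer_singleton_iff.1 hc
  obtain ⟨k0, -, Rb⟩ := tab_conj (C.comap j hj) Rt Ru Rv b
  obtain ⟨i, hi, Ri⟩ := hT (c * k0)
  replace Ri : (C.comap j hj).R (tab i) (c * (k0 * t * k0⁻¹) * c⁻¹) := by
    rwa [show c * (k0 * t * k0⁻¹) * c⁻¹ = c * k0 * t * (c * k0)⁻¹ by group]
  generalize k0 * t * k0⁻¹ = s at Rb Ri
  have Ra' : C.R A (j a) := Ra
  have Rb' : C.R (tab b) (j s) := Rb
  have Ri' : C.R (tab i) (j (c * s * c⁻¹)) := Ri
  have L0 : ∀ d ∈ GG, j a * d = d * j a → j s * d = d * j s → d = 1 := by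
    intro d hd e1 e2
    have m2 := mem_centralizer_singleton_iff.2 e2
    have hK : C.Tab (centralizer {d}) (getL [A, tab b]) 2 := C.tab_getL (l := [A, tab b]) (by
      simp only [List.forall_mem_cons]
      exact ⟨⟨_, mem_centralizer_singleton_iff.2 e1, Ra'⟩, ⟨_, m2, Rb'⟩, by simp⟩)
    have h6 : ∀ i < 3, ∀ s, C.R (gK i) (j s) → j s ∈ centralizer {d} := fun i hi s hs => by
      obtain ⟨h7, h8⟩ := andB_iff.1 (of_allB h2 hi)
      obtain ⟨w, hw, Rw⟩ := hK.word C _ h7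
      rw [← C.conj_of_conjB Rw Rb' hs h8]
      exact mul_mem (mul_mem hw m2) (inv_mem hw)
    have h7 : closure {t, t', t''} ≤ (centralizer {d}).comap j := (closure_le _).2 (by
      rintro _ (rfl | rfl | rfl)
      exacts [h6 0 (by norm_num) _ Rt, h6 1 (by norm_num) _ Ru, h6 2 (by norm_num) _ Rv])
    rw [hcl] at h7
    exact hz d hd fun g => mem_centralizer_singleton_iff.1 (h7 (mem_top g))
  have hg : (C.comap j hj).Tab (centralizer {a}) (fun j => O.word gen (gw j)) m := fun i hi => by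
    obtain ⟨h7, h8⟩ := andB_iff.1 (of_allB h1 hi)
    obtain ⟨w, -, Rw⟩ := hgen.word _ _ h7
    exact ⟨w, mem_centralizer_singleton_iff.2 (((C.comap j hj).commB_iff Rw Ra).1 h8), Rw⟩
  have hE' : ∀ r, (C.comap j hj).Mem (centralizer {a}) (E r) := fun r =>
    hE ▸ (C.comap j hj).mem_tabW hm hg par gi dep r
  have h6 : prd A k e (tab i) = true := by
    have h7 := ((C.comap j hj).powOne_iff ((C.comap j hj).R_mul Rb ((C.comap j hj).R_pow Ra k))
      he.1 he.2).1 h3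
    refine ((C.comap j hj).powOne_iff ((C.comap j hj).R_mul Ri ((C.comap j hj).R_pow Ra k))
      he.1 he.2).2 ?_
    have h8 : c * s * c⁻¹ * a ^ k = c * (s * a ^ k) * c⁻¹ := by
      rw [mul_assoc (c * s), (Commute.pow_right (show Commute c a from hc) k).inv_left.eq]; group
    rw [h8, conj_pow, h7]; simp
  have L1 : ∀ f ∈ GG, f * j a = j a * f → f * j s * f⁻¹ = j (c * s * c⁻¹) → f = j c := by
    intro f hf e1 e2
    refine inv_mul_eq_one.1 (L0 _ (mul_mem (inv_mem hf) (j_mem c)) ?_ ?_)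
    · rw [mul_assoc, ← map_mul, hc, map_mul, ← mul_assoc, ← mul_assoc,
        (show Commute f (j a) from e1).inv_left.eq]
    · rw [map_mul, map_mul, map_inv] at e2
      calc _ = f⁻¹ * (f * j s * f⁻¹) * j c := by group
        _ = _ := by rw [e2]; group
  rcases h5 i hi h6 with ⟨r, hr, h7⟩ | ⟨r, l, h7, h8, h9⟩
  · obtain ⟨y, hy, Ry⟩ := hE' r
    have h8 := L1 (j y) (j_mem y) (by
      rw [← map_mul, mem_centralizer_singleton_iff.1 hy, map_mul])
      (C.conj_of_conjB (show C.R (E r) (j y) from Ry) Rb' Ri' h7)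
    exact ⟨r, hr, hj h8 ▸ Ry⟩
  · obtain ⟨y, hy, Ry⟩ := hE' r
    obtain ⟨w, -, Rw⟩ := hgen.word _ _ h7
    obtain ⟨o, ho, Ro⟩ := hcc
    have Ro' := C.R_mul Ro (show C.R (O.word gen l) (j w) from Rw)
    have h10 := L1 (j y * (o * j w)) (mul_mem (j_mem y) (mul_mem ho (j_mem w))) (by
      rw [mul_assoc, (C.commB_iff Ro' Ra').1 h8, ← mul_assoc, ← map_mul,
        mem_centralizer_singleton_iff.1 hy, map_mul, mul_assoc])
      (C.conj_of_conjB (C.R_mul (show C.R (E r) (j y) from Ry) Ro') Rb' Ri' h9)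
    refine absurd ⟨o, ⟨y⁻¹ * c * w⁻¹, ?_⟩, Ro⟩ hcc'
    rw [map_mul, map_mul, map_inv, map_inv, ← h10]; group

theorem cent {A k e b n m : ℕ} {a : TitsGroup} (Ra : CT.R A a) (he : 0 < e ∧ e < 4096) (hm : 0 < m)
    {gw W u v : ℕ → List ℕ} {par gi dep : ℕ → ℕ} {E : ℕ → ℕ}
    (hE : E = O.tabW (fun j => O.word gen (gw j)) m par gi dep)
    (h1 : allB (fun j => andB (allL (fun i => ltB i 23) (gw j))
      (O.commB (O.word gen (gw j)) A)) m = true) (h2 : ThT.chkW A b W = true)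
    (h3 : prd A k e (tab b) = true) (h4 : allB (fun k => cert (E k) (u k) (v k)) n = true)
    (h5 : ∀ i < 1755, prd A k e (tab i) = true → (∃ r < n, O.conjB (E r) (tab b) (tab i) = true) ∨
      ∃ r l, allL (fun i => ltB i 23) l = true ∧ O.commB (O.mul cc (O.word gen l)) A = true ∧
        O.conjB (O.mul (E r) (O.mul cc (O.word gen l))) (tab b) (tab i) = true)
    {c : TitsGroup} (hc : c ∈ centralizer {a}) : Cov c := by
  have := H34.Tits.tits.2.1
  obtain ⟨k1, k2, -, -, k5, -, k7, -⟩ := chkG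
  obtain ⟨t, Rt⟩ := exists_CT (mem_TT (tabG.of_wordChk CG k1) (of_allB k7 (i := 0) (by norm_num)))
  obtain ⟨t', Ru⟩ := exists_CT (mem_TT (tabG.of_wordChk CG k2) (of_allB k7 (i := 1) (by norm_num)))
  obtain ⟨t'', Rv⟩ := exists_CT (mem_TT (tabG.of_wordChk CG k5) (of_allB k7 (i := 2) (by norm_num)))
  have hT := conj_tab (H := TitsGroup) j j_inj j_mem Rt Ru Rv
  obtain ⟨r, hr, h⟩ := cent' (H := TitsGroup) CG j j_inj j_mem (fun _ => eq_one_of_cent) Rt Ru Rv hT
    (closure_tuv CT Rt Ru Rv hT) gen_top (tabG 2 (by norm_num)) not_mem_cc Ra he hm hE h1 h2 h3 h5 hc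
  exact cov_of_cert h (of_allB h4 hr)

theorem of_chk1 {A k e b n : ℕ} (hn : 0 < n) {E lk : ℕ → ℕ}
    (h : allB (chk1 A k e b n E lk) 1755 = true) {i : ℕ} (hi : i < 1755)
    (hp : prd A k e (tab i) = true) : ∃ r < n, O.conjB (E r) (tab b) (tab i) = true :=
  ⟨_, Nat.mod_lt _ hn, (orB_iff.1 (of_allB h hi)).resolve_left fun h => by
    rw [notB_iff, hp] at h; exact absurd h (by simp)⟩

theorem of_chk2 {A k e b n o : ℕ} (hn : 0 < n) {E lk : ℕ → ℕ}
    (h : allB (chk2 A k e b n o E lk) 1755 = true) {i : ℕ} (hi : i < 1755)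
    (hp : prd A k e (tab i) = true) : (∃ r < n, O.conjB (E r) (tab b) (tab i) = true) ∨
      ∃ r, O.conjB (O.mul (E r) o) (tab b) (tab i) = true := by
  have h1 := (orB_iff.1 (of_allB h hi)).resolve_left fun h => by
    rw [notB_iff, hp] at h; exact absurd h (by simp)
  rw [iteB_eq] at h1
  split_ifs at h1
  exacts [Or.inl ⟨_, Nat.mod_lt _ hn, h1⟩, Or.inr ⟨_, h1⟩]

theorem exists_pow {G : Type*} [Group G] [Finite G] {g : G} {p : ℕ} (hp : p ∣ orderOf g) :
    ∃ y, orderOf y = p ∧ Commute g y :=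
  ⟨g ^ (orderOf g / p), orderOf_pow_orderOf_div (orderOf_pos g).ne' hp,
    (Commute.refl g).pow_right _⟩

theorem cov_of_syl {p k r : ℕ} [Fact p.Prime] {P : Subgroup TitsGroup} (hP : Nat.card P = p ^ k)
    (hr : 17971200 = p ^ k * r ∧ ¬ p ∣ r) {a : TitsGroup} (ha : ∀ g ∈ P, g ≠ 1 → IsConj a g)
    (hc : ∀ c ∈ centralizer {a}, Cov c) {g : TitsGroup} (hp : p ∣ orderOf g) : Cov g := by
  obtain ⟨y, hy, e⟩ := exists_pow hp
  obtain ⟨h3, h4⟩ := sylow_of_card P hP (card_T.trans hr.1) hr.2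
  obtain ⟨w, hw⟩ := exists_conj_mem_of_pow P h3 h4 (x := y) (k := 1)
    (by rw [pow_one, ← hy, pow_orderOf_eq_one])
  obtain ⟨c, hc'⟩ := isConj_iff.1 (ha _ hw fun h => (Fact.out : p.Prime).one_lt.ne' (by
    rw [← hy, orderOf_eq_one_iff]; simpa using h))
  refine Cov.of_conj (k := c⁻¹ * w) (hc _ (mem_centralizer_singleton_iff.2 ?_))
  calc _ = c⁻¹ * w * g * w⁻¹ * (c * a * c⁻¹) * c := by group
    _ = c⁻¹ * w * (g * y) * w⁻¹ * c := by rw [hc']; group
    _ = c⁻¹ * (w * y * w⁻¹) * w * g * w⁻¹ * c := by rw [e.eq]; group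
    _ = _ := by rw [← hc']; group

theorem cov (g : TitsGroup) : Cov g := by
  by_cases h3 : 3 ∣ orderOf g
  · obtain ⟨P, a, h1, Ra, h2⟩ := syl3
    exact cov_of_syl (p := 3) (k := 3) (r := 665600) h1 (by norm_num) h2 (fun c hc =>
      cent Ra (by norm_num) (by norm_num) rfl chkA3.1 chkA3.2.1 chkA3.2.2.1 chkB3 (fun i hi h =>
        (of_chk2 (by norm_num) chkC3 hi h).imp_right fun ⟨r, hr⟩ =>
          ⟨r, _, by decide +kernel, chkA3.2.2.2, hr⟩) hc) h3
  by_cases h5 : 5 ∣ orderOf g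
  · obtain ⟨P, a, h1, Ra, h2⟩ := syl5
    have := Fact.mk Nat.prime_five
    exact cov_of_syl (p := 5) (k := 2) (r := 718848) h1 (by norm_num) h2 (fun c hc =>
      cent Ra (by norm_num) (by norm_num) rfl chkA5.1 chkA5.2.1 chkA5.2.2.1 chkB5 (fun i hi h =>
        (of_chk2 (by norm_num) chkC5 hi h).imp_right fun ⟨r, hr⟩ =>
          ⟨r, _, by decide +kernel, chkA5.2.2.2, hr⟩) hc) h5
  by_cases h13 : 13 ∣ orderOf g
  · obtain ⟨a, -, Ra⟩ := gen_top.word CT [0, 3, 5, 4] (by decide +kernel)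
    have h1 := CT.orderOf_of_ordChk Ra (n := 13) (l := [13]) (by norm_num) (by norm_num)
      (by simp [Nat.primeFactorsList_prime (p := 13) (by norm_num)]) (by decide +kernel)
    obtain ⟨y, hy, e⟩ := exists_pow h13
    obtain ⟨w, hw⟩ := exists_conj_zpowers (p := 13) (r := 1382400) (by norm_num)
      (card_T.trans (by norm_num)) (by norm_num) h1 hy
    refine Cov.of_conj (k := w) (cent (A := a13) Ra (by norm_num) (by norm_num) rfl chkA13.1
      chkA13.2.1 chkA13.2.2 chkB13 (fun i hi h => Or.inl (of_chk1 (by norm_num) chkC13 hi h)) ?_)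
    rw [← hw, mem_centralizer_singleton_iff]
    calc _ = w * (g * y) * w⁻¹ := by group
      _ = _ := by rw [e.eq]; group
  refine cov_two (orderOf_dvd_iff_pow_eq_one.1 ?_)
  have h := orderOf_dvd_natCard g
  rw [card_T, show 17971200 = 2 ^ 11 * 3 ^ 3 * 5 ^ 2 * 13 by norm_num] at h
  exact (((Nat.prime_three.coprime_iff_not_dvd.2 h3).symm.pow_right 3).dvd_mul_right).1
    ((((Nat.prime_five.coprime_iff_not_dvd.2 h5).symm.pow_right 2).dvd_mul_right).1
      ((((by norm_num : Nat.Prime 13).coprime_iff_not_dvd.2 h13).symm.dvd_mul_right).1 h))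

theorem tits_cover : ∃ x : TitsGroup, Odd (orderOf x) ∧
    ∀ g, ∃ u v, g = (u * x * u⁻¹) * (v * x * v⁻¹) :=
  ⟨x5, Odd.of_dvd_nat (by decide : Odd 5) (orderOf_dvd_of_pow_eq_one
    ((CT.powOne_iff R_x5 (by norm_num) (by norm_num)).1 chk6.2.2)), cov⟩

end Cfsg.Agent.H78.ThT
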