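import Cfsg.Agent.H78.C3W

/-!
# All pairs of lifts are good: the third Conway group
-/

set_option autoImplicit false
set_option maxRecDepth 200000
set_option linter.style.longLine false
open Subgroup

namespace Cfsg.Agent.H78C3
open Cfsg.Agent.H44 Cfsg.Agent.H80.KS Cfsg.Agent.H46.S94

universe u

variable {G : Type u} [Group G] {φ : Γ3 →* G} {t : G} {f : Γ3 → G}

/-- exact lines of words -/
abbrev ee (f : Γ3 → G) (r s : List ℕ) : Prop := EE t3 f (ev ν r) (ev ν s)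

/-- good pairs of words -/
abbrev gg (t : G) (f : Γ3 → G) (r s : List ℕ) : Prop := GG t t3 f (ev ν r) (ev ν s)

/-- the hypotheses -/
structure HH (φ : Γ3 →* G) (t : G) (f : Γ3 → G) : Prop where
  h : WL φ t t3 f ν qw
  b : ee f [7] [8]

/-- the generating words -/
def SW : List (List ℕ) := [[3], [7], [8], [9], [10], [6, 4, 5, 6, 2, 1, 5, 4, 7, 4, 5, 1, 2, 6, 5, 4, 6], [4, 6, 5, 2, 6, 5, 3, 4, 7, 4, 3, 5, 6, 2, 5, 6, 4]]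

variable (H : HH φ t f)
include H

theorem ce1 : ee f [9] [7] :=
  H.h.e H.b [5, 4] _ _ (by decide +kernel)

theorem ce2 : ee f [4, 5, 6, 5, 4, 7, 4, 5, 6, 5, 4] [6, 2, 5, 4, 7, 4, 5, 2, 6] :=
  H.h.e H.b [4, 5, 6, 5, 4, 6, 2, 5] _ _ (by decide +kernel)

theorem ce3 : ee f [5, 3, 4, 7, 4, 3, 5] [4, 1, 5, 6, 5, 3, 4, 7, 4, 3, 5, 6, 5, 1, 4] :=
  H.h.e H.b [5, 3, 4, 10, 1, 5, 2, 6, 2, 5] _ _ (by decide +kernel)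

theorem ce4 : ee f [9] [4, 5, 6, 5, 4, 7, 4, 5, 6, 5, 4] :=
  H.h.e H.b [5, 4, 5, 2, 6, 5, 3] _ _ (by decide +kernel)

theorem ce5 : ee f [4, 5, 1, 6, 5, 4, 7, 4, 5, 6, 1, 5, 4] [8] :=
  H.h.e H.b [4, 5, 1, 6, 5, 4] _ _ (by decide +kernel)

theorem ce6 : ee f [7] [6, 2, 5, 4, 7, 4, 5, 2, 6] :=
  H.h.e H.b [6, 2, 5] _ _ (by decide +kernel)

theorem ce7 : ee f [4, 5, 6, 1, 5, 4, 7, 4, 5, 1, 6, 5, 4] [6, 2, 5, 3, 4, 7, 4, 3, 5, 2, 6] :=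
  H.h.e H.b [4, 5, 6, 1, 5, 4, 2, 6, 1, 5] _ _ (by decide +kernel)

theorem ce8 : ee f [7] [8] :=
  H.h.e H.b [] _ _ (by decide +kernel)

theorem cp1 : f (ev ν [9]) * (f (ev ν [7]) * (f (ev ν [4, 5, 6, 5, 4, 7, 4, 5, 6, 5, 4]) * (f (ev ν [6, 2, 5, 4, 7, 4, 5, 2, 6]) * 1))) =
    f (ev ν [4, 1, 5, 1, 6, 5, 4, 7, 4, 5, 6, 1, 5, 1, 4]) * 1 := by
  rw [H.h.mg (ce1 H) [5, 3, 4, 7, 4, 3, 5] (by decide +kernel),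
    H.h.mg (ce2 H) [4, 1, 5, 6, 5, 3, 4, 7, 4, 3, 5, 6, 5, 1, 4] (by decide +kernel),
    H.h.mg (ce3 H) [4, 1, 5, 1, 6, 5, 4, 7, 4, 5, 6, 1, 5, 1, 4] (by decide +kernel)]

theorem cp2 : f (ev ν [9]) * (f (ev ν [4, 5, 6, 5, 4, 7, 4, 5, 6, 5, 4]) * (f (ev ν [8]) * (f (ev ν [7]) * (f (ev ν [6, 2, 5, 4, 7, 4, 5, 2, 6]) * 1)))) =
    f (ev ν [4, 1, 5, 1, 6, 5, 4, 7, 4, 5, 6, 1, 5, 1, 4]) * 1 := by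
  rw [H.h.mg (ce4 H) [4, 5, 1, 6, 5, 4, 7, 4, 5, 6, 1, 5, 4] (by decide +kernel),
    H.h.mg (ce5 H) [4, 5, 6, 1, 5, 4, 7, 4, 5, 1, 6, 5, 4] (by decide +kernel),
    H.h.mg (ce6 H) [6, 2, 5, 3, 4, 7, 4, 3, 5, 2, 6] (by decide +kernel),
    H.h.mg (ce7 H) [4, 1, 5, 1, 6, 5, 4, 7, 4, 5, 6, 1, 5, 1, 4] (by decide +kernel)]

theorem ck1 : gg t f [7] [8] := H.h.lf.ee_gg H.b

theorem ck2 : gg t f [7] [4, 5, 6, 5, 4, 7, 4, 5, 6, 5, 4] :=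
  H.h.grid (ce8 H) (ce2 H).r1 (by decide +kernel) ((cp1 H).trans (cp2 H).symm)

theorem cg1 : gg t f [4, 5, 2, 6, 5, 4, 7, 4, 5, 6, 2, 5, 4] [7] :=
  H.h.g (ck2 H) [4, 5, 2, 6, 5, 4, 5, 3, 1, 3] _ _ (by decide +kernel)

theorem cg2 : gg t f [6, 4, 5, 6, 2, 5, 4, 7, 4, 5, 2, 6, 5, 4, 6] [7] :=
  H.h.g (ck2 H) [6, 4, 5, 6, 2, 5, 4, 10, 7, 5] _ _ (by decide +kernel)

theorem cg3 : gg t f [4, 5, 2, 6, 5, 4, 7, 4, 5, 6, 2, 5, 4] [6, 4, 5, 6, 2, 5, 4, 7, 4, 5, 2, 6, 5, 4, 6] :=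
  H.h.g (ck2 H) [4, 5, 2, 6, 5, 4, 6, 3, 9, 2, 5, 1] _ _ (by decide +kernel)

theorem ck4 : gg t f [7] [4, 5, 2, 6, 5, 3, 2, 6, 5, 4, 7, 4, 5, 6, 2, 3, 5, 6, 2, 5, 4] :=
  H.h.lf.gg_symm (H.h.conj (cg1 H) (cg2 H) (cg3 H) _ (by decide +kernel))

theorem cg4 : gg t f [2, 5, 4, 7, 4, 5, 2] [7] :=
  H.h.g (ck1 H) [2, 5, 4] _ _ (by decide +kernel)

theorem cg5 : gg t f [4, 6, 5, 6, 4, 5, 2, 6, 5, 4, 7, 4, 5, 6, 2, 5, 4, 6, 5, 6, 4] [7] :=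
  H.h.g (ck4 H) [4, 6, 5, 6, 4, 5, 2, 6, 5, 4, 9, 6, 9] _ _ (by decide +kernel)

theorem cg6 : gg t f [2, 5, 4, 7, 4, 5, 2] [4, 6, 5, 6, 4, 5, 2, 6, 5, 4, 7, 4, 5, 6, 2, 5, 4, 6, 5, 6, 4] :=
  H.h.g (ck4 H) [2, 5, 4, 6, 2, 5, 10, 3, 1, 6, 5, 2] _ _ (by decide +kernel)

theorem ck5 : gg t f [7] [4, 5, 4, 2, 6, 5, 4, 2, 5, 6, 5, 4, 7, 4, 5, 6, 5, 2, 4, 5, 6, 2, 4, 5, 4] :=
  H.h.lf.gg_symm (H.h.conj (cg4 H) (cg5 H) (cg6 H) _ (by decide +kernel))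

theorem cg7 : gg t f [8] [7] :=
  H.h.g (ck1 H) [4] _ _ (by decide +kernel)

theorem cg8 : gg t f [3, 4, 5, 6, 4, 5, 2, 6, 5, 4, 7, 4, 5, 6, 2, 5, 4, 6, 5, 4, 3] [7] :=
  H.h.g (ck4 H) [3, 4, 5, 6, 4, 5, 2, 6, 5, 4, 9, 6, 9] _ _ (by decide +kernel)

theorem cg9 : gg t f [8] [3, 4, 5, 6, 4, 5, 2, 6, 5, 4, 7, 4, 5, 6, 2, 5, 4, 6, 5, 4, 3] :=
  H.h.g (ck4 H) [4, 1, 5, 1, 3, 2] _ _ (by decide +kernel)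

theorem ck3 : gg t f [7] [8, 3, 4, 5, 6, 5, 4, 5, 6, 5, 4, 7, 4, 5, 6, 5, 4, 5, 6, 5, 4, 3, 8] :=
  H.h.lf.gg_symm (H.h.conj (cg7 H) (cg8 H) (cg9 H) _ (by decide +kernel))

theorem cg13 : gg t f [3] [7] :=
  H.h.g (ck1 H) [10, 6, 5, 1, 6, 5, 4] _ _ (by decide +kernel)

theorem cg14 : gg t f [3] [8] :=
  H.h.g (ck2 H) [10, 6, 5, 1, 6, 5, 4, 10] _ _ (by decide +kernel)

theorem cg15 : gg t f [3] [9] :=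
  H.h.g (ck2 H) [10, 6, 5, 1, 6, 5, 4, 1, 10] _ _ (by decide +kernel)

theorem cg16 : gg t f [3] [10] :=
  H.h.g (ck2 H) [10, 6, 5, 1, 6, 5, 4, 6, 1, 2, 5] _ _ (by decide +kernel)

theorem cg17 : gg t f [3] [6, 4, 5, 6, 2, 1, 5, 4, 7, 4, 5, 1, 2, 6, 5, 4, 6] :=
  H.h.g (ck3 H) [10, 6, 5, 1, 6, 5, 4, 8, 3] _ _ (by decide +kernel)

theorem cg18 : gg t f [3] [4, 6, 5, 2, 6, 5, 3, 4, 7, 4, 3, 5, 6, 2, 5, 6, 4] :=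
  H.h.g (ck5 H) [10, 6, 5, 1, 6, 5, 4, 2, 3, 10, 6, 3] _ _ (by decide +kernel)

theorem cg19 : gg t f [7] [8] :=
  H.h.g (ck1 H) [] _ _ (by decide +kernel)

theorem cg20 : gg t f [7] [9] :=
  H.h.g (ck1 H) [5] _ _ (by decide +kernel)

theorem cg21 : gg t f [7] [10] :=
  H.h.g (ck1 H) [2, 1, 5] _ _ (by decide +kernel)

theorem cg22 : gg t f [7] [6, 4, 5, 6, 2, 1, 5, 4, 7, 4, 5, 1, 2, 6, 5, 4, 6] :=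
  H.h.g (ck2 H) [1, 10, 6, 5] _ _ (by decide +kernel)

theorem cg23 : gg t f [7] [4, 6, 5, 2, 6, 5, 3, 4, 7, 4, 3, 5, 6, 2, 5, 6, 4] :=
  H.h.g (ck2 H) [2, 6, 10, 5] _ _ (by decide +kernel)

theorem cg24 : gg t f [8] [9] :=
  H.h.g (ck1 H) [4, 5] _ _ (by decide +kernel)

theorem cg25 : gg t f [8] [10] :=
  H.h.g (ck1 H) [4, 2, 1, 5] _ _ (by decide +kernel)

theorem cg26 : gg t f [8] [6, 4, 5, 6, 2, 1, 5, 4, 7, 4, 5, 1, 2, 6, 5, 4, 6] :=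
  H.h.g (ck1 H) [4, 8, 2, 6, 5, 6, 2, 5] _ _ (by decide +kernel)

theorem cg27 : gg t f [8] [4, 6, 5, 2, 6, 5, 3, 4, 7, 4, 3, 5, 6, 2, 5, 6, 4] :=
  H.h.g (ck1 H) [4, 6, 5, 2, 6, 5, 3] _ _ (by decide +kernel)

theorem cg28 : gg t f [9] [10] :=
  H.h.g (ck1 H) [5, 4, 3, 2, 5, 3] _ _ (by decide +kernel)

theorem cg29 : gg t f [9] [6, 4, 5, 6, 2, 1, 5, 4, 7, 4, 5, 1, 2, 6, 5, 4, 6] :=
  H.h.g (ck4 H) [5, 4, 5, 1, 9, 6, 2] _ _ (by decide +kernel)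

theorem cg30 : gg t f [9] [4, 6, 5, 2, 6, 5, 3, 4, 7, 4, 3, 5, 6, 2, 5, 6, 4] :=
  H.h.g (ck2 H) [5, 4, 5, 6, 2, 1, 5] _ _ (by decide +kernel)

theorem cg31 : gg t f [10] [6, 4, 5, 6, 2, 1, 5, 4, 7, 4, 5, 1, 2, 6, 5, 4, 6] :=
  H.h.g (ck2 H) [2, 1, 5, 4, 10, 5, 6, 1, 2, 5] _ _ (by decide +kernel)

theorem cg32 : gg t f [10] [4, 6, 5, 2, 6, 5, 3, 4, 7, 4, 3, 5, 6, 2, 5, 6, 4] :=
  H.h.g (ck3 H) [2, 1, 5, 4, 1, 3, 10, 6, 10, 6] _ _ (by decide +kernel)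

theorem cg33 : gg t f [6, 4, 5, 6, 2, 1, 5, 4, 7, 4, 5, 1, 2, 6, 5, 4, 6] [4, 6, 5, 2, 6, 5, 3, 4, 7, 4, 3, 5, 6, 2, 5, 6, 4] :=
  H.h.g (ck2 H) [6, 4, 5, 6, 2, 1, 5, 4, 3, 2, 6, 3, 1, 2, 5] _ _ (by decide +kernel)

theorem cm1 : ev ν [1] ∈ wgen ν SW :=
  H.h.mem _ ([5, 1, 5, 6, 1, 6, 3, 1].map fun i => SW.getD i []) (by decide +kernel)

theorem cm2 : ev ν [2] ∈ wgen ν SW :=
  H.h.mem _ ([1, 5, 0, 4, 6, 4, 5, 6, 1, 5, 6, 3, 5, 3, 0, 6].map fun i => SW.getD i []) (by decide +kernel)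

theorem cm4 : ev ν [4] ∈ wgen ν SW :=
  H.h.mem _ ([0, 5, 6, 3, 4, 5, 6, 4, 1, 5, 6, 4, 3, 5, 6, 3, 0].map fun i => SW.getD i []) (by decide +kernel)

theorem cm5 : ev ν [5] ∈ wgen ν SW :=
  H.h.mem _ ([4, 6, 1, 6, 5, 4, 0, 6, 1, 5, 6, 0, 3, 5, 3, 0, 6, 5, 6, 0, 5].map fun i => SW.getD i []) (by decide +kernel)

theorem cm6 : ev ν [6] ∈ wgen ν SW :=
  H.h.mem _ ([0, 6, 0, 4, 6, 5, 1, 6, 4, 5, 4, 6, 5, 0, 6].map fun i => SW.getD i []) (by decide +kernel)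

theorem cm3 : ev ν [3] ∈ wgen ν SW := H.h.mem _ [[3]] (by decide +kernel)

theorem ctop : wgen ν SW = ⊤ := top_of fun i hi => by
  rw [← ev_single ν i]
  simp only [List.mem_cons, List.not_mem_nil, or_false] at hi
  rcases hi with rfl | rfl | rfl | rfl | rfl | rfl
  exacts [cm1 H, cm2 H, cm3 H, cm4 H, cm5 H, cm6 H]

theorem cpw : List.Pairwise (fun r s => GG t t3 f (ev ν r) (ev ν s)) SW := by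
  simp only [SW, List.pairwise_cons, List.forall_mem_cons, List.not_mem_nil, false_imp_iff,
    implies_true, and_true, List.Pairwise.nil]
  exact ⟨⟨cg13 H, cg14 H, cg15 H, cg16 H, cg17 H, cg18 H⟩,
    ⟨cg19 H, cg20 H, cg21 H, cg22 H, cg23 H⟩,
    ⟨cg24 H, cg25 H, cg26 H, cg27 H⟩,
    ⟨cg28 H, cg29 H, cg30 H⟩,
    ⟨cg31 H, cg32 H⟩,
    cg33 H⟩

omit H in
theorem clo (t : G) (f : Γ3 → G) (l : Lf φ t t3 f) (k : EE t3 f t3 (ν 8)) :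
    ∀ r s, IsConj t3 r → IsConj t3 s → Good t f r s := by
  have H : HH φ t f := ⟨⟨l, eqw⟩, by rw [ee, ev_single, ev_single]; exact k⟩
  exact H.h.top (cpw H) (by decide) (ctop H)

end Cfsg.Agent.H78C3
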