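import Cfsg.Agent.H80.KSpC
import Cfsg.Agent.H46.TClo

/-!
# Words in the permutation model of `Co₃`
-/

set_option autoImplicit false
set_option maxRecDepth 200000
open Subgroup

namespace Cfsg.Agent.H78C3
open Cfsg.Agent.H43 Cfsg.Agent.H44 Cfsg.Agent.H55 Cfsg.Agent.H55.C3 Cfsg.Agent.H80.KS

/-- the networks of the letters -/
noncomputable def XL : List Net :=
  [Net.nil, n_b1, n_b2, n_b3, n_s1, n_s2, n_s4, n_t, n_u, n_w, n_x, n_v, n_a]

theorem XL_ok : okE 276 XL = true :=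
  okE_cons.2 ⟨rfl, okE_cons.2 ⟨n_b1_ok, okE_cons.2 ⟨n_b2_ok, okE_cons.2 ⟨n_b3_ok,
    okE_cons.2 ⟨n_s1_ok, okE_cons.2 ⟨n_s2_ok, okE_cons.2 ⟨n_s4_ok, okE_cons.2 ⟨n_t_ok,
    okE_cons.2 ⟨n_u_ok, okE_cons.2 ⟨n_w_ok, okE_cons.2 ⟨n_x_ok, okE_cons.2 ⟨n_v_ok,
    okE_cons.2 ⟨n_a_ok, okE_nil 276⟩⟩⟩⟩⟩⟩⟩⟩⟩⟩⟩⟩⟩

theorem XL_le : grp 276 XL ≤ Γ3 :=
  grp_cons_le (one_mem _) (grp_cons_le (h_le b1_H) (grp_cons_le (h_le b2_H)
    (grp_cons_le (h_le b3_H) (grp_cons_le (EL_le (getN_mem_grp 276 EL 3))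
    (grp_cons_le (h_le s2_H) (grp_cons_le (h_le s4_H) (grp_cons_le (h_le t_H)
    (grp_cons_le (h_le u_H) (grp_cons_le (h_le w_H) (grp_cons_le (h_le x_H)
    (grp_cons_le (h_le v_H) (grp_cons_le (h_le a_H) (grp_nil_le _)))))))))))))

/-- the letters -/
noncomputable def ν (i : ℕ) : Γ3 := ⟨gn 276 XL i, XL_le (getN_mem_grp 276 XL i)⟩

/-- the code of a word -/
noncomputable def cw (l : List ℕ) : ℕ := apL (FK 276 9) XL l (lab 276 9)

/-- equality test for words -/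
noncomputable def qw (l r : List ℕ) : Bool := Nat.beq (cw l) (cw r)

theorem ev_val (l : List ℕ) : ((ev ν l : Γ3) : P) = ev (gn 276 XL) l := map_ev Γ3.subtype ν l

theorem cw_mov (l : List ℕ) : Mov 276 9 ((ev ν l : Γ3) : P) (lab 276 9) (cw l) := by
  rw [ev_val]
  exact mov_apL (rep_FK hn.1 9) XL_ok l _

theorem eqw (l r : List ℕ) (h : qw l r = true) : ev ν l = ev ν r := by
  have h2 := cw_mov r
  rw [← Nat.eq_of_beq_eq_true h] at h2
  exact Subtype.ext ((cw_mov l).perm_eq h2 (sepAt_lab hk))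

theorem new (l r : List ℕ) (h : qw l r = false) : ev ν l ≠ ev ν r := fun e =>
  (cw_mov l).ne_of_beq (cw_mov r) h (congrArg Subtype.val e)

theorem nu7 : ν 7 = t3 := rfl
theorem nu11 : ν 11 = v3 := rfl

/-- a subgroup containing the first six letters is everything -/
theorem top_of {K : Subgroup Γ3} (h : ∀ i ∈ [1, 2, 3, 4, 5, 6], ν i ∈ K) : K = ⊤ := by
  refine eq_top_iff.2 fun x _ => ?_
  have k : ∀ i ∈ [1, 2, 3, 4, 5, 6], gn 276 XL i ∈ K.map Γ3.subtype := fun i hi => ⟨_, h i hi, rfl⟩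
  have : grp 276 EL ≤ K.map Γ3.subtype :=
    grp_cons_le (k 1 (by simp)) (grp_cons_le (k 2 (by simp)) (grp_cons_le (k 3 (by simp))
      (grp_cons_le (k 4 (by simp)) (grp_cons_le (k 5 (by simp)) (grp_cons_le (k 6 (by simp))
      (grp_nil_le _))))))
  obtain ⟨y, hy, e⟩ := this (G_eq_EL.ge x.2)
  rwa [← show y = x from Subtype.ext e]

end Cfsg.Agent.H78C3
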