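import Cfsg.Agent.H78.G40B

/-! Project L40G (row S3140): the assembly. -/

set_option autoImplicit false
set_option linter.unusedSectionVars false

noncomputable section

namespace Cfsg.Agent.H78.G40

open Subgroup Matrix Cfsg.Agent.H83 Cfsg.Agent.H46.L40 Cfsg.Agent.H28
open Cfsg.Agent.H46.S94 (Inn TTStmt OiF)

universe u

local notation "C[" A "]" => Subgroup.centralizer (SetLike.coe A)
local notation "N[" A "]" => Subgroup.normalizer (SetLike.coe A)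

theorem cert_conj {X : Type} [Group X] {n : ℕ} {x y : X} (h : IsConj x y)
    (c : Cert n (MulAut.conj x)) : Cert n (MulAut.conj y) := by
  obtain ⟨g, rfl⟩ := isConj_iff.1 h
  have k : ∀ p : X, MulAut.conj x p = p → MulAut.conj (g * x * g⁻¹) (g * p * g⁻¹) = g * p * g⁻¹ := by
    intro p hp
    simp only [MulAut.conj_apply] at hp ⊢
    calc g * x * g⁻¹ * (g * p * g⁻¹) * (g * x * g⁻¹)⁻¹ = g * (x * p * x⁻¹) * g⁻¹ := by group
      _ = _ := by rw [hp]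
  rcases c with ⟨P, h1, h2, h3⟩ | ⟨p, q, m, h1, h2, h3, h4, h5, h6, h7⟩
  · refine Or.inl ⟨P.map (MulAut.conj g).toMonoidHom, h1.map _, ?_, ?_⟩
    · rwa [Subgroup.card_map_of_injective (MulAut.conj g).injective]
    · rintro _ ⟨p, hp, rfl⟩
      exact k p (h3 p hp)
  · refine Or.inr ⟨g * p * g⁻¹, g * q * g⁻¹, m, h1, fun e => h2 ?_, ?_, ?_, ?_, k p h6, k q h7⟩
    · simpa using e
    · rw [show g * p * g⁻¹ * (g * p * g⁻¹) = g * (p * p) * g⁻¹ by group, h3]; group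
    · rw [conj_pow, h4]; group
    · rw [show g * p * g⁻¹ * (g * q * g⁻¹) = g * (p * q) * g⁻¹ by group, conj_pow, h5]; group

theorem not_fact {N k : ℕ} (h1 : k.factorial < N) (h2 : N < (k + 1).factorial) (m : ℕ) :
    N ≠ m.factorial := by
  rintro rfl
  rcases le_or_gt m k with h | h
  · exact absurd (Nat.factorial_le h) (not_le.2 h1)
  · exact absurd (Nat.factorial_le (Nat.succ_le_of_lt h)) (not_le.2 h2)

theorem map_le_PP {X : Type} [Group X] {G : Type u} [Group G] {d : Dat G} {e : S3 →* X} {σ : X}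
    {τ θ : MulAut X} {ψ : X →* G} (T : Tie d e σ τ θ ψ) (H : Subgroup X) : H.map ψ ≤ PP d.R :=
  le_sup_of_le_left (T.rg ▸ map_le_range ψ H)

/-- the general pieces -/
structure GenP : Prop where
  kit : Kit
  oi : OiF S3 4
  tt : TTStmt.{u}
  odd : OddS.{u}
  nc : NcS.{u}
  id : IdS.{u}
  env : EnvS.{u}
  gen : GenS.{u}
  dih : DihS.{u}
  ncj : NcjS.{u}
  odd4 : Odd4S.{u}
  oddI : OddIS.{u}
  cvg : CvgS.{u}
  prt : PrtS.{u}
  step : StepS.{u}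
  prk : PrkS.{u}
  ghz : GhzS.{u}
  czg : CzgS.{u}
  fin : FinS.{u}
  zu : ZuS.{u}

theorem sit (p : GenP.{u}) {X : Type} [Group X] {e : S3 →* X} {σ : X} {τ θ : MulAut X} {act : S3}
    (mo : Mo e σ τ θ act) (c : ClsF τ) (n0 : Nc0F e) (n1 : Inn θ ∨ (NcF θ ∧ NcF (θ * τ)))
    {G : Type u} [Group G] [Finite G] (d : Dat G) {ψ : X →* G} (T : Tie d e σ τ θ ψ) :
    ∃ S : Sit G, S.toDat = d := by
  obtain ⟨γ, h⟩ := p.env p.kit p.odd p.nc X e σ τ θ act mo c n0 n1 G d ψ T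
  exact ⟨⟨d, p.gen p.tt G _ _ _ _ h⟩, rfl⟩

theorem caseA1 (p : GenP.{u}) (ce : Ce1S.{u}) (ma : Mo1aS) (mo : Mo1S) (cls : Cls1S) (ff : F1fS)
    (na : Nc1aS) (nb : Nc1bS) (fa : F1aS) (fb : F1bS) (fc : F1cS) (fd : F1dS) (fe : F1eS)
    (cv : Cv1S.{u}) (zu : Zu1S.{u}) (tr1 : Tr1S.{u}) (ca : Cz1aS.{u}) (cb : Cz1bS.{u})
    {G : Type u} [Group G] [Finite G] (d : Dat G) (h : d.act = 1) : Nonempty (d.X ≃* X1) := by
  have mo := mo p.kit ma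
  have fb := fb ma
  obtain ⟨ψ, T⟩ := p.id p.kit X1 e1 σ1 τ1 θ1 1 1080 mo ce (by rw [ma.2.2]) G d h
  obtain ⟨S, rfl⟩ := sit p mo cls
    (fun x h1 h2 => (ff.1 x h1 h2).imp_right fun k => cert_conj k ff.2) (Or.inr ⟨na, nb⟩) d T
  have hv := cv p.kit p.dih p.oddI p.cvg X1 e1 σ1 τ1 θ1 fe G S ψ T
  have hz := zu X1 e1 σ1 τ1 θ1 dd1 fa fb fc ff.1 G S ψ T
  obtain ⟨k1, k2, k3⟩ := tr1 X1 e1 σ1 τ1 θ1 dd1 fa fb fc G S ψ T hz
  have k4 := ca p.prk p.prt p.step X1 e1 σ1 τ1 θ1 dd1 fa fc fd G S ψ T hv k1 k2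
  have k5 := cb p.odd4 X1 e1 σ1 τ1 θ1 dd1 fa fc G S ψ T hv k1 k4
  exact p.fin p.ghz X1 e1 σ1 τ1 θ1 1 _ mo
    (by rw [ma.2.2]; exact not_fact (k := 10) (by decide) (by decide)) fb.syl fb.Tz G S ψ T hz
    (k3.trans (sup_le k5 (map_le_PP T _)))

theorem caseA2 (p : GenP.{u}) (c2a : Ce2aS.{u}) (c2b : Ce2bS.{u}) (c2c : Ce2cS.{u}) (ma : Mo2aS)
    (mo : Mo2S) (cls : Cls2S) (ff : F2fS) (fg : F2gS) (fa : F2aS) (fb : F2bS) (fc : F2cS)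
    (za : Fz2aS) (zb : Fz2bS) (zc : Fz2cS) (id2 : Id2S.{u}) (ca : Cv2aS.{u}) (cb : Cv2bS.{u})
    (cc : Cv2cS.{u}) {G : Type u} [Group G] [Finite G] (d : Dat G) (h : d.act = a0) :
    Nonempty (d.X ≃* X2) := by
  obtain ⟨ψ, T⟩ := id2 p.kit p.odd ma mo c2a c2b c2c G d h
  have mo := (mo p.kit ma).1
  obtain ⟨b1, b2, b3, b4, b5, b6, b7⟩ := zb ma
  obtain ⟨S, rfl⟩ := sit p mo cls
    (fun x h1 h2 => (ff x h1 h2).imp_right fun k => cert_conj k fg.1) (Or.inl ⟨_, rfl⟩) d T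
  obtain ⟨k1, k2⟩ := ca p.dih p.prk p.prt p.step X2 e2 σ2 τ2 θ2 dd2 fa fb fc G S ψ T
  obtain ⟨I, k3⟩ := cb X2 e2 σ2 τ2 θ2 dd2 fa fb G S ψ T k1 k2
  have hv := cc p.kit p.oddI X2 e2 σ2 τ2 θ2 dd2 fa fb fc G S ψ T k1 k2 I k3
  have hz := p.zu p.ncj p.dih X2 e2 σ2 τ2 θ2 _ b1 b2
    (fun x h1 h2 => (ff x h1 h2).imp_right fun k => ⟨_, k, fg.2, b7⟩) G S ψ T
  obtain ⟨Y, y1, y2, y3, y4⟩ := za
  have z2 : e2 z0 ^ 2 ^ 1 = 1 := by
    rw [← map_pow, show z0 ^ 2 ^ 1 = 1 by decide +kernel, map_one]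
  have fz : FZ e2 (zpowers (e2 z0)) Y (Ts e2 dd2) :=
    { zZ := mem_zpowers _
      Z2 := by
        rintro ⟨_, k, rfl⟩
        exact ⟨1, Subtype.ext (by
          change (e2 z0 ^ k) ^ 2 ^ 1 = 1
          rw [← zpow_natCast, ← _root_.zpow_mul, mul_comm, _root_.zpow_mul, zpow_natCast, z2, _root_.one_zpow])⟩
      ZT := zpowers_le.2 b3
      Yz := y1
      nY := y2
      sq := y3
      aY := y4
      aZ := b5
      syl := b1
      Tz := b2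
      aT := b4
      ca := b6
      fus := zc }
  have hc := p.czg p.ghz p.odd4 X2 e2 σ2 τ2 θ2 _ _ _ fz G S ψ T hv hz (by
    rw [MonoidHom.map_zpowers, zpowers_le, T.he]
    exact mem_centralizer_iff.2 fun x hx => mem_centralizer_singleton_iff.1 hx.2)
  exact p.fin p.ghz X2 e2 σ2 τ2 θ2 a0 _ mo
    (by rw [ma.2.2.1]; exact not_fact (k := 13) (by decide) (by decide)) b1 b2 G S ψ T hz hc

theorem caseB1 (p : GenP.{u}) (ce : Ce3S.{u}) (ma : Mo3aS) (mo : Mo3S) (cls : Cls3S) (ff : F3fS)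
    (na : Nc3aS) (nb : Nc3bS) (fa : F3aS) (fb : F3bS) (za : Fz3aS) (zb : Fz3bS) (cv : Cv3S.{u})
    (ci : Ci3S.{u}) {G : Type u} [Group G] [Finite G] (d : Dat G) (h : d.act = w0 * a0) :
    Nonempty (d.X ≃* X3) := by
  have mo := mo p.kit ma
  have fb := fb ma
  obtain ⟨b1, b2, b3, b4, b5, b6, b7, b8, b9⟩ := zb ma
  obtain ⟨ψ, T⟩ := p.id p.kit X3 e3 σ3 τ3 θ3 _ 7560 mo ce (by rw [ma.2.2.1]) G d h
  obtain ⟨S, rfl⟩ := sit p mo cls (fun x h1 h2 => Or.inl (ff x h1 h2)) (Or.inr ⟨na, nb⟩) d T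
  have hv := cv p.kit p.dih p.oddI p.cvg X3 e3 σ3 τ3 θ3 fa G S ψ T
  have hz := p.zu p.ncj p.dih X3 e3 σ3 τ3 θ3 _ b1 b2 (fun x h1 h2 => Or.inl (ff x h1 h2)) G S ψ T
  have hi := ci p.ncj p.dih p.odd4 X3 e3 σ3 τ3 θ3 i3 j3 T3 fb b1 b2 G S ψ T hv
  obtain ⟨Y, y1, y2, y3, y4⟩ := za
  have hc := p.czg p.ghz p.odd4 X3 e3 σ3 τ3 θ3 _ Y T3
    ⟨b3, b4, zpowers_le.2 b5, y1, y2, y3, y4, b7, b1, b2, b6, b8, b9⟩ G S ψ T hv hz (by
    rw [MonoidHom.map_zpowers, zpowers_le]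
    exact mem_centralizer_iff.2 fun x hx => mem_centralizer_singleton_iff.1 (hi hx))
  exact p.fin p.ghz X3 e3 σ3 τ3 θ3 _ _ mo
    (by rw [ma.2.2.1]; exact not_fact (k := 11) (by decide) (by decide)) b1 b2 G S ψ T hz hc

theorem caseB2 (p : GenP.{u}) (ce : Ce4S.{u}) (id4 : Id4S.{u}) (e3 : E3lS.{u}) (e5 : E5lS.{u})
    (e7 : E7lS.{u}) (en : EndlS.{u}) {G : Type u} [Group G] [Finite G] (d : Dat G) (h : d.act = w0) :
    False := by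
  obtain ⟨B, w⟩ := id4 p.kit ce G d h
  refine en p.kit p.oi e3 e5 e7 G d.φ d.t d.X d.O B (p.odd G d).2.2.2.2.2.1 d.cx w ?_
  rintro _ ⟨m, rfl⟩
  exact d.LX m

theorem concl_of {G : Type u} [Group G] (d : Dat G) (ma : Mo3aS)
    (h1 : d.act = 1 → Nonempty (d.X ≃* X1)) (h2 : d.act = a0 → Nonempty (d.X ≃* X2))
    (h3 : d.act = w0 * a0 → Nonempty (d.X ≃* X3)) (h4 : d.act = w0 → False) : Concl d.X := by
  rcases d.ha with h | h | h | h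
  · exact Or.inr ⟨ZMod 3, inferInstance, inferInstance, by simp, Or.inl (h1 h)⟩
  · exact Or.inr ⟨ZMod 3, inferInstance, inferInstance, by simp, Or.inr (Or.inr (h2 h))⟩
  · obtain ⟨f⟩ := h3 h
    obtain ⟨g⟩ := ma.2.2.2
    exact Or.inl ⟨F9, inferInstance, inferInstance, card_F9, ⟨f.trans g⟩⟩
  · exact (h4 h).elim

/-- the main statement from the good case and the chapter `T` -/
theorem main_of' (tie : TieS) (au : AutS) (h1 : H1S.{u}) (t1 : T1tS.{u}) (t2 : T2tS.{u})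
    (f1 : Fr1S.{u}) (f2 : Fr2S.{u}) (cT : ChT.{u}) (kit : Kit) (cx : CxS.{u}) (bt : BtS.{u})
    (nk : NkS.{u}) (ac : ActS.{u}) (sd : SdS.{u})
    (good : ∀ (G : Type u) [Group G] [Finite G] (d : Dat G), Concl d.X) : MainS.{u} := by
  intro G _ _ f
  have k : ∀ b : Bt G, Concl b.X := fun b => by
    obtain ⟨d, e⟩ := sd kit nk ac G b
    exact e ▸ good G d
  obtain ⟨h⟩ := h1 G f
  by_cases hg : h.g = 1
  · obtain ⟨e, D, hD⟩ := t1 G f.t h hg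
    obtain ⟨f', e'⟩ := f1 tie au G f e D hD
    obtain ⟨b, e''⟩ := (bt cx).1 G e f'
    exact e' ▸ e'' ▸ k b
  · obtain ⟨o, D, hD⟩ := t2 G f.t h hg
    obtain ⟨f', e'⟩ := f2 tie au G f o D hD
    cases o
    · obtain ⟨b, e''⟩ := (bt cx).2 G f'
      exact e' ▸ e'' ▸ k b
    · exact e' ▸ cT G f'

end Cfsg.Agent.H78.G40
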