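import Cfsg.Agent.H47.G40F1a
import Cfsg.Agent.H13.G40F1f

/-! Project L40G (row S3140): explicit identities in `L₄(3)`. -/

set_option autoImplicit false

noncomputable section

namespace Cfsg.Agent.H78.G40F1c

open Subgroup Cfsg.Agent.H46.L40 Cfsg.Agent.H78.G40 Cfsg.Agent.H47.G40F1a

def k4 : SL4 := ⟨!![1, 0, 0, 0; 0, 1, 0, 0; 0, 0, 1, 1; 0, 0, 0, 1], by decide +kernel⟩
def w4 : SL4 := ⟨!![0, 0, 1, 0; 0, 0, 0, 1; 1, 0, 0, 0; 0, 1, 0, 0], by decide +kernel⟩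
def v4 : SL4 := ⟨!![0, 0, 1, 1; 0, 0, 2, 1; 2, 1, 0, 0; 2, 2, 0, 0], by decide +kernel⟩
def u4 : SL4 := ⟨!![0, 1, 0, 0; 2, 0, 0, 0; 0, 0, 0, 1; 0, 0, 2, 0], by decide +kernel⟩
def y14 : SL4 := ⟨!![0, 0, 2, 1; 0, 0, 2, 2; 1, 2, 0, 0; 1, 1, 0, 0], by decide +kernel⟩
def y24 : SL4 := ⟨!![0, 0, 2, 0; 0, 0, 0, 2; 0, 2, 0, 0; 1, 0, 0, 0], by decide +kernel⟩

/-- equality modulo the centre -/
def pm (x y : SL4) : Prop := x.1 = y.1 ∨ x.1 = -y.1
instance (x y : SL4) : Decidable (pm x y) := inferInstanceAs (Decidable (_ ∨ _))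

theorem meq {x y : SL4} (h : pm x y) : mk1 x = mk1 y := (mk1_eq x y).2 h
theorem mne {x y : SL4} (h : ¬ pm x y) : mk1 x ≠ mk1 y := fun e => h ((mk1_eq x y).1 e)

theorem gn : fa (.a 1) = E1 w0 ∧ fa (.xa 0) = E1 q0 ∧ fb (.a 1) = s4 ∧ fb (.xa 0) = q4 := by
  decide +kernel

theorem Qa' : Qa e1 = (mk1.comp fa).range := by
  rw [range_q8, MonoidHom.comp_apply, MonoidHom.comp_apply, gn.1, gn.2.1]; rfl
theorem Qb' : Qb σ1 dd1 = (mk1.comp fb).range := by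
  rw [range_q8, MonoidHom.comp_apply, MonoidHom.comp_apply, gn.2.2.1, gn.2.2.2]; rfl

theorem nrm (f : Q8 →* SL4) (g : SL4) (h : ∀ x, ∃ y, g * f x = f y * g) :
    mk1 g ∈ normalizer ((mk1.comp f).range : Set X1) := by
  have : Finite ((mk1.comp f).range : Set X1) := Set.finite_range _
  refine mem_normalizer_fintype ?_
  rintro _ ⟨x, rfl⟩
  obtain ⟨y, e⟩ := h x
  exact ⟨y, by
    change mk1 (f y) = mk1 g * mk1 (f x) * (mk1 g)⁻¹
    rw [← map_mul, e, map_mul, mul_inv_cancel_right]⟩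

theorem cen (f : Q8 →* SL4) (g : SL4) (h : ∀ x, f x * g = g * f x) :
    mk1 g ∈ centralizer ((mk1.comp f).range : Set X1) := by
  rintro _ ⟨x, rfl⟩
  change mk1 (f x) * mk1 g = mk1 g * mk1 (f x)
  rw [← map_mul, h, map_mul]

theorem mz_iff (g y : SL4) : Mz (e1 z0) (mk1 g * mk1 y * (mk1 g)⁻¹ * (mk1 y)⁻¹) ↔
    pm (g * y) (y * g) ∨ pm (g * y) (E1 z0 * (y * g)) := by
  unfold Mz pm
  rw [← mk1_eq, ← mk1_eq, map_mul, map_mul, map_mul, map_mul, mul_inv_eq_one, mul_inv_eq_iff_eq_mul,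
    mul_inv_eq_iff_eq_mul, mul_inv_eq_iff_eq_mul, mul_assoc]
  rfl

theorem mz1 (y : SL4) : Mz (e1 z0) (mk1 y) ↔ pm y 1 ∨ pm y (E1 z0) := by
  unfold Mz pm
  rw [← mk1_eq, ← mk1_eq, map_one]
  rfl

theorem fpf (f : Q8 →* SL4) (g : SL4)
    (h : ∀ x, pm (g * f x) (f x * g) ∨ pm (g * f x) (E1 z0 * (f x * g)) → pm (f x) 1 ∨ pm (f x) (E1 z0)) :
    ∀ y ∈ (mk1.comp f).range, Mz (e1 z0) (mk1 g * y * (mk1 g)⁻¹ * y⁻¹) → Mz (e1 z0) y := by
  rintro _ ⟨x, rfl⟩ k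
  exact (mz1 _).2 (h x ((mz_iff g (f x)).1 k))

theorem f1c : F1cS := by
  have m : ∀ x ∈ ({e1 w0, e1 q0, σ1, dd1.q2, dd1.sw, e1 a0} : Set X1), x ∈ Tq e1 σ1 dd1 :=
    fun x hx => subset_closure hx
  have hq := m (e1 q0) (by simp)
  have hs := m σ1 (by simp)
  have hr := m dd1.q2 (by simp)
  have hv := m dd1.sw (by simp)
  have ha := m (e1 a0) (by simp)
  refine ⟨H13.G40F1f.plus w4 (by decide +kernel) (mne (y := 1) (by decide +kernel)),
    H13.G40F1f.plus v4 (by decide +kernel) (mne (y := 1) (by decide +kernel)), ?_, ?_,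
    meq (x := y14 * y14) (y := u4) (by decide +kernel), meq (x := y24 * y24) (y := u4) (by decide +kernel),
    ?_, meq (x := E1 x12 * E1 z0) (y := E1 z0 * E1 x12) (by decide +kernel),
    meq (x := k4 * E1 z0) (y := E1 z0 * k4) (by decide +kernel),
    meq (x := E1 x12 ^ 3) (y := 1) (by decide +kernel), meq (x := k4 ^ 3) (y := 1) (by decide +kernel),
    Qa' ▸ nrm fa (E1 x12) (by decide +kernel), Qb' ▸ cen fb (E1 x12) (by decide +kernel),
    Qa' ▸ cen fa k4 (by decide +kernel), Qb' ▸ nrm fb k4 (by decide +kernel),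
    Qa' ▸ fpf fa (E1 x12) (by decide +kernel), Qb' ▸ fpf fb k4 (by decide +kernel),
    Qa' ▸ nrm fa (E1 a0) (by decide +kernel), Qb' ▸ nrm fb (E1 a0) (by decide +kernel),
    ⟨e1 q0, subset_closure (by simp), fun h => absurd ((mz_iff (E1 a0) (E1 q0)).1 h) (by decide +kernel)⟩,
    ⟨dd1.q2, subset_closure (by simp), fun h => absurd ((mz_iff (E1 a0) q4).1 h) (by decide +kernel)⟩⟩
  · have e : dd1.y1 = e1 q0 * dd1.q2 * dd1.sw * e1 a0 :=
      meq (x := y14) (y := E1 q0 * q4 * w4 * E1 a0) (by decide +kernel)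
    rw [e]; exact mul_mem (mul_mem (mul_mem hq hr) hv) ha
  · have e : dd1.y2 = σ1 * dd1.sw := meq (x := y24) (y := s4 * w4) (by decide +kernel)
    rw [e]; exact mul_mem hs hv
  · rintro (h | h)
    · rw [mul_inv_eq_one, mul_inv_eq_iff_eq_mul] at h
      exact mne (x := y14 * y24) (y := y24 * y14) (by decide +kernel) h
    · rw [mul_inv_eq_iff_eq_mul, mul_inv_eq_iff_eq_mul] at h
      exact mne (x := y14 * y24) (y := u4 * y24 * y14) (by decide +kernel) h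

end Cfsg.Agent.H78.G40F1c
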