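import Cfsg.Agent.H78.G40Gen
import Cfsg.Agent.H34.L40Zu
import Cfsg.Agent.H19.G40Ce1
import Cfsg.Agent.H95.G40Ce3
import Cfsg.Agent.H51.G40Ce2a
import Cfsg.Agent.H28.Ce2b
import Cfsg.Agent.H76.Ce2c
import Cfsg.Agent.H70.G40Mo1a
import Cfsg.Agent.H71.G40Mo1
import Cfsg.Agent.H90.G40Cls1
import Cfsg.Agent.H13.G40F1f
import Cfsg.Agent.H81.G40Nc1b
import Cfsg.Agent.H47.G40F1a
import Cfsg.Agent.H87.G40F1b
import Cfsg.Agent.H54.G40F1d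
import Cfsg.Agent.H27.G40F1e
import Cfsg.Agent.H45.G40Mo2a
import Cfsg.Agent.H76.G40Mo2
import Cfsg.Agent.H46.G40Cls2
import Cfsg.Agent.H92.G40F2f
import Cfsg.Agent.H24.L40F2g
import Cfsg.Agent.H85.G40F2a
import Cfsg.Agent.H41.G40F2b
import Cfsg.Agent.H5.G40F2c
import Cfsg.Agent.H70.G40Fz2a
import Cfsg.Agent.H80.G40Fz2b
import Cfsg.Agent.H82.G40Id2
import Cfsg.Agent.H16.G40Mo3a
import Cfsg.Agent.H21.G40Mo3
import Cfsg.Agent.H32.G40Cls3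
import Cfsg.Agent.H23.L40F3f
import Cfsg.Agent.H43.G40Nc3a
import Cfsg.Agent.H12.G40Nc3b
import Cfsg.Agent.H38.G40F3a
import Cfsg.Agent.H64.G40F3b
import Cfsg.Agent.H86.G40Fz3a
import Cfsg.Agent.H11.G40Cv1
import Cfsg.Agent.H89.G40Zu1
import Cfsg.Agent.H51.G40Tr1
import Cfsg.Agent.H36.G40Cz1a
import Cfsg.Agent.H25.G40Cz1b
import Cfsg.Agent.H63.G40Cv2a
import Cfsg.Agent.H44.G40Cv2b
import Cfsg.Agent.H15.G40Cv2c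
import Cfsg.Agent.H29.G40Cv3
import Cfsg.Agent.H2.G40Ci3
import Cfsg.Agent.H46.L40Tie
import Cfsg.Agent.H19.L40H1
import Cfsg.Agent.H90.L40T12
import Cfsg.Agent.H30.L40Fr1
import Cfsg.Agent.H69.L40Fr2
import Cfsg.Agent.H63.LtMain
import Cfsg.Agent.H27.G40Cx
import Cfsg.Agent.H16.G40Bt
import Cfsg.Agent.H71.G40Nk
import Cfsg.Agent.H75.G40Act
import Cfsg.Agent.H92.G40Sd

/-! Project L40G (row S3140): the main statement. -/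

set_option autoImplicit false

namespace Cfsg.Agent.H78.G40

open Cfsg.Agent.H46.L40

universe u

theorem good (na : Nc1aS) (fc : F1cS) (zb : Fz3bS) (zc : Fz2cS) (G : Type u) [Group G] [Finite G] (d : Dat G) :
    Concl d.X :=
  concl_of d H16.G40Mo3a.mo3a
    (caseA1 (genP H34.L40Zu.zu) H19.G40Ce1.ce1 H70.G40Mo1a.x H71.G40Mo1.mo1 H90.G40Cls1.cls1
      H13.G40F1f.f1fS na H81.G40Nc1b.nc1b H47.G40F1a.f1a H87.G40F1b.f1b fc H54.G40F1d.f1d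
      H27.G40F1e.f1e H11.G40Cv1.cv1 H89.G40Zu1.zu1 H51.G40Tr1.tr1 H36.G40Cz1a.cz1a H25.G40Cz1b.cz1b d)
    (caseA2 (genP H34.L40Zu.zu) H51.G40Ce2a.ce2a H28.Ce2b.ce2b H76.Ce2c.ce2c H45.G40Mo2a.mo2a
      H76.G40Mo2.mo2 H46.G40Cls2.cls2 H92.G40F2f.f2f H24.L40F2g.f2g H85.G40F2a.f2a H41.G40F2b.f2b
      H5.G40F2c.f2c H70.G40Fz2a.x H80.G40Fz2b.fz2b zc H82.G40Id2.id2 H63.Cv2a.cv2a
      H44.G40Cv2b.cv2b H15.G40Cv2c.cv2c d)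
    (caseB1 (genP H34.L40Zu.zu) Ce3.ce3 H16.G40Mo3a.mo3a H21.G40Mo3.mo3 H32.G40Cls3.cls3
      H23.L40F3f.f3f H43.G40Nc3a.x H12.G40Nc3b.nc3b H38.G40F3a.f3a H64.G40F3b.f3b H86.G40Fz3a.fz3a zb
      H29.G40Cv3.cv3 H2G40Ci3.ci3 d)
    (noB2 H34.L40Zu.zu d)

theorem mainS (na : Nc1aS) (fc : F1cS) (zb : Fz3bS) (zc : Fz2cS) : MainS.{u} :=
  main_of' H46.L40Tie.tie H8.L40Aut.autS H19.L40H1.h1 H90.L40T12.t1t H90.L40T12.t2t H30.L40Fr1.fr1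
    H69.L40Fr2.fr2 H63.LT.chT kit H27.G40Cx.cx H16.G40Bt.btS H71.G40Nk.nk H75.G40Act.act
    H92.G40Sd.sd (good na fc zb zc)

end Cfsg.Agent.H78.G40
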