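import Cfsg.Agent.H78.G40A
import Cfsg.Agent.H28.Act

/-! Project L40G (row S3140): the three matrix models. -/

set_option autoImplicit false
set_option linter.unusedSectionVars false

noncomputable section

namespace Cfsg.Agent.H78.G40

open Subgroup Matrix Cfsg.Agent.H46.L40 Cfsg.Agent.H28

/-- the automorphism induced modulo the centre -/
def qa {Y : Type} [Group Y] (α : MulAut Y) : MulAut (Y ⧸ center Y) :=
  QuotientGroup.congr (center Y) (center Y) α (characteristic_iff_map_eq.1 inferInstance α)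

theorem qa_mk {Y : Type} [Group Y] (α : MulAut Y) (g : Y) :
    qa α (QuotientGroup.mk g) = QuotientGroup.mk (α g) := rfl

/-- inverse transpose -/
def itr (n : Type) [Fintype n] [DecidableEq n] (R : Type) [CommRing R] :
    MulAut (SpecialLinearGroup n R) where
  toFun g := SpecialLinearGroup.transpose g⁻¹
  invFun g := SpecialLinearGroup.transpose g⁻¹
  left_inv g := Subtype.ext (by
    have h : (SpecialLinearGroup.transpose g⁻¹)⁻¹ = SpecialLinearGroup.transpose g := by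
      refine inv_eq_of_mul_eq_one_right (Subtype.ext ?_)
      change (g⁻¹).1ᵀ * g.1ᵀ = 1
      have k : g.1 * (g⁻¹).1 = 1 := congrArg Subtype.val (mul_inv_cancel g)
      rw [← transpose_mul, k, transpose_one]
    simp only [h]; rfl)
  right_inv g := Subtype.ext (by
    have h : (SpecialLinearGroup.transpose g⁻¹)⁻¹ = SpecialLinearGroup.transpose g := by
      refine inv_eq_of_mul_eq_one_right (Subtype.ext ?_)
      change (g⁻¹).1ᵀ * g.1ᵀ = 1
      have k : g.1 * (g⁻¹).1 = 1 := congrArg Subtype.val (mul_inv_cancel g)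
      rw [← transpose_mul, k, transpose_one]
    simp only [h]; rfl)
  map_mul' g h := Subtype.ext (by
    change ((g * h)⁻¹).1ᵀ = (g⁻¹).1ᵀ * (h⁻¹).1ᵀ
    have k : ((g * h)⁻¹).1 = (h⁻¹).1 * (g⁻¹).1 := congrArg Subtype.val (_root_.mul_inv_rev g h)
    rw [k, transpose_mul])

/-! ### `L₄(3)` -/

abbrev SL4 := SpecialLinearGroup (Fin 4) (ZMod 3)
abbrev X1 := ProjectiveSpecialLinearGroup (Fin 4) (ZMod 3)
abbrev mk1 : SL4 →* X1 := QuotientGroup.mk' _

def b4 (m : Matrix (Fin 3) (Fin 3) (ZMod 3)) : Matrix (Fin 4) (Fin 4) (ZMod 3) :=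
  !![m 0 0, m 0 1, m 0 2, 0; m 1 0, m 1 1, m 1 2, 0; m 2 0, m 2 1, m 2 2, 0; 0, 0, 0, 1]

theorem det_b4 (m : Matrix (Fin 3) (Fin 3) (ZMod 3)) : (b4 m).det = m.det := by
  rw [det_succ_row _ 3, det_fin_three m]
  simp [b4, Fin.sum_univ_four, det_fin_three, Fin.succAbove]
  norm_num

def E1 : S3 →* SL4 where
  toFun m := ⟨b4 m.1, by rw [det_b4, m.2]⟩
  map_one' := Subtype.ext (show b4 1 = 1 by decide)
  map_mul' m n := Subtype.ext (by
    change b4 (m.1 * n.1) = b4 m.1 * b4 n.1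
    ext i j
    fin_cases i <;> fin_cases j <;> simp [b4, mul_apply, Fin.sum_univ_four, Fin.sum_univ_three])

def d4 : Matrix (Fin 4) (Fin 4) (ZMod 3) := !![1, 0, 0, 0; 0, 1, 0, 0; 0, 0, 1, 0; 0, 0, 0, 2]

theorem d4_sq : d4 * d4 = 1 := by decide
theorem d4_det : d4.det * d4.det = 1 := by rw [← det_mul, d4_sq, det_one]

/-- conjugation by the reflection -/
def T1 : MulAut SL4 where
  toFun g := ⟨d4 * g.1 * d4, by rw [det_mul, det_mul, g.2, mul_one, d4_det]⟩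
  invFun g := ⟨d4 * g.1 * d4, by rw [det_mul, det_mul, g.2, mul_one, d4_det]⟩
  left_inv g := Subtype.ext (by
    change d4 * (d4 * g.1 * d4) * d4 = g.1
    rw [← mul_assoc, ← mul_assoc, d4_sq, one_mul, mul_assoc, d4_sq, mul_one])
  right_inv g := Subtype.ext (by
    change d4 * (d4 * g.1 * d4) * d4 = g.1
    rw [← mul_assoc, ← mul_assoc, d4_sq, one_mul, mul_assoc, d4_sq, mul_one])
  map_mul' g h := Subtype.ext (by
    change d4 * (g.1 * h.1) * d4 = d4 * g.1 * d4 * (d4 * h.1 * d4)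
    rw [show d4 * g.1 * d4 * (d4 * h.1 * d4) = d4 * g.1 * (d4 * d4) * h.1 * d4 by
      simp only [mul_assoc], d4_sq, mul_one, mul_assoc d4 g.1])

def e1 : S3 →* X1 := mk1.comp E1
def τ1 : MulAut X1 := qa T1
def θ1 : MulAut X1 := qa (itr (Fin 4) (ZMod 3))

/-! ### `PSp₆(3)` -/

abbrev Sp6 := symplecticGroup (Fin 3) (ZMod 3)
abbrev X2 := Cfsg.PSp 3 (ZMod 3)
abbrev mk2 : Sp6 →* X2 := QuotientGroup.mk' _

def E2 : S3 →* Sp6 where
  toFun m := ⟨fromBlocks m.1 0 0 (tr m).1, by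
    have h1 : m.1 * (tr m).1ᵀ = 1 := by
      exact congrArg Subtype.val (mul_inv_cancel m)
    have h2 : (tr m).1 * m.1ᵀ = 1 := by
      have := congrArg transpose h1
      rwa [transpose_mul, transpose_transpose, transpose_one] at this
    change _ * J (Fin 3) (ZMod 3) * _ = J (Fin 3) (ZMod 3)
    simp [J, fromBlocks_transpose, fromBlocks_multiply, h1, h2]⟩
  map_one' := by decide
  map_mul' m n := Subtype.ext (by
    have h : (tr (m * n)).1 = (tr m).1 * (tr n).1 := congrArg Subtype.val ((itr (Fin 3) (ZMod 3)).map_mul m n)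
    change fromBlocks (m.1 * n.1) 0 0 (tr (m * n)).1 = fromBlocks m.1 0 0 (tr m).1 * fromBlocks n.1 0 0 (tr n).1
    simp [fromBlocks_multiply, h])

def D6 : Matrix (Fin 3 ⊕ Fin 3) (Fin 3 ⊕ Fin 3) (ZMod 3) := fromBlocks 1 0 0 (-1)

theorem D6_sq : D6 * D6 = 1 := by decide
theorem D6_J : D6 * J (Fin 3) (ZMod 3) * D6 = -J (Fin 3) (ZMod 3) := by decide
theorem D6_t : D6ᵀ = D6 := by decide

theorem D6_mem (g : Sp6) : D6 * g.1 * D6 ∈ symplecticGroup (Fin 3) (ZMod 3) := by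
  have h : g.1 * J (Fin 3) (ZMod 3) * g.1ᵀ = J (Fin 3) (ZMod 3) := g.2
  change _ * J (Fin 3) (ZMod 3) * _ = J (Fin 3) (ZMod 3)
  rw [transpose_mul, transpose_mul, D6_t,
    show D6 * g.1 * D6 * J (Fin 3) (ZMod 3) * (D6 * (g.1ᵀ * D6)) =
      D6 * (g.1 * (D6 * J (Fin 3) (ZMod 3) * D6) * g.1ᵀ) * D6 by simp only [mul_assoc],
    D6_J, mul_neg, neg_mul, h, mul_neg, neg_mul, D6_J, neg_neg]

/-- conjugation by the similitude `diag(1, -1)` -/
def T2 : MulAut Sp6 where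
  toFun g := ⟨D6 * g.1 * D6, D6_mem g⟩
  invFun g := ⟨D6 * g.1 * D6, D6_mem g⟩
  left_inv g := Subtype.ext (by
    change D6 * (D6 * g.1 * D6) * D6 = g.1
    rw [← mul_assoc, ← mul_assoc, D6_sq, one_mul, mul_assoc, D6_sq, mul_one])
  right_inv g := Subtype.ext (by
    change D6 * (D6 * g.1 * D6) * D6 = g.1
    rw [← mul_assoc, ← mul_assoc, D6_sq, one_mul, mul_assoc, D6_sq, mul_one])
  map_mul' g h := Subtype.ext (by
    change D6 * (g.1 * h.1) * D6 = D6 * g.1 * D6 * (D6 * h.1 * D6)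
    rw [show D6 * g.1 * D6 * (D6 * h.1 * D6) = D6 * g.1 * (D6 * D6) * h.1 * D6 by
      simp only [mul_assoc], D6_sq, mul_one, mul_assoc D6 g.1])

instance decSp (A : Matrix (Fin 3 ⊕ Fin 3) (Fin 3 ⊕ Fin 3) (ZMod 3)) : Decidable (A ∈ Sp6) :=
  inferInstanceAs (Decidable (A * J (Fin 3) (ZMod 3) * Aᵀ = J (Fin 3) (ZMod 3)))

def J6 : Sp6 := ⟨J (Fin 3) (ZMod 3), by decide +kernel⟩
def e2 : S3 →* X2 := mk2.comp E2
def τ2 : MulAut X2 := qa T2
def θ2 : MulAut X2 := MulAut.conj (mk2 J6)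

/-! ### `L₃(9)` -/

abbrev X3 := SpecialLinearGroup (Fin 3) F9

def e3 : S3 →* X3 := SpecialLinearGroup.map (algebraMap (ZMod 3) F9)

/-- the field automorphism -/
def τ3 : MulAut X3 where
  toFun := SpecialLinearGroup.map (starRingEnd F9)
  invFun := SpecialLinearGroup.map (starRingEnd F9)
  left_inv g := by ext i j : 1; exact star_star (g.1 i j)
  right_inv g := by ext i j : 1; exact star_star (g.1 i j)
  map_mul' g h := map_mul _ g h

def θ3 : MulAut X3 := itr (Fin 3) F9 * τ3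

set_option linter.unusedTactic false in
theorem eqns_G40M : True := by
  first | (have := @Cfsg.Agent.H78.G40.qa.eq_def.{0}) | (have := @Cfsg.Agent.H78.G40.qa.eq_def) | skip
  first | (have := @Cfsg.Agent.H78.G40.qa.eq_1.{0}) | (have := @Cfsg.Agent.H78.G40.qa.eq_1) | skip
  first | (have := @Cfsg.Agent.H78.G40.qa.eq_unfold.{0}) | (have := @Cfsg.Agent.H78.G40.qa.eq_unfold) | skip
  first | (have := @Cfsg.Agent.H78.G40.qa.congr_simp.{0}) | (have := @Cfsg.Agent.H78.G40.qa.congr_simp) | skip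
  first | (have := @Cfsg.Agent.H78.G40.itr.eq_def.{0}) | (have := @Cfsg.Agent.H78.G40.itr.eq_def) | skip
  first | (have := @Cfsg.Agent.H78.G40.itr.eq_1.{0}) | (have := @Cfsg.Agent.H78.G40.itr.eq_1) | skip
  first | (have := @Cfsg.Agent.H78.G40.itr.eq_unfold.{0}) | (have := @Cfsg.Agent.H78.G40.itr.eq_unfold) | skip
  first | (have := @Cfsg.Agent.H78.G40.itr.congr_simp.{0}) | (have := @Cfsg.Agent.H78.G40.itr.congr_simp) | skip
  first | (have := @Cfsg.Agent.H78.G40.SL4.eq_def.{0}) | (have := @Cfsg.Agent.H78.G40.SL4.eq_def) | skip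
  first | (have := @Cfsg.Agent.H78.G40.SL4.eq_1.{0}) | (have := @Cfsg.Agent.H78.G40.SL4.eq_1) | skip
  first | (have := @Cfsg.Agent.H78.G40.SL4.eq_unfold.{0}) | (have := @Cfsg.Agent.H78.G40.SL4.eq_unfold) | skip
  first | (have := @Cfsg.Agent.H78.G40.SL4.congr_simp.{0}) | (have := @Cfsg.Agent.H78.G40.SL4.congr_simp) | skip
  first | (have := @Cfsg.Agent.H78.G40.X1.eq_def.{0}) | (have := @Cfsg.Agent.H78.G40.X1.eq_def) | skip
  first | (have := @Cfsg.Agent.H78.G40.X1.eq_1.{0}) | (have := @Cfsg.Agent.H78.G40.X1.eq_1) | skip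
  first | (have := @Cfsg.Agent.H78.G40.X1.eq_unfold.{0}) | (have := @Cfsg.Agent.H78.G40.X1.eq_unfold) | skip
  first | (have := @Cfsg.Agent.H78.G40.X1.congr_simp.{0}) | (have := @Cfsg.Agent.H78.G40.X1.congr_simp) | skip
  first | (have := @Cfsg.Agent.H78.G40.mk1.eq_def.{0}) | (have := @Cfsg.Agent.H78.G40.mk1.eq_def) | skip
  first | (have := @Cfsg.Agent.H78.G40.mk1.eq_1.{0}) | (have := @Cfsg.Agent.H78.G40.mk1.eq_1) | skip
  first | (have := @Cfsg.Agent.H78.G40.mk1.eq_unfold.{0}) | (have := @Cfsg.Agent.H78.G40.mk1.eq_unfold) | skip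
  first | (have := @Cfsg.Agent.H78.G40.mk1.congr_simp.{0}) | (have := @Cfsg.Agent.H78.G40.mk1.congr_simp) | skip
  first | (have := @Cfsg.Agent.H78.G40.b4.eq_def.{0}) | (have := @Cfsg.Agent.H78.G40.b4.eq_def) | skip
  first | (have := @Cfsg.Agent.H78.G40.b4.eq_1.{0}) | (have := @Cfsg.Agent.H78.G40.b4.eq_1) | skip
  first | (have := @Cfsg.Agent.H78.G40.b4.eq_unfold.{0}) | (have := @Cfsg.Agent.H78.G40.b4.eq_unfold) | skip
  first | (have := @Cfsg.Agent.H78.G40.b4.congr_simp.{0}) | (have := @Cfsg.Agent.H78.G40.b4.congr_simp) | skip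
  first | (have := @Cfsg.Agent.H78.G40.E1.eq_def.{0}) | (have := @Cfsg.Agent.H78.G40.E1.eq_def) | skip
  first | (have := @Cfsg.Agent.H78.G40.E1.eq_1.{0}) | (have := @Cfsg.Agent.H78.G40.E1.eq_1) | skip
  first | (have := @Cfsg.Agent.H78.G40.E1.eq_unfold.{0}) | (have := @Cfsg.Agent.H78.G40.E1.eq_unfold) | skip
  first | (have := @Cfsg.Agent.H78.G40.E1.congr_simp.{0}) | (have := @Cfsg.Agent.H78.G40.E1.congr_simp) | skip
  first | (have := @Cfsg.Agent.H78.G40.d4.eq_def.{0}) | (have := @Cfsg.Agent.H78.G40.d4.eq_def) | skip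
  first | (have := @Cfsg.Agent.H78.G40.d4.eq_1.{0}) | (have := @Cfsg.Agent.H78.G40.d4.eq_1) | skip
  first | (have := @Cfsg.Agent.H78.G40.d4.eq_unfold.{0}) | (have := @Cfsg.Agent.H78.G40.d4.eq_unfold) | skip
  first | (have := @Cfsg.Agent.H78.G40.d4.congr_simp.{0}) | (have := @Cfsg.Agent.H78.G40.d4.congr_simp) | skip
  first | (have := @Cfsg.Agent.H78.G40.T1.eq_def.{0}) | (have := @Cfsg.Agent.H78.G40.T1.eq_def) | skip
  first | (have := @Cfsg.Agent.H78.G40.T1.eq_1.{0}) | (have := @Cfsg.Agent.H78.G40.T1.eq_1) | skip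
  first | (have := @Cfsg.Agent.H78.G40.T1.eq_unfold.{0}) | (have := @Cfsg.Agent.H78.G40.T1.eq_unfold) | skip
  first | (have := @Cfsg.Agent.H78.G40.T1.congr_simp.{0}) | (have := @Cfsg.Agent.H78.G40.T1.congr_simp) | skip
  first | (have := @Cfsg.Agent.H78.G40.e1.eq_def.{0}) | (have := @Cfsg.Agent.H78.G40.e1.eq_def) | skip
  first | (have := @Cfsg.Agent.H78.G40.e1.eq_1.{0}) | (have := @Cfsg.Agent.H78.G40.e1.eq_1) | skip
  first | (have := @Cfsg.Agent.H78.G40.e1.eq_unfold.{0}) | (have := @Cfsg.Agent.H78.G40.e1.eq_unfold) | skip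
  first | (have := @Cfsg.Agent.H78.G40.e1.congr_simp.{0}) | (have := @Cfsg.Agent.H78.G40.e1.congr_simp) | skip
  first | (have := @Cfsg.Agent.H78.G40.τ1.eq_def.{0}) | (have := @Cfsg.Agent.H78.G40.τ1.eq_def) | skip
  first | (have := @Cfsg.Agent.H78.G40.τ1.eq_1.{0}) | (have := @Cfsg.Agent.H78.G40.τ1.eq_1) | skip
  first | (have := @Cfsg.Agent.H78.G40.τ1.eq_unfold.{0}) | (have := @Cfsg.Agent.H78.G40.τ1.eq_unfold) | skip
  first | (have := @Cfsg.Agent.H78.G40.τ1.congr_simp.{0}) | (have := @Cfsg.Agent.H78.G40.τ1.congr_simp) | skip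
  first | (have := @Cfsg.Agent.H78.G40.θ1.eq_def.{0}) | (have := @Cfsg.Agent.H78.G40.θ1.eq_def) | skip
  first | (have := @Cfsg.Agent.H78.G40.θ1.eq_1.{0}) | (have := @Cfsg.Agent.H78.G40.θ1.eq_1) | skip
  first | (have := @Cfsg.Agent.H78.G40.θ1.eq_unfold.{0}) | (have := @Cfsg.Agent.H78.G40.θ1.eq_unfold) | skip
  first | (have := @Cfsg.Agent.H78.G40.θ1.congr_simp.{0}) | (have := @Cfsg.Agent.H78.G40.θ1.congr_simp) | skip
  first | (have := @Cfsg.Agent.H78.G40.Sp6.eq_def.{0}) | (have := @Cfsg.Agent.H78.G40.Sp6.eq_def) | skip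
  first | (have := @Cfsg.Agent.H78.G40.Sp6.eq_1.{0}) | (have := @Cfsg.Agent.H78.G40.Sp6.eq_1) | skip
  first | (have := @Cfsg.Agent.H78.G40.Sp6.eq_unfold.{0}) | (have := @Cfsg.Agent.H78.G40.Sp6.eq_unfold) | skip
  first | (have := @Cfsg.Agent.H78.G40.Sp6.congr_simp.{0}) | (have := @Cfsg.Agent.H78.G40.Sp6.congr_simp) | skip
  first | (have := @Cfsg.Agent.H78.G40.X2.eq_def.{0}) | (have := @Cfsg.Agent.H78.G40.X2.eq_def) | skip
  first | (have := @Cfsg.Agent.H78.G40.X2.eq_1.{0}) | (have := @Cfsg.Agent.H78.G40.X2.eq_1) | skip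
  first | (have := @Cfsg.Agent.H78.G40.X2.eq_unfold.{0}) | (have := @Cfsg.Agent.H78.G40.X2.eq_unfold) | skip
  first | (have := @Cfsg.Agent.H78.G40.X2.congr_simp.{0}) | (have := @Cfsg.Agent.H78.G40.X2.congr_simp) | skip
  first | (have := @Cfsg.Agent.H78.G40.mk2.eq_def.{0}) | (have := @Cfsg.Agent.H78.G40.mk2.eq_def) | skip
  first | (have := @Cfsg.Agent.H78.G40.mk2.eq_1.{0}) | (have := @Cfsg.Agent.H78.G40.mk2.eq_1) | skip
  first | (have := @Cfsg.Agent.H78.G40.mk2.eq_unfold.{0}) | (have := @Cfsg.Agent.H78.G40.mk2.eq_unfold) | skip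
  first | (have := @Cfsg.Agent.H78.G40.mk2.congr_simp.{0}) | (have := @Cfsg.Agent.H78.G40.mk2.congr_simp) | skip
  first | (have := @Cfsg.Agent.H78.G40.E2.eq_def.{0}) | (have := @Cfsg.Agent.H78.G40.E2.eq_def) | skip
  first | (have := @Cfsg.Agent.H78.G40.E2.eq_1.{0}) | (have := @Cfsg.Agent.H78.G40.E2.eq_1) | skip
  first | (have := @Cfsg.Agent.H78.G40.E2.eq_unfold.{0}) | (have := @Cfsg.Agent.H78.G40.E2.eq_unfold) | skip
  first | (have := @Cfsg.Agent.H78.G40.E2.congr_simp.{0}) | (have := @Cfsg.Agent.H78.G40.E2.congr_simp) | skip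
  first | (have := @Cfsg.Agent.H78.G40.D6.eq_def.{0}) | (have := @Cfsg.Agent.H78.G40.D6.eq_def) | skip
  first | (have := @Cfsg.Agent.H78.G40.D6.eq_1.{0}) | (have := @Cfsg.Agent.H78.G40.D6.eq_1) | skip
  first | (have := @Cfsg.Agent.H78.G40.D6.eq_unfold.{0}) | (have := @Cfsg.Agent.H78.G40.D6.eq_unfold) | skip
  first | (have := @Cfsg.Agent.H78.G40.D6.congr_simp.{0}) | (have := @Cfsg.Agent.H78.G40.D6.congr_simp) | skip
  first | (have := @Cfsg.Agent.H78.G40.T2.eq_def.{0}) | (have := @Cfsg.Agent.H78.G40.T2.eq_def) | skip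
  first | (have := @Cfsg.Agent.H78.G40.T2.eq_1.{0}) | (have := @Cfsg.Agent.H78.G40.T2.eq_1) | skip
  first | (have := @Cfsg.Agent.H78.G40.T2.eq_unfold.{0}) | (have := @Cfsg.Agent.H78.G40.T2.eq_unfold) | skip
  first | (have := @Cfsg.Agent.H78.G40.T2.congr_simp.{0}) | (have := @Cfsg.Agent.H78.G40.T2.congr_simp) | skip
  first | (have := @Cfsg.Agent.H78.G40.J6.eq_def.{0}) | (have := @Cfsg.Agent.H78.G40.J6.eq_def) | skip
  first | (have := @Cfsg.Agent.H78.G40.J6.eq_1.{0}) | (have := @Cfsg.Agent.H78.G40.J6.eq_1) | skip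
  first | (have := @Cfsg.Agent.H78.G40.J6.eq_unfold.{0}) | (have := @Cfsg.Agent.H78.G40.J6.eq_unfold) | skip
  first | (have := @Cfsg.Agent.H78.G40.J6.congr_simp.{0}) | (have := @Cfsg.Agent.H78.G40.J6.congr_simp) | skip
  first | (have := @Cfsg.Agent.H78.G40.e2.eq_def.{0}) | (have := @Cfsg.Agent.H78.G40.e2.eq_def) | skip
  first | (have := @Cfsg.Agent.H78.G40.e2.eq_1.{0}) | (have := @Cfsg.Agent.H78.G40.e2.eq_1) | skip
  first | (have := @Cfsg.Agent.H78.G40.e2.eq_unfold.{0}) | (have := @Cfsg.Agent.H78.G40.e2.eq_unfold) | skip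
  first | (have := @Cfsg.Agent.H78.G40.e2.congr_simp.{0}) | (have := @Cfsg.Agent.H78.G40.e2.congr_simp) | skip
  first | (have := @Cfsg.Agent.H78.G40.τ2.eq_def.{0}) | (have := @Cfsg.Agent.H78.G40.τ2.eq_def) | skip
  first | (have := @Cfsg.Agent.H78.G40.τ2.eq_1.{0}) | (have := @Cfsg.Agent.H78.G40.τ2.eq_1) | skip
  first | (have := @Cfsg.Agent.H78.G40.τ2.eq_unfold.{0}) | (have := @Cfsg.Agent.H78.G40.τ2.eq_unfold) | skip
  first | (have := @Cfsg.Agent.H78.G40.τ2.congr_simp.{0}) | (have := @Cfsg.Agent.H78.G40.τ2.congr_simp) | skip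
  first | (have := @Cfsg.Agent.H78.G40.θ2.eq_def.{0}) | (have := @Cfsg.Agent.H78.G40.θ2.eq_def) | skip
  first | (have := @Cfsg.Agent.H78.G40.θ2.eq_1.{0}) | (have := @Cfsg.Agent.H78.G40.θ2.eq_1) | skip
  first | (have := @Cfsg.Agent.H78.G40.θ2.eq_unfold.{0}) | (have := @Cfsg.Agent.H78.G40.θ2.eq_unfold) | skip
  first | (have := @Cfsg.Agent.H78.G40.θ2.congr_simp.{0}) | (have := @Cfsg.Agent.H78.G40.θ2.congr_simp) | skip
  first | (have := @Cfsg.Agent.H78.G40.X3.eq_def.{0}) | (have := @Cfsg.Agent.H78.G40.X3.eq_def) | skip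
  first | (have := @Cfsg.Agent.H78.G40.X3.eq_1.{0}) | (have := @Cfsg.Agent.H78.G40.X3.eq_1) | skip
  first | (have := @Cfsg.Agent.H78.G40.X3.eq_unfold.{0}) | (have := @Cfsg.Agent.H78.G40.X3.eq_unfold) | skip
  first | (have := @Cfsg.Agent.H78.G40.X3.congr_simp.{0}) | (have := @Cfsg.Agent.H78.G40.X3.congr_simp) | skip
  first | (have := @Cfsg.Agent.H78.G40.e3.eq_def.{0}) | (have := @Cfsg.Agent.H78.G40.e3.eq_def) | skip
  first | (have := @Cfsg.Agent.H78.G40.e3.eq_1.{0}) | (have := @Cfsg.Agent.H78.G40.e3.eq_1) | skip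
  first | (have := @Cfsg.Agent.H78.G40.e3.eq_unfold.{0}) | (have := @Cfsg.Agent.H78.G40.e3.eq_unfold) | skip
  first | (have := @Cfsg.Agent.H78.G40.e3.congr_simp.{0}) | (have := @Cfsg.Agent.H78.G40.e3.congr_simp) | skip
  first | (have := @Cfsg.Agent.H78.G40.τ3.eq_def.{0}) | (have := @Cfsg.Agent.H78.G40.τ3.eq_def) | skip
  first | (have := @Cfsg.Agent.H78.G40.τ3.eq_1.{0}) | (have := @Cfsg.Agent.H78.G40.τ3.eq_1) | skip
  first | (have := @Cfsg.Agent.H78.G40.τ3.eq_unfold.{0}) | (have := @Cfsg.Agent.H78.G40.τ3.eq_unfold) | skip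
  first | (have := @Cfsg.Agent.H78.G40.τ3.congr_simp.{0}) | (have := @Cfsg.Agent.H78.G40.τ3.congr_simp) | skip
  first | (have := @Cfsg.Agent.H78.G40.θ3.eq_def.{0}) | (have := @Cfsg.Agent.H78.G40.θ3.eq_def) | skip
  first | (have := @Cfsg.Agent.H78.G40.θ3.eq_1.{0}) | (have := @Cfsg.Agent.H78.G40.θ3.eq_1) | skip
  first | (have := @Cfsg.Agent.H78.G40.θ3.eq_unfold.{0}) | (have := @Cfsg.Agent.H78.G40.θ3.eq_unfold) | skip
  first | (have := @Cfsg.Agent.H78.G40.θ3.congr_simp.{0}) | (have := @Cfsg.Agent.H78.G40.θ3.congr_simp) | skip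
  trivial

end Cfsg.Agent.H78.G40
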