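import Mathlib

/-!
# Subgroups of order `25` of the symmetric group of degree eleven
-/

set_option autoImplicit false

namespace Cfsg.Agent.H78GF

open Subgroup Equiv Equiv.Perm
open scoped Pointwise

/-- the elementary group of order `25` -/
abbrev V2 : Type := Multiplicative (ZMod 5 × ZMod 5)

def c1 : Perm (Fin 11) := swap 0 4 * swap 0 3 * swap 0 2 * swap 0 1
def c2 : Perm (Fin 11) := swap 5 9 * swap 5 8 * swap 5 7 * swap 5 6
def κ : Perm (Fin 11) :=
  swap 0 5 * (swap 1 8 * swap 1 3 * swap 1 9 * swap 1 4 * swap 1 7 * swap 1 2 * swap 1 6)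

theorem sign_κ : sign κ = 1 := by simp [κ]

theorem c1_pow : c1 ^ 5 = 1 := by decide +kernel
theorem c2_pow : c2 ^ 5 = 1 := by decide +kernel
theorem c12 : Commute c1 c2 := by show c1 * c2 = c2 * c1; decide +kernel

theorem pow_val {G : Type*} [Group G] {c : G} (h : c ^ 5 = 1) (a b : ZMod 5) :
    c ^ (a + b).val = c ^ a.val * c ^ b.val := by
  rw [ZMod.val_add, ← pow_eq_pow_mod _ h, pow_add]

/-- the standard subgroup -/
def ψ0 : V2 →* Perm (Fin 11) :=
  MonoidHom.mk' (fun p => c1 ^ p.toAdd.1.val * c2 ^ p.toAdd.2.val) fun p q => by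
    simp only [toAdd_mul, Prod.fst_add, Prod.snd_add, pow_val c1_pow, pow_val c2_pow]
    exact (c12.pow_pow _ _).mul_mul_mul_comm _ _

theorem ψ0_apply (a b : ZMod 5) : ψ0 (Multiplicative.ofAdd (a, b)) = c1 ^ a.val * c2 ^ b.val := rfl

theorem ψ0_ker : ∀ a b : ZMod 5, c1 ^ a.val * c2 ^ b.val = 1 → a = 0 ∧ b = 0 := by decide +kernel

theorem ψ0_inj : Function.Injective ψ0 := by
  rw [injective_iff_map_eq_one]
  rintro ⟨a, b⟩ h
  obtain ⟨rfl, rfl⟩ := ψ0_ker a b h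
  rfl

theorem κ_conj : ∀ a b : ZMod 5,
    κ * (c1 ^ a.val * c2 ^ b.val) * κ⁻¹ = c1 ^ (2 * b).val * c2 ^ a.val := by decide +kernel

theorem exists_sylow {ψ : V2 →* Perm (Fin 11)} (h : Function.Injective ψ) :
    ∃ P : Sylow 5 (Perm (Fin 11)), (P : Subgroup (Perm (Fin 11))) = ψ.range := by
  have : Fact (Nat.Prime 5) := ⟨Nat.prime_five⟩
  have h1 : Nat.card ψ.range = 5 ^ 2 := by
    rw [← Nat.card_congr (MonoidHom.ofInjective h).toEquiv]
    simp [V2]
  have h2 := ψ.range.card_mul_index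
  rw [h1, Nat.card_eq_fintype_card, Fintype.card_perm, Fintype.card_fin,
    show Nat.factorial 11 = 39916800 by decide] at h2
  exact ⟨(IsPGroup.of_card h1).toSylow (by omega), rfl⟩

theorem no_eigen : ∀ a b z : ZMod 5, (2 * b, a) = z.val • (a, b) → a = 0 ∧ b = 0 := by decide

theorem one01 : (Multiplicative.ofAdd (0, 1) : V2) ≠ 1 := by decide

/-- No subgroup of order five of a Sylow `5`-subgroup is weakly closed. -/
theorem exists_even {ψ : V2 →* Perm (Fin 11)} (h : Function.Injective ψ) :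
    ∃ k : Perm (Fin 11), sign k = 1 ∧ ∃ t z : ZMod 5, t ≠ 0 ∧
      k * ψ (Multiplicative.ofAdd (0, 1)) * k⁻¹ = ψ (Multiplicative.ofAdd (t, z)) := by
  have : Fact (Nat.Prime 5) := ⟨Nat.prime_five⟩
  obtain ⟨P0, h0⟩ := exists_sylow ψ0_inj
  obtain ⟨P, h1⟩ := exists_sylow h
  obtain ⟨r, hr⟩ := MulAction.exists_smul_eq (Perm (Fin 11)) P0 P
  have hr' : ∀ x, x ∈ ψ.range ↔ r⁻¹ * x * r ∈ ψ0.range := fun x => by
    have e : ψ.range = MulAut.conj r • ψ0.range := by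
      rw [← h1, ← hr, Sylow.coe_subgroup_smul, h0]
    rw [e, mem_pointwise_smul_iff_inv_smul_mem, ← map_inv, MulAut.smul_def, MulAut.conj_apply,
      inv_inv]
  obtain ⟨p, hp⟩ := (hr' _).1 ⟨Multiplicative.ofAdd (0, 1), rfl⟩
  obtain ⟨⟨a, b⟩, rfl⟩ := Multiplicative.ofAdd.surjective p
  obtain ⟨q, hq⟩ := (hr' (r * ψ0 (Multiplicative.ofAdd (2 * b, a)) * r⁻¹)).2
    ⟨Multiplicative.ofAdd (2 * b, a), by group⟩
  obtain ⟨⟨t, z⟩, rfl⟩ := Multiplicative.ofAdd.surjective q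
  have hp' : ψ (Multiplicative.ofAdd (0, 1)) = r * ψ0 (Multiplicative.ofAdd (a, b)) * r⁻¹ := by
    rw [hp]; group
  refine ⟨r * κ * r⁻¹, by simp [sign_κ], t, z, ?_, ?_⟩
  · rintro rfl
    have e1 : (Multiplicative.ofAdd ((0 : ZMod 5), z)) = Multiplicative.ofAdd (0, 1) ^ z.val := by
      rw [← ofAdd_nsmul]; simp
    rw [e1, map_pow, hp', conj_pow, ← map_pow, mul_left_inj, mul_right_inj, ← ofAdd_nsmul] at hq
    obtain ⟨rfl, rfl⟩ := no_eigen a b z (Multiplicative.ofAdd.injective (ψ0_inj hq)).symm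
    have e2 : ψ (Multiplicative.ofAdd (0, 1)) = ψ 1 := by
      rw [hp', map_one, show (Multiplicative.ofAdd ((0 : ZMod 5), (0 : ZMod 5))) = 1 from rfl,
        map_one, mul_one, mul_inv_cancel]
    exact one01 (h e2)
  · rw [hq, hp', ψ0_apply, ψ0_apply, ← κ_conj]
    group

end Cfsg.Agent.H78GF
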