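import Cfsg.Agent.H78.J4NV

/-! Fusion of the classes of `2^11:M24`. -/

set_option autoImplicit false
set_option maxRecDepth 1000000

namespace Cfsg.Agent.H78.J4C
open H43 H49 H46.J4

variable {G : Type*} [Group G] [Finite G] (D : Dat G)

theorem fu16_0 : IsConj (XX D (nthN m24reps 9) 2) (XX D (nthN m24reps 16) 0) :=
  edge_spec D (k := 693530419724896318093723613458534432364580)
    (k' := 1149741451679700050766217691996786843304004) (by decide +kernel)

theorem fu9_0 : IsConj (XX D (nthN m24reps 3) 2) (XX D (nthN m24reps 9) 0) :=
  edge_spec D (k := 320934961073100613743523277102705810145955)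
    (k' := 4161855877412099787243580993672656361604705) (by decide +kernel)

theorem fu13_2 : IsConj (XX D (nthN m24reps 5) 4) (XX D (nthN m24reps 13) 2) :=
  edge_spec D (k := 703702776437734143748997029646077544938738)
    (k' := 3153563347156415046795123094770263929686550) (by decide +kernel)

theorem fu2_1 : IsConj (XX D (nthN m24reps 1) 36) (XX D (nthN m24reps 2) 1) :=
  edge_spec D (k := 3021135873197997024158849098701592262197522)
    (k' := 3369973312875128262321563157583785760105206) (by decide +kernel)

theorem fu16_1 : IsConj (XX D (nthN m24reps 9) 3) (XX D (nthN m24reps 16) 1) :=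
  edge_spec D (k := 242001955017587900747789133193852068801738)
    (k' := 3867164658310351475029562872356562153102569) (by decide +kernel)

theorem fu1_0 : IsConj (XX D (nthN m24reps 0) 1) (XX D (nthN m24reps 1) 0) :=
  edge_spec D (k := 3853539969512147429501103583269365546814656)
    (k' := 715767056369820041596652476069785974) (by decide +kernel)

theorem fu7_1 : IsConj (XX D (nthN m24reps 6) 5) (XX D (nthN m24reps 7) 1) :=
  edge_spec D (k := 2829194060244775719687991610841039243795751)
    (k' := 340989078286668544937038858662267562658225) (by decide +kernel)

theorem fu5_0 : IsConj (XX D (nthN m24reps 2) 46) (XX D (nthN m24reps 5) 0) :=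
  edge_spec D (k := 349532533994619626158144574747339217291406)
    (k' := 107930185847916553670617594416890713160909) (by decide +kernel)

theorem fu7_4 : IsConj (XX D (nthN m24reps 1) 36) (XX D (nthN m24reps 7) 4) :=
  (fu2_1 D).trans (edge_spec D (k := 3172608571981201029085426174895292588435183)
    (k' := 393641885300638675380812342418278501) (by decide +kernel))

theorem fu5_1 : IsConj (XX D (nthN m24reps 1) 36) (XX D (nthN m24reps 5) 1) :=
  (fu7_4 D).trans (edge_spec D (k := 693204801663280744825211718511124220761538)
    (k' := 3596956778578351623881616586265793448726912) (by decide +kernel))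

theorem fu6_22 : IsConj (XX D (nthN m24reps 1) 36) (XX D (nthN m24reps 6) 22) :=
  edge_spec D (k := 1372003192785867646364193252635168201212490)
    (k' := 3371344293020904019868103603859898633378963) (by decide +kernel)

theorem fu9_1 : IsConj (XX D (nthN m24reps 3) 1) (XX D (nthN m24reps 9) 1) :=
  edge_spec D (k := 3370263294230775056925967075322915511310509)
    (k' := 3743310808079397326942191593630100746912390) (by decide +kernel)

theorem fu6_0 : IsConj (XX D (nthN m24reps 1) 36) (XX D (nthN m24reps 6) 0) :=
  (fu7_4 D).trans (edge_spec D (k := 1068765131527858502956815315681373902811147)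
    (k' := 4067634728582147249165894842881584790000950) (by decide +kernel))

theorem fu1_2 : IsConj (XX D (nthN m24reps 2) 46) (XX D (nthN m24reps 1) 2) :=
  (fu5_0 D).trans (edge_spec D (k := 345059916596896119125449846575392855859490)
    (k' := 3122529403417867493459431633714147471442227) (by decide +kernel))

theorem fu5_2 : IsConj (XX D (nthN m24reps 1) 4) (XX D (nthN m24reps 5) 2) :=
  edge_spec D (k := 944600386871412051137140082979667849814730)
    (k' := 921808010122094036984153851525792111) (by decide +kernel)

theorem fu2_28 : IsConj (XX D (nthN m24reps 0) 1) (XX D (nthN m24reps 2) 28) :=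
  edge_spec D (k := 4085632250366827641949415413952353315568326)
    (k' := 317267724009257266052744624907982357) (by decide +kernel)

theorem fu6_2 : IsConj (XX D (nthN m24reps 1) 4) (XX D (nthN m24reps 6) 2) :=
  edge_spec D (k := 4062883175610915895266390434497419964419626)
    (k' := 2803331566643724128335823559583260274121378) (by decide +kernel)

theorem fu1_1 : IsConj (XX D (nthN m24reps 0) 12) (XX D (nthN m24reps 1) 1) :=
  edge_spec D (k := 121856380941424413446095824571850408898243)
    (k' := 503763402075540551483701419354662090) (by decide +kernel)

theorem fu7_0 : IsConj (XX D (nthN m24reps 1) 4) (XX D (nthN m24reps 7) 0) :=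
  (fu5_2 D).trans (edge_spec D (k := 3441411753393537153373417042599666214537830)
    (k' := 472045190049254635342424224885134491387011) (by decide +kernel))

theorem fu13_0 : IsConj (XX D (nthN m24reps 6) 5) (XX D (nthN m24reps 13) 0) :=
  (fu7_1 D).trans (edge_spec D (k := 4086316289981454111989489264031066786088165)
    (k' := 3502097114098260598400730445521643911917222) (by decide +kernel))

theorem fu2_0 : IsConj (XX D (nthN m24reps 0) 12) (XX D (nthN m24reps 2) 0) :=
  (fu1_1 D).trans (edge_spec D (k := 447167695987762153213662214858581044537540)
    (k' := 3017040750648853034736096217931331393993360) (by decide +kernel))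

end Cfsg.Agent.H78.J4C
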