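import Cfsg.Agent.H78.JSix1

/-!
If an abelian `p`-subgroup of largest order is not contained in `O_p(G)`, some such subgroup has
degree at most six on all chief factors below `O_p(G)`.
-/

set_option autoImplicit false

namespace Cfsg.Agent.H78.JSix

open Subgroup Cfsg.Agent.H33.JA Cfsg.Agent.H54
open scoped commutatorElement

variable {G : Type*} [Group G] {p : ℕ}

theorem descend {f : ℕ → Prop} (h : ∀ k, f (k + 1) → f k) : ∀ k, f k → f 0
  | 0, h0 => h0
  | k + 1, h1 => descend h k (h k h1)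

theorem iter_bot {X A : Subgroup G} {n : ℕ} (h : iterCommutator X A n = ⊥) (k : ℕ) :
    iterCommutator X A (n + k) = ⊥ := by
  induction k with
  | zero => exact h
  | succ k ih => rw [← add_assoc, iterCommutator_succ, ih, commutator_bot_left]

variable [Finite G] [Fact p.Prime]

theorem exists_iter {A X : Subgroup G} (hA : IsPGroup p A) (hX : IsPGroup p X)
    (hn : A ≤ normalizer (X : Set G)) : ∃ n, iterCommutator X A n = ⊥ := by
  have := (IsPGroup.to_sup_of_normal_right' hA hX hn).isNilpotent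
  exact exists_iterCommutator_eq_bot (K := A ⊔ X) le_sup_right le_sup_left

/-- products of two commutator maps on `[v, A]` are induced by elements of `A ∩ T` -/
theorem j3 {A V T : Subgroup G} [V.Normal] (hA : MaxAb p A) (hV : IsPGroup p V)
    (hVc : IsMulCommutative V)
    (hmax : ∀ E C : Subgroup G, E ≤ V → C ≤ A → A ⊓ V ≤ C → MaxAb p (E ⊔ C) → C ≤ T ∨ E ≤ A)
    {v a b : G} (hv : v ∈ V) (ha : a ∈ A) (hb : b ∈ A) :
    ∃ c ∈ A ⊓ T, ∀ e ∈ A, ⁅e, ⁅b, ⁅a, v⁆⁆⁆ = ⁅c, ⁅e, v⁆⁆ := by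
  have hl := lin_of_comm hVc
  have hAc := H51.isMulCommutative_iff_forall.1 hA.comm
  have hVV := H51.isMulCommutative_iff_le_centralizer.1 hVc
  have hMV : ∀ y ∈ V, cm A y ≤ V := fun y hy => cm_le fun c _ => comm_mem_left c hy
  have hm : ⁅b, ⁅a, v⁆⁆ ∈ cm A v := comm_mem_cm hb (mem_cm ha v)
  obtain ⟨c, hc, hcc⟩ := hA.thompson v (M := cm A v) rfl (hV.to_le (hMV v hv))
    (H51.isMulCommutative_of_le hVc (hMV v hv)) hm
  have h1 : ∀ e ∈ A, ⁅e, ⁅b, ⁅a, v⁆⁆⁆ = ⁅c, ⁅e, v⁆⁆ := by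
    intro e he
    have h2 := (hl e).mul (hMV v hv hm) (V.mul_mem (V.inv_mem (hMV v hv hm)) (comm_mem_left c hv))
    rw [mul_inv_cancel_left, commutatorElement_eq_one_iff_mul_comm.2
      (mem_centralizer_iff.1 hcc e he), mul_one] at h2
    rw [← h2, (hl c).swap (hAc e he c hc) hv]
  by_cases hcT : c ∈ T
  · exact ⟨c, ⟨hc, hcT⟩, h1⟩
  refine ⟨1, one_mem _, fun e he => ?_⟩
  have h2 : ∀ w ∈ cm A v, ⁅c, w⁆ = ⁅b, ⁅a, w⁆⁆ := by
    intro w hw
    induction hw using closure_induction with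
    | mem w hw =>
      obtain ⟨e, he, rfl⟩ := hw
      rw [← h1 e he, (hl a).swap (hAc e he a ha) hv,
        (hl b).swap (hAc e he b hb) (comm_mem_left a hv)]
    | one => simp
    | mul x y hx hy h1 h2 =>
      have hx' := hMV v hv hx
      have hy' := hMV v hv hy
      rw [(hl c).mul hx' hy', (hl a).mul hx' hy',
        (hl b).mul (comm_mem_left a hx') (comm_mem_left a hy'), h1, h2]
    | inv x hx h1 =>
      have hx' := hMV v hv hx
      rw [(hl c).inv hx', (hl a).inv hx', (hl b).inv (comm_mem_left a hx'), h1]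
  have hle := iterCommutator_le (le_norm_cm A v)
  have h3 : ∀ k, iterCommutator (cm A v) A (k + 1 + 2) = ⊥ →
      iterCommutator (cm A v) A (k + 2) = ⊥ := by
    intro k hk
    rw [iterCommutator_succ, commutator_eq_bot_iff_le_centralizer, iterCommutator_succ]
    refine comm_le fun e he y hy => ?_
    have hyV := hMV v hv (hle k hy)
    have h4 : c ∈ centralizer (cm A y : Set G) := by
      rw [cm, centralizer_closure, mem_centralizer_iff]
      rintro _ ⟨d, hd, rfl⟩
      symm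
      rw [← commutatorElement_eq_one_iff_mul_comm, h2 _ (comm_mem_cm hd (hle k hy)), ← mem_bot,
        ← hk]
      exact comm_mem hb (comm_mem ha (comm_mem hd hy))
    rcases hmax _ _ (hMV y hyV) inf_le_left
      (inf_le_inf_left _ (hVV.trans (centralizer_le (hMV y hyV))))
      (th1 hA y (hV.to_le (hMV y hyV)) (H51.isMulCommutative_of_le hVc (hMV y hyV))) with h | h
    · exact absurd (h ⟨hc, h4⟩) hcT
    · exact H51.isMulCommutative_iff_le_centralizer.1 hA.comm (h (mem_cm he y))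
  obtain ⟨n, hn⟩ := exists_iter hA.pg (hV.to_le (hMV v hv)) (le_norm_cm A v)
  have h5 := descend (f := fun k => iterCommutator (cm A v) A (k + 2) = ⊥) h3 n (iter_bot hn 2)
  rw [commutatorElement_one_left, ← mem_bot, ← h5]
  exact comm_mem he (comm_mem hb (mem_cm ha v))

omit [Finite G] in
theorem iter3_le {A V X N : Subgroup G} [V.Normal] (hVc : IsMulCommutative V) (hX : X ≤ V)
    (h : ∀ x ∈ X, ∀ a ∈ A, ∀ b ∈ A, ∀ e ∈ A, ⁅e, ⁅b, ⁅a, x⁆⁆⁆ ∈ N) :
    iterCommutator X A 3 ≤ N := by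
  have hl : ∀ g ∈ (A : Set G), Lin V g := fun g _ => lin_of_comm hVc g
  have h1 : ⁅X, A⁆ ≤ up V A hl (up V A hl N) := comm_le fun a ha x hx =>
    ⟨comm_mem_left a (hX hx), fun b hb => ⟨comm_mem_left b (comm_mem_left a (hX hx)),
      fun e he => h x hx a ha b hb e he⟩⟩
  have h2 : ⁅⁅X, A⁆, A⁆ ≤ up V A hl N := comm_le fun a ha x hx => (h1 hx).2 a ha
  exact comm_le fun a ha x hx => (h2 hx).2 a ha

omit [Finite G] in
theorem push {A V Q H N : Subgroup G} [Q.Normal] {c : G} (hc : ∀ a ∈ A, a * c = c * a)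
    (hq : ∀ g ∈ ({c} : Set G), Lin Q g) (hl : ∀ g ∈ (A : Set G), Lin V g)
    (h : H ≤ up Q {c} hq (up V A hl N)) : ⁅H, A⁆ ≤ up Q {c} hq N :=
  comm_le fun a ha y hy => ⟨comm_mem_left a (h hy).1, by
    rintro _ rfl
    rw [(hq _ rfl).swap (hc a ha) (h hy).1]
    exact ((h hy).2 _ rfl).2 a ha⟩

omit [Finite G] in
theorem cen_of_up {Q H : Subgroup G} {c : G} {hq : ∀ g ∈ ({c} : Set G), Lin Q g}
    (h : H ≤ up Q {c} hq ⊥) : c ∈ centralizer (H : Set G) :=
  mem_centralizer_iff.2 fun _ hy =>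
    (commutatorElement_eq_one_iff_mul_comm.1 (mem_bot.1 ((h hy).2 c rfl))).symm

omit [Finite G] in
theorem chief_from {A Q V U W : Subgroup G} [V.Normal] (h : IsChiefFactor U W) (hU : U ≤ Q)
    {i j : ℕ} (hij : j ≤ i) (h1 : iterCommutator Q A i ≤ V)
    (h2 : iterCommutator (U ⊓ V) A j ≤ W) : iterCommutator U A i ≤ W := by
  have := h.2.1
  have := h.2.2.1
  by_cases h0 : U ⊓ V ≤ W
  · exact le_trans (le_inf (iterCommutator_le le_normalizer_of_normal i)
      ((iterCommutator_mono hU le_rfl i).trans h1)) h0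
  · refine (iterCommutator_mono (chief_le_sup_of_not_le h inf_le_left h0) le_rfl _).trans
      ((iterCommutator_sup_le _ W A _).trans (sup_le ?_ le_rfl))
    exact (iterCommutator_antitone le_normalizer_of_normal hij).trans h2

/-- the case `[V, A, A] ≠ 1` -/
theorem four {A Q T : Subgroup G} [Q.Normal] [T.Normal] (hA : MaxAb p A) (hT : IsPGroup p T)
    (hQT : Q ≤ T) (hQ : ⁅T, Q⁆ ≤ Q ⊓ centralizer (Q : Set G))
    (hmax : ∀ E C : Subgroup G, E ≤ Q ⊓ centralizer (Q : Set G) → C ≤ A →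
      A ⊓ (Q ⊓ centralizer (Q : Set G)) ≤ C → MaxAb p (E ⊔ C) → C ≤ T ∨ E ≤ A)
    (h2 : iterCommutator (Q ⊓ centralizer (Q : Set G)) A 2 ≠ ⊥) :
    iterCommutator Q A 4 ≤ Q ⊓ centralizer (Q : Set G) := by
  set V := Q ⊓ centralizer (Q : Set G) with hVd
  have hVc : IsMulCommutative V := H51.isMulCommutative_iff_le_centralizer.2
    (inf_le_right.trans (centralizer_le inf_le_left))
  have hV : IsPGroup p V := hT.to_le (inf_le_left.trans hQT)
  have hAc := H51.isMulCommutative_iff_forall.1 hA.comm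
  have hl : ∀ g ∈ (A : Set G), Lin V g := fun g _ => lin_of_comm hVc g
  have hTQ : ∀ t ∈ T, ∀ x ∈ Q, ⁅t, x⁆ ∈ V := fun t ht x hx => hQ (commutator_mem_commutator ht hx)
  obtain ⟨E, C, a1, a2, a3, a4, a5, a6⟩ := tr hA hV hVc
  rcases hmax E C a1 a2 a4 a6 with hCT | hEA
  swap
  · exact absurd (commutator_eq_bot_iff_le_centralizer.2 (a3.trans (hEA.trans
      (H51.isMulCommutative_iff_le_centralizer.1 hA.comm)))) h2
  have h3 : C ≤ centralizer (iterCommutator Q A 3 : Set G) := by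
    intro c hc
    have hq : ∀ g ∈ ({c} : Set G), Lin Q g := by
      rintro _ rfl
      exact fun y hy => (hTQ _ (hCT hc) y hy).2
    have hca : ∀ a ∈ A, a * c = c * a := fun a ha => hAc a ha c (a2 hc)
    refine cen_of_up (hq := hq) (push hca hq hl (push hca hq hl (push hca hq hl fun x hx => ⟨hx, ?_⟩)))
    rintro c rfl
    have hv := hTQ _ (hCT hc) x hx
    refine ⟨hv, fun a ha => ⟨comm_mem_left a hv, fun b hb =>
      ⟨comm_mem_left b (comm_mem_left a hv), fun e he => ?_⟩⟩⟩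
    obtain ⟨d, hd, hde⟩ := j3 hA hV hVc hmax hv ha hb
    have hu := hTQ _ hd.2 x hx
    rw [hde e he, (lin_of_comm hVc d).swap (hAc e he d hd.1) hv,
      ← (hq _ rfl).swap (hca d hd.1) hx, ← (hq _ rfl).swap (hca e he) hu.1, mem_bot,
      commutatorElement_eq_one_iff_mul_comm]
    exact (mem_centralizer_iff.1 (a5 hc) _ (a3 (comm_mem he hu))).symm
  have h4 : iterCommutator Q A 3 ≤ Q := iterCommutator_le le_normalizer_of_normal 3
  refine comm_le fun a ha q hq => ?_
  have h5 : q ∈ E ⊔ C := self_cen a6 hT (hQT (h4 hq)) (le_centralizer_iff.1 (sup_le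
    (a1.trans (inf_le_right.trans (centralizer_le h4))) h3) hq)
  rw [← SetLike.mem_coe, coe_mul_of_right_le_normalizer_left _ _
    (a5.trans (centralizer_le_normalizer _))] at h5
  obtain ⟨e, he, c, hc, rfl⟩ := h5
  have h6 : ⁅a, c⁆ = 1 := commutatorElement_eq_one_iff_mul_comm.2 (hAc a ha c (a2 hc))
  change ⁅a, e * c⁆ ∈ V
  rw [comm_mul (by rw [h6, mul_one, one_mul]), h6, mul_one]
  exact comm_mem_left a (a1 he)

/-- the case `[V, A, A] = 1` -/
theorem five {A Q T : Subgroup G} [Q.Normal] [T.Normal] (hA : MaxAb p A) (hT : IsPGroup p T)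
    (hQT : Q ≤ T) (hQ : ⁅T, Q⁆ ≤ Q ⊓ centralizer (Q : Set G))
    (hmin : ∀ E C : Subgroup G, E ≤ T → C ≤ A → MaxAb p (E ⊔ C) → C ≤ T ∨ A ≤ C ⊔ T)
    (h2 : iterCommutator (Q ⊓ centralizer (Q : Set G)) A 2 = ⊥) :
    iterCommutator Q A 5 ≤ Q ⊓ centralizer (Q : Set G) := by
  set V := Q ⊓ centralizer (Q : Set G) with hVd
  have hVc : IsMulCommutative V := H51.isMulCommutative_iff_le_centralizer.2
    (inf_le_right.trans (centralizer_le inf_le_left))
  have hAc := H51.isMulCommutative_iff_forall.1 hA.comm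
  have hl : ∀ g ∈ (A : Set G), Lin V g := fun g _ => lin_of_comm hVc g
  have hTQ : ∀ t ∈ T, ∀ x ∈ Q, ⁅t, x⁆ ∈ V := fun t ht x hx => hQ (commutator_mem_commutator ht hx)
  have hnQ : A ≤ normalizer (Q : Set G) := le_normalizer_of_normal
  have hle := iterCommutator_le hnQ
  have hanti := iterCommutator_antitone hnQ
  have h3 : A ⊓ T ≤ centralizer (iterCommutator Q A 2 : Set G) := by
    intro c hc
    have hq : ∀ g ∈ ({c} : Set G), Lin Q g := by
      rintro _ rfl
      exact fun y hy => (hTQ _ hc.2 y hy).2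
    have hca : ∀ a ∈ A, a * c = c * a := fun a ha => hAc a ha c hc.1
    refine cen_of_up (hq := hq) (push hca hq hl (push hca hq hl fun x hx => ⟨hx, ?_⟩))
    rintro c rfl
    have hv := hTQ _ hc.2 x hx
    refine ⟨hv, fun a ha => ⟨comm_mem_left a hv, fun b hb => ?_⟩⟩
    rw [← h2]
    exact comm_mem hb (comm_mem ha hv)
  have hQV : ∀ a b, ⁅iterCommutator Q A a, iterCommutator Q A b⁆ ≤ V := fun a b =>
    (commutator_mono ((hle a).trans hQT) (hle b)).trans hQ
  have hVA : ⁅V, A⁆ ≤ V := commutator_le_left _ _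
  have hn1 : ∀ a, iterCommutator Q A a ≤ normalizer ((⁅V, A⁆ : Subgroup G) : Set G) := fun a =>
    (hle a).trans ((le_centralizer_iff.1 (hVA.trans inf_le_right)).trans
      (centralizer_le_normalizer _))
  have step : ∀ m, iterCommutator Q A (m + 1 + 5) ≤ V → iterCommutator Q A (m + 5) ≤ V := by
    intro m hm
    have c0 : ∀ b, m + 6 ≤ b → ⁅iterCommutator Q A 0, iterCommutator Q A b⁆ = ⊥ := fun b hb => by
      rw [commutator_comm, commutator_eq_bot_iff_le_centralizer]
      exact ((hanti (by omega : m + 1 + 5 ≤ b)).trans hm).trans inf_le_right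
    have c1 : ∀ a b, m + 6 ≤ a + b → ⁅iterCommutator Q A a, iterCommutator Q A b⁆ ≤ ⁅V, A⁆ := by
      intro a
      induction a with
      | zero => exact fun b hb => (c0 b (by omega)).le.trans bot_le
      | succ a ih =>
        intro b hb
        refine three_subgroups_le (hn1 a) (le_normalizer_commutator le_normalizer_of_normal
          le_normalizer) (hn1 b) ?_ (commutator_mono (hQV b a) le_rfl)
        rw [commutator_comm A, commutator_comm]
        exact ih (b + 1) (by omega)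
    have c2 : ∀ a b, m + 7 ≤ a + b → ⁅iterCommutator Q A a, iterCommutator Q A b⁆ ≤ ⊥ := by
      intro a
      induction a with
      | zero => exact fun b hb => (c0 b (by omega)).le
      | succ a ih =>
        intro b hb
        refine three_subgroups_le le_normalizer_of_normal le_normalizer_of_normal
          le_normalizer_of_normal ?_ ((commutator_mono (c1 b a (by omega)) le_rfl).trans h2.le)
        rw [commutator_comm A, commutator_comm]
        exact ih (b + 1) (by omega)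
    have c3 : ∀ a b, m + 7 ≤ a + b →
        iterCommutator Q A a ≤ centralizer (iterCommutator Q A b : Set G) := fun a b hab =>
      commutator_eq_bot_iff_le_centralizer.1 (le_bot_iff.1 (c2 a b hab))
    refine le_trans (le_of_eq ?_) bot_le
    rw [iterCommutator_succ, commutator_eq_bot_iff_le_centralizer, iterCommutator_succ]
    refine comm_le fun a ha y hy => ?_
    have hM : cm A y ≤ iterCommutator Q A (m + 4) := cm_le fun c hc => comm_mem hc hy
    have hMT : cm A y ≤ T := hM.trans ((hle _).trans hQT)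
    have hMc : IsMulCommutative (cm A y) := H51.isMulCommutative_iff_le_centralizer.2
      (hM.trans ((c3 _ _ (by omega)).trans (centralizer_le hM)))
    have hB := th1 hA y (hT.to_le hMT) hMc
    suffices h : cm A y ≤ centralizer (A : Set G) from h (mem_cm ha y)
    rcases hmin _ _ hMT inf_le_left hB with h | h
    · have h5 : y ∈ cm A y ⊔ A ⊓ centralizer (cm A y : Set G) := by
        refine self_cen hB hT (hQT (hle _ hy)) (le_centralizer_iff.1 (sup_le
          (hM.trans (c3 _ _ (by omega))) ?_) hy)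
        exact (le_inf inf_le_left h).trans (h3.trans (centralizer_le (hanti (by omega))))
      rw [← SetLike.mem_coe, coe_mul_of_right_le_normalizer_left _ _
        (inf_le_right.trans (centralizer_le_normalizer _))] at h5
      obtain ⟨e, he, c, hc, hy'⟩ := h5
      have h6 : cm A y ≤ ⁅cm A y, A⁆ := cm_le fun d hd => by
        have h7 : ⁅d, c⁆ = 1 := commutatorElement_eq_one_iff_mul_comm.2 (hAc d hd c hc.1)
        have h8 : ⁅d, y⁆ = ⁅d, e⁆ := by
          rw [← hy', comm_mul (by rw [h7, mul_one, one_mul]), h7, mul_one]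
        rw [h8]
        exact comm_mem hd he
      have h7 : ∀ k, cm A y ≤ iterCommutator (cm A y) A k := fun k => by
        induction k with
        | zero => exact le_rfl
        | succ k ih => exact h6.trans (commutator_mono ih le_rfl)
      obtain ⟨n, hn⟩ := exists_iter hA.pg (hT.to_le hMT) (le_norm_cm A y)
      exact (h7 n).trans (hn.le.trans bot_le)
    · refine le_centralizer_iff.1 fun d hd => ?_
      obtain ⟨c, hc, t, ht, rfl⟩ := mem_sup_of_normal_right.1 (h hd)
      exact mul_mem hc.2 (centralizer_le (hM.trans (hanti (by omega)))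
        (h3 ⟨(A.mul_mem_cancel_left hc.1).1 hd, ht⟩))
  obtain ⟨n, hn⟩ := exists_iter hA.pg (hT.to_le hQT) hnQ
  exact descend (f := fun k => iterCommutator Q A (k + 5) ≤ V) step n
    ((iter_bot hn 5).le.trans bot_le)

theorem six_sub {T S A₀ : Subgroup G} [T.Normal] (hT : IsPGroup p T) (hTS : T ≤ S)
    (h0 : MaxAb p A₀) (h1 : A₀ ≤ S) (h2 : ¬ A₀ ≤ T) :
    ∃ A : Subgroup G, MaxAb p A ∧ A ≤ S ∧ ¬ A ≤ T ∧
      ∀ U W : Subgroup G, IsChiefFactor U W → U ≤ T → iterCommutator U A 6 ≤ W := by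
  obtain ⟨Q, hn, hQT, -, hQ3, hQ4, -⟩ := exists_critical_normal hT
  set V := Q ⊓ centralizer (Q : Set G) with hVd
  obtain ⟨A₁, hA₁, hm₁⟩ := Set.exists_min_image {A | MaxAb p A ∧ A ≤ S ∧ ¬ A ≤ T}
    (fun A => Nat.card (A ⊔ T : Subgroup G)) (Set.toFinite _) ⟨A₀, h0, h1, h2⟩
  obtain ⟨A, ⟨⟨hA, hAS, hAT⟩, hAe⟩, hm₂⟩ := Set.exists_max_image
    {A | (MaxAb p A ∧ A ≤ S ∧ ¬ A ≤ T) ∧ A ⊔ T = A₁ ⊔ T}
    (fun A => Nat.card (A ⊓ V : Subgroup G)) (Set.toFinite _) ⟨A₁, hA₁, rfl⟩
  have hmin0 : ∀ E C : Subgroup G, E ≤ T → C ≤ A → MaxAb p (E ⊔ C) → ¬ C ≤ T →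
      (MaxAb p (E ⊔ C) ∧ E ⊔ C ≤ S ∧ ¬ E ⊔ C ≤ T) ∧ E ⊔ C ⊔ T = A₁ ⊔ T := by
    intro E C hE hC hB hCT
    have h3 : MaxAb p (E ⊔ C) ∧ E ⊔ C ≤ S ∧ ¬ E ⊔ C ≤ T :=
      ⟨hB, sup_le (hE.trans hTS) (hC.trans hAS), fun h => hCT (le_sup_right.trans h)⟩
    exact ⟨h3, eq_of_le_of_card_ge (sup_le (sup_le (hE.trans le_sup_right)
      (hC.trans (le_sup_left.trans hAe.le))) le_sup_right) (hm₁ _ h3)⟩
  have hmin : ∀ E C : Subgroup G, E ≤ T → C ≤ A → MaxAb p (E ⊔ C) → C ≤ T ∨ A ≤ C ⊔ T := by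
    intro E C hE hC hB
    refine or_iff_not_imp_left.2 fun hCT => ?_
    exact le_sup_left.trans ((hAe.trans (hmin0 E C hE hC hB hCT).2.symm).le.trans
      (sup_le (sup_le (hE.trans le_sup_right) le_sup_left) le_sup_right))
  have hVT : V ≤ T := inf_le_left.trans hQT
  have hmax : ∀ E C : Subgroup G, E ≤ V → C ≤ A → A ⊓ V ≤ C → MaxAb p (E ⊔ C) →
      C ≤ T ∨ E ≤ A := by
    intro E C hE hC h3 hB
    refine or_iff_not_imp_left.2 fun hCT => ?_
    have h4 := eq_of_le_of_card_ge (le_inf (h3.trans le_sup_right) inf_le_right)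
      (hm₂ _ (hmin0 E C (hE.trans hVT) hC hB hCT))
    exact (le_inf le_sup_left hE).trans (h4.ge.trans inf_le_left)
  have hVc : IsMulCommutative V := H51.isMulCommutative_iff_le_centralizer.2
    (inf_le_right.trans (centralizer_le inf_le_left))
  have h3 : ∀ U W : Subgroup G, IsChiefFactor U W → U ≤ T → iterCommutator (U ⊓ V) A 3 ≤ W := by
    intro U W h hU
    have := h.2.1
    refine iter3_le hVc inf_le_right fun x hx a ha b hb e he => ?_
    obtain ⟨c, hc, hce⟩ := j3 hA (hT.to_le hVT) hVc hmax hx.2 ha hb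
    rw [hce e he]
    exact chief_commutator_le_of_isPGroup h (hT.to_le hU) hT
      (comm_mem hc.2 (comm_mem_left e hx.1))
  refine ⟨A, hA, hAS, hAT, fun U W h hU => ?_⟩
  by_cases h4 : iterCommutator V A 2 = ⊥
  · exact chief_iterCommutator_le_of_critical hT hQT hQ3 hQ4 (i := 5) (j := 2) (by norm_num)
      (fun U W h hU => chief_from h hU (by norm_num) (five hA hT hQT hQ3 hmin h4)
        (h3 U W h (hU.trans hQT)))
      (fun U W _ hU => (iterCommutator_mono hU le_rfl 2).trans (h4.le.trans bot_le)) h hU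
  · exact chief_iterCommutator_le_of_critical hT hQT hQ3 hQ4 (i := 4) (j := 3) (by norm_num)
      (fun U W h hU => chief_from h hU (by norm_num) (four hA hT hQT hQ3 hmax h4)
        (h3 U W h (hU.trans hQT)))
      (fun U W h hU => (iterCommutator_mono (le_inf le_rfl hU) le_rfl 3).trans
        (h3 U W h (hU.trans hVT))) h hU

theorem six {S A₀ : Subgroup G} (hTS : pCore p G ≤ S) (h0 : MaxAb p A₀) (h1 : A₀ ≤ S)
    (h2 : ¬ A₀ ≤ pCore p G) : ∃ g ∈ S, g ∉ pCore p G ∧
      ∀ U W : Subgroup G, IsChiefFactor U W → U ≤ pCore p G →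
        iterCommutator U (zpowers g) 6 ≤ W := by
  obtain ⟨A, -, hAS, hAT, h⟩ := six_sub (H3.pCore_isPGroup p G) hTS h0 h1 h2
  obtain ⟨g, hg, hg'⟩ := SetLike.not_le_iff_exists.1 hAT
  exact ⟨g, hAS hg, hg', fun U W hUW hU =>
    (iterCommutator_mono le_rfl (zpowers_le.2 hg) 6).trans (h U W hUW hU)⟩

end Cfsg.Agent.H78.JSix
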