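import Cfsg.Agent.H33.JA1

/-!
Abelian `p`-subgroups of largest order: replacement lemmas.
-/

set_option autoImplicit false

namespace Cfsg.Agent.H78.JSix

open Subgroup Cfsg.Agent.H33.JA
open scoped commutatorElement

variable {G : Type*} [Group G] {p : ℕ}

theorem comm_mul {g x y : G} (h : x * ⁅g, y⁆ = ⁅g, y⁆ * x) : ⁅g, x * y⁆ = ⁅g, x⁆ * ⁅g, y⁆ := by
  calc ⁅g, x * y⁆ = ⁅g, x⁆ * (x * ⁅g, y⁆) * x⁻¹ := by simp only [commutatorElement_def]; group
    _ = _ := by rw [h]; group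

theorem mul_comm_elt (c d x : G) : ⁅c * d, x⁆ = c * ⁅d, x⁆ * c⁻¹ * ⁅c, x⁆ := by
  simp only [commutatorElement_def]; group

theorem comm_mem_left {Q : Subgroup G} [hQ : Q.Normal] (g : G) {y : G} (hy : y ∈ Q) : ⁅g, y⁆ ∈ Q :=
  Q.mul_mem (hQ.conj_mem y hy g) (Q.inv_mem hy)

theorem comm_mem {X A : Subgroup G} {a y : G} (ha : a ∈ A) (hy : y ∈ X) : ⁅a, y⁆ ∈ ⁅X, A⁆ := by
  rw [← commutatorElement_inv]; exact inv_mem (commutator_mem_commutator hy ha)

theorem comm_le {X A N : Subgroup G} (h : ∀ a ∈ A, ∀ y ∈ X, ⁅a, y⁆ ∈ N) : ⁅X, A⁆ ≤ N :=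
  commutator_le.2 fun y hy a ha => by rw [← commutatorElement_inv]; exact inv_mem (h a ha y hy)

/-- `y ↦ ⁅h, y⁆` is multiplicative on `Q` -/
def Lin (Q : Subgroup G) (h : G) : Prop := ∀ y ∈ Q, ⁅h, y⁆ ∈ centralizer (Q : Set G)

theorem Lin.mul {Q : Subgroup G} {h : G} (hl : Lin Q h) {x y : G} (hx : x ∈ Q) (hy : y ∈ Q) :
    ⁅h, x * y⁆ = ⁅h, x⁆ * ⁅h, y⁆ := comm_mul (hl y hy x hx)

theorem Lin.inv {Q : Subgroup G} {h : G} (hl : Lin Q h) {x : G} (hx : x ∈ Q) :
    ⁅h, x⁻¹⁆ = ⁅h, x⁆⁻¹ := by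
  have := hl.mul hx (Q.inv_mem hx)
  rw [mul_inv_cancel, commutatorElement_one_right] at this
  exact (inv_eq_of_mul_eq_one_right this.symm).symm

theorem Lin.swap {Q : Subgroup G} [hQ : Q.Normal] {h : G} (hl : Lin Q h) {g : G} (hc : g * h = h * g)
    {x : G} (hx : x ∈ Q) : ⁅h, ⁅g, x⁆⁆ = ⁅g, ⁅h, x⁆⁆ := by
  rw [commutatorElement_def g x, hl.mul (hQ.conj_mem x hx g) (Q.inv_mem hx), hl.inv hx,
    commutatorElement_def g ⁅h, x⁆, conjugate_commutatorElement, hc, mul_inv_cancel_right]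

theorem lin_of_comm {V : Subgroup G} [V.Normal] (hV : IsMulCommutative V) (h : G) : Lin V h :=
  fun _ hy => H51.isMulCommutative_iff_le_centralizer.1 hV (comm_mem_left h hy)

/-- the elements of `Q` whose commutators with `H` lie in `N` -/
def up (Q : Subgroup G) (H : Set G) (hl : ∀ h ∈ H, Lin Q h) (N : Subgroup G) : Subgroup G where
  carrier := {y | y ∈ Q ∧ ∀ h ∈ H, ⁅h, y⁆ ∈ N}
  mul_mem' := fun hx hy => ⟨Q.mul_mem hx.1 hy.1, fun h hh => by
    rw [(hl h hh).mul hx.1 hy.1]; exact N.mul_mem (hx.2 h hh) (hy.2 h hh)⟩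
  one_mem' := ⟨Q.one_mem, fun h _ => by rw [commutatorElement_one_right]; exact N.one_mem⟩
  inv_mem' := fun hx => ⟨Q.inv_mem hx.1, fun h hh => by
    rw [(hl h hh).inv hx.1]; exact N.inv_mem (hx.2 h hh)⟩

theorem mem_up {Q : Subgroup G} {H : Set G} {hl : ∀ h ∈ H, Lin Q h} {N : Subgroup G} {y : G} :
    y ∈ up Q H hl N ↔ y ∈ Q ∧ ∀ h ∈ H, ⁅h, y⁆ ∈ N := Iff.rfl

/-- the subgroup generated by the commutators of `x` with `A` -/
def cm (A : Subgroup G) (x : G) : Subgroup G := closure {m | ∃ c ∈ A, ⁅c, x⁆ = m}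

theorem mem_cm {A : Subgroup G} {c : G} (hc : c ∈ A) (x : G) : ⁅c, x⁆ ∈ cm A x :=
  subset_closure ⟨c, hc, rfl⟩

theorem cm_le {A N : Subgroup G} {x : G} (h : ∀ c ∈ A, ⁅c, x⁆ ∈ N) : cm A x ≤ N :=
  (closure_le _).2 (by rintro _ ⟨c, hc, rfl⟩; exact h c hc)

theorem le_norm_cm (A : Subgroup G) (x : G) : A ≤ normalizer (cm A x : Set G) := by
  rw [cm, le_normalizer_closure_iff]
  rintro c hc _ ⟨d, hd, rfl⟩
  have : c * ⁅d, x⁆ * c⁻¹ = ⁅c * d, x⁆ * ⁅c, x⁆⁻¹ := by rw [mul_comm_elt]; group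
  rw [this]
  exact mul_mem (mem_cm (A.mul_mem hc hd) x) (inv_mem (mem_cm hc x))

theorem comm_mem_cm {A : Subgroup G} {x a m : G} (ha : a ∈ A) (hm : m ∈ cm A x) :
    ⁅a, m⁆ ∈ cm A x :=
  mul_mem (H54.conj_mem_of_le_normalizer (le_norm_cm A x) ha hm) (inv_mem hm)

variable [Finite G]

theorem self_cen [Fact p.Prime] {B X : Subgroup G} (hB : MaxAb p B) (hX : IsPGroup p X) {x : G}
    (hx : x ∈ X) (hc : x ∈ centralizer (B : Set G)) : x ∈ B := by
  have h1 := hB.card_le (hX.to_le (zpowers_le.2 hx)) inferInstance le_rfl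
    (le_centralizer_iff.1 (zpowers_le.2 hc))
  rw [mul_comm] at h1
  have h2 := Nat.le_of_mul_le_mul_left h1 Nat.card_pos
  exact ((eq_of_le_of_card_ge inf_le_left h2).ge (mem_zpowers x)).2

theorem maxAb_sup {A E C : Subgroup G} (hA : MaxAb p A) (hE : IsPGroup p E)
    (hEc : IsMulCommutative E) (hCA : C ≤ A) (hC : C ≤ centralizer (E : Set G))
    (h : Nat.card A * Nat.card (E ⊓ C : Subgroup G) ≤ Nat.card E * Nat.card C) :
    MaxAb p (E ⊔ C) := by
  have hn : C ≤ normalizer (E : Set G) := hC.trans (centralizer_le_normalizer _)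
  refine ⟨?_, H51.isMulCommutative_sup hEc (H51.isMulCommutative_of_le hA.comm hCA) hC,
    fun X h1 h2 => (hA.max X h1 h2).trans ?_⟩
  · rw [sup_comm]; exact IsPGroup.to_sup_of_normal_right' (hA.pg.to_le hCA) hE hn
  · rw [mul_comm (Nat.card E), ← H3.card_sup_mul_card_inf_of_le_normalizer hn, inf_comm C,
      sup_comm C] at h
    exact Nat.le_of_mul_le_mul_right h Nat.card_pos

/-- Thompson's replacement -/
theorem th1 {A : Subgroup G} (hA : MaxAb p A) (x : G) (hMp : IsPGroup p (cm A x))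
    (hMc : IsMulCommutative (cm A x)) :
    MaxAb p (cm A x ⊔ (A ⊓ centralizer (cm A x : Set G))) := by
  have hAc := H51.isMulCommutative_iff_forall.1 hA.comm
  have hMc' := H51.isMulCommutative_iff_forall.1 hMc
  have hconj : ∀ c ∈ A, ∀ d ∈ A, c * ⁅d, x⁆ * c⁻¹ ∈ cm A x := fun c hc d hd =>
    H54.conj_mem_of_le_normalizer (le_norm_cm A x) hc (mem_cm hd x)
  have key : ∀ c ∈ A, ∀ d ∈ A, ⁅c, x⁆⁻¹ * ⁅c * d, x⁆ ∈ centralizer (A : Set G) →
      d ∈ centralizer (cm A x : Set G) := by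
    intro c hc d hd h
    have h1 : c * ⁅d, x⁆ * c⁻¹ ∈ centralizer (A : Set G) := by
      rwa [mul_comm_elt, hMc' _ (hconj c hc d hd) _ (mem_cm hc x), inv_mul_cancel_left] at h
    have h2 : ⁅d, x⁆ ∈ centralizer (A : Set G) := by
      have h3 := mem_centralizer_iff.1 h1 c hc
      have h4 : c * ⁅d, x⁆ * c⁻¹ = ⁅d, x⁆ := by
        have h5 : c * (c * ⁅d, x⁆ * c⁻¹) = c * ⁅d, x⁆ := by rw [h3]; group
        exact mul_left_cancel h5
      rwa [h4] at h1
    rw [cm, centralizer_closure, mem_centralizer_iff]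
    rintro _ ⟨e, he, rfl⟩
    have h5 := mul_comm_elt d e x
    have h6 := mul_comm_elt e d x
    rw [hAc e he d hd, h5, mem_centralizer_iff.1 h2 e he, mul_inv_cancel_right,
      hMc' _ (mem_cm hd x) _ (mem_cm he x)] at h6
    have h7 := mul_right_cancel h6
    calc ⁅e, x⁆ * d = d * ⁅e, x⁆ * d⁻¹ * d := by rw [h7]
      _ = d * ⁅e, x⁆ := by group
  set M := cm A x with hM
  set C := A ⊓ centralizer (M : Set G) with hC
  set E := M ⊓ centralizer (A : Set G) with hE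
  let h : A ⧸ C.subgroupOf A → M ⧸ E.subgroupOf M := fun q =>
    QuotientGroup.mk ⟨⁅((q.out : A) : G), x⁆, mem_cm q.out.2 x⟩
  have hinj : Function.Injective h := by
    intro q q' hq
    rw [← QuotientGroup.out_eq' q, ← QuotientGroup.out_eq' q', QuotientGroup.eq, mem_subgroupOf]
    have h1 := (mem_subgroupOf.1 (QuotientGroup.eq.1 hq)).2
    have h2 : ((q.out⁻¹ * q'.out : A) : G) ∈ A := (q.out⁻¹ * q'.out).2
    refine ⟨h2, key _ q.out.2 _ h2 ?_⟩
    simpa using h1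
  have h1 := Nat.card_le_card_of_injective h hinj
  have h2 : Nat.card (M ⊓ C : Subgroup G) ≤ Nat.card E :=
    card_le_of_le (inf_le_inf_left _ (inf_le_left.trans
      (H51.isMulCommutative_iff_le_centralizer.1 hA.comm)))
  have h3 := card_eq_card_quotient_mul_card_subgroup (E.subgroupOf M)
  have h4 := card_eq_card_quotient_mul_card_subgroup (C.subgroupOf A)
  rw [Nat.card_congr (subgroupOfEquivOfLe (inf_le_left : E ≤ M)).toEquiv] at h3
  rw [Nat.card_congr (subgroupOfEquivOfLe (inf_le_left : C ≤ A)).toEquiv] at h4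
  refine maxAb_sup hA hMp hMc inf_le_left inf_le_right ?_
  rw [h3, h4]
  calc _ ≤ Nat.card (M ⧸ E.subgroupOf M) * Nat.card C * Nat.card E :=
        Nat.mul_le_mul (Nat.mul_le_mul_right _ h1) h2
    _ = _ := by ring

/-- replacement for an abelian normal subgroup -/
theorem tr {A V : Subgroup G} [V.Normal] (hA : MaxAb p A) (hV : IsPGroup p V)
    (hVc : IsMulCommutative V) : ∃ E C : Subgroup G, E ≤ V ∧ C ≤ A ∧ ⁅V, A⁆ ≤ E ∧ A ⊓ V ≤ C ∧
      C ≤ centralizer (E : Set G) ∧ MaxAb p (E ⊔ C) := by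
  have hVV := H51.isMulCommutative_iff_le_centralizer.1 hVc
  have hAA := H51.isMulCommutative_iff_le_centralizer.1 hA.comm
  let P : Subgroup G × Subgroup G → Prop := fun z => A ⊓ V ≤ z.1 ∧ z.1 ≤ V ∧ A ⊓ V ≤ z.2 ∧ z.2 ≤ A ∧
    z.2 ≤ centralizer (z.1 : Set G) ∧
    Nat.card A * Nat.card (A ⊓ V : Subgroup G) ≤ Nat.card z.1 * Nat.card z.2
  have hjoin : ∀ z w, P z → P w → P (z.1 ⊔ w.1, z.2 ⊓ w.2) := by
    rintro ⟨E, C⟩ ⟨E', C'⟩ ⟨a1, a2, a3, a4, a5, a6⟩ ⟨b1, b2, b3, b4, b5, b6⟩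
    dsimp only at *
    refine ⟨a1.trans le_sup_left, sup_le a2 b2, le_inf a3 b3, inf_le_left.trans a4,
      le_centralizer_iff.1 (sup_le (le_centralizer_iff.1 (inf_le_left.trans a5))
        (le_centralizer_iff.1 (inf_le_right.trans b5))), ?_⟩
    have h1 := hA.card_le (X := E ⊓ E') (C := C ⊔ C') (hV.to_le (inf_le_left.trans a2))
      (H51.isMulCommutative_of_le hVc (inf_le_left.trans a2)) (sup_le a4 b4)
      (sup_le (a5.trans (centralizer_le inf_le_left)) (b5.trans (centralizer_le inf_le_right)))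
    have h2 : Nat.card ((E ⊓ E') ⊓ (C ⊔ C') : Subgroup G) ≤ Nat.card (A ⊓ V : Subgroup G) :=
      card_le_of_le (le_inf (inf_le_right.trans (sup_le a4 b4))
        (inf_le_left.trans (inf_le_left.trans a2)))
    have h3 := H3.card_sup_mul_card_inf_of_le_normalizer (H := E) (N := E')
      (a2.trans (hVV.trans ((centralizer_le b2).trans (centralizer_le_normalizer _))))
    have h4 := H3.card_sup_mul_card_inf_of_le_normalizer (H := C) (N := C')
      (a4.trans (hAA.trans ((centralizer_le b4).trans (centralizer_le_normalizer _))))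
    have h5 := h1.trans (Nat.mul_le_mul_left _ h2)
    refine Nat.le_of_mul_le_mul_right (c := Nat.card A * Nat.card (A ⊓ V : Subgroup G)) ?_
      (Nat.mul_pos Nat.card_pos Nat.card_pos)
    calc _ ≤ Nat.card E * Nat.card C * (Nat.card E' * Nat.card C') := Nat.mul_le_mul a6 b6
      _ = Nat.card E * Nat.card E' * (Nat.card C * Nat.card C') := by ring
      _ = Nat.card (E ⊔ E' : Subgroup G) * Nat.card (C ⊓ C' : Subgroup G) *
          (Nat.card (E ⊓ E' : Subgroup G) * Nat.card (C ⊔ C' : Subgroup G)) := by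
        rw [← h3, ← h4]; ring
      _ ≤ _ := Nat.mul_le_mul_left _ h5
  have hx : ∀ x ∈ V, P (cm A x ⊔ A ⊓ V, A ⊓ centralizer (cm A x : Set G)) := by
    intro x hx
    have hM : cm A x ≤ V := cm_le fun c _ => comm_mem_left c hx
    have h0 : A ⊓ V ≤ A ⊓ centralizer (cm A x : Set G) :=
      inf_le_inf_left _ (hVV.trans (centralizer_le hM))
    have h1 : A ⊓ centralizer (cm A x : Set G) ≤ centralizer ((cm A x ⊔ A ⊓ V : Subgroup G) : Set G) :=
      le_centralizer_iff.1 (sup_le (le_centralizer_iff.1 inf_le_right)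
        (inf_le_left.trans (hAA.trans (centralizer_le inf_le_left))))
    refine ⟨le_sup_right, sup_le hM inf_le_right, h0, inf_le_left, h1, ?_⟩
    have h2 := th1 hA x (hV.to_le hM) (H51.isMulCommutative_of_le hVc hM)
    have h3 := H3.card_sup_mul_card_inf_of_le_normalizer (h1.trans (centralizer_le_normalizer _))
    dsimp only
    rw [mul_comm (Nat.card (cm A x ⊔ A ⊓ V : Subgroup G)), ← h3]
    refine Nat.mul_le_mul ((h2.max A hA.pg hA.comm).trans (card_le_of_le ?_))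
      (card_le_of_le (le_inf h0 le_sup_right))
    exact sup_le (le_sup_left.trans le_sup_right) le_sup_left
  obtain ⟨⟨E, C⟩, hz, hmax⟩ := Set.exists_max_image {z | P z} (fun z => Nat.card z.1)
    (Set.toFinite _) ⟨(A ⊓ V, A), le_rfl, inf_le_right, inf_le_left, le_rfl,
      hAA.trans (centralizer_le inf_le_left), (mul_comm _ _).le⟩
  have hz' := hz
  obtain ⟨a1, a2, a3, a4, a5, a6⟩ := hz'
  dsimp only at a1 a2 a3 a4 a5 a6
  refine ⟨E, C, a2, a4, comm_le fun a ha y hy => ?_, a3, a5,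
    maxAb_sup hA (hV.to_le a2) (H51.isMulCommutative_of_le hVc a2) a4 a5
      (le_trans (Nat.mul_le_mul_left _ (card_le_of_le
        (le_inf (inf_le_right.trans a4) (inf_le_left.trans a2)))) a6)⟩
  have h1 := hmax _ (hjoin _ _ hz (hx y hy))
  exact (eq_of_le_of_card_ge le_sup_left h1).ge (mem_sup_right (mem_sup_left (mem_cm ha y)))

end Cfsg.Agent.H78.JSix
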