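/-
Certificate: the stable extension.
-/
import Mathlib
import Cfsg.Agent.H78.MulChev

set_option autoImplicit false
set_option maxRecDepth 100000

namespace Cfsg.Agent.H78.Mul.E62

open Cfsg.Lie Cfsg.Agent.H42 Cfsg.Agent.H46 Cfsg.Agent.H74 Cfsg.Agent.H37

/-- Tails of the full unipotent group. -/
def tT0 : List (List (List ℕ)) :=
  [[[], [], [4], [5], [], [], [], [], [10], [11], [], [], [], [], [], [], [18], [19], [], [], [],
    [], [], [], [26], [27], [], [], [], [], [32], [33], [], [], [36], [37], [], [], [], [], [],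
    [], [], [], [], [], [48], [49], [], [], [], [], [54], [55], [], [], [58], [59], [], [], [],
    [], [64], [65], [], [], [], [], [], [], [], []],
   [[], [5], [4, 5], [], [], [], [], [11], [10, 11], [], [], [], [], [], [], [19], [18, 19], [],
    [], [], [], [], [], [27], [26, 27], [], [], [], [], [33], [32, 33], [], [], [37], [36, 37],
    [], [], [], [], [], [], [], [], [], [], [49], [48, 49], [], [], [], [], [55], [54, 55], [],
    [], [59], [58, 59], [], [], [], [], [65], [64, 65], [], [], [], [], [], [], [], []],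
   [[], [], [], [], [8], [9], [], [], [], [], [], [], [16], [17], [], [], [], [], [], [], [24],
    [25], [], [], [], [], [30], [31], [], [], [], [], [], [], [38], [39], [], [], [], [], [],
    [], [46], [47], [], [], [], [], [52], [53], [], [], [], [], [], [], [60], [61], [], [], [],
    [], [66], [67], [], [], [], [], [], []],
   [[], [], [], [9], [8, 9], [], [], [], [], [], [], [17], [16, 17], [], [], [], [], [], [], [25],
    [24, 25], [], [], [], [], [31], [30, 31], [], [], [], [], [], [], [39], [38, 39], [], [],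
    [], [], [], [], [47], [46, 47], [], [], [], [], [53], [52, 53], [], [], [], [], [], [],
    [61], [60, 61], [], [], [], [], [67], [66, 67], [], [], [], [], [], []],
   [[], [], [10], [11], [], [], [], [], [], [], [18], [19], [], [], [], [], [], [], [26], [27], [],
    [], [], [], [32], [33], [], [], [], [], [38], [39], [], [], [], [], [], [], [], [], [48],
    [49], [], [], [], [], [54], [55], [], [], [], [], [60], [61], [], [], [], [], [66], [67],
    [], [], [], [], [], [], [], []],
   [[], [11], [10, 11], [], [], [], [], [], [], [19], [18, 19], [], [], [], [], [], [], [27], [26,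
    27], [], [], [], [], [33], [32, 33], [], [], [], [], [39], [38, 39], [], [], [], [], [], [],
    [], [], [49], [48, 49], [], [], [], [], [55], [54, 55], [], [], [], [], [61], [60, 61], [],
    [], [], [], [67], [66, 67], [], [], [], [], [], [], [], []],
   [[], [], [], [], [], [], [14], [15], [], [], [], [], [], [], [22], [23], [], [], [], [], [], [],
    [], [], [34], [35], [36], [37], [], [], [], [], [], [], [], [], [44], [45], [], [], [], [],
    [], [], [], [], [56], [57], [58], [59], [], [], [], [], [], [], [], [], [], [], [68], [69],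
    [], [], [], []],
   [[], [], [], [], [], [15], [14, 15], [], [], [], [], [], [], [23], [22, 23], [], [], [], [], [],
    [], [], [], [35], [34, 35], [37], [36, 37], [], [], [], [], [], [], [], [], [45], [44, 45],
    [], [], [], [], [], [], [], [], [57], [56, 57], [59], [58, 59], [], [], [], [], [], [], [],
    [], [], [], [69], [68, 69], [], [], [], []],
   [[], [], [], [], [16], [17], [], [], [], [], [], [], [24], [25], [], [], [], [], [], [], [34],
    [35], [], [], [38], [39], [], [], [], [], [], [], [], [], [46], [47], [], [], [], [], [],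
    [], [56], [57], [], [], [60], [61], [], [], [], [], [], [], [], [], [68], [69], [], [], [],
    [], [], []],
   [[], [], [], [17], [16, 17], [], [], [], [], [], [], [25], [24, 25], [], [], [], [], [], [],
    [35], [34, 35], [], [], [39], [38, 39], [], [], [], [], [], [], [], [], [47], [46, 47], [],
    [], [], [], [], [], [57], [56, 57], [], [], [61], [60, 61], [], [], [], [], [], [], [], [],
    [69], [68, 69], [], [], [], [], [], []],
   [[], [], [18], [19], [], [], [], [], [], [], [26], [27], [], [], [], [], [], [], [36], [37],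
    [38], [39], [], [], [], [], [], [], [], [], [], [], [48], [49], [], [], [], [], [], [],
    [58], [59], [60], [61], [], [], [], [], [], [], [], [], [68], [69], [], [], [], [], [], [],
    [], []],
   [[], [19], [18, 19], [], [], [], [], [], [], [27], [26, 27], [], [], [], [], [], [], [37], [36,
    37], [39], [38, 39], [], [], [], [], [], [], [], [], [], [], [49], [48, 49], [], [], [], [],
    [], [], [59], [58, 59], [61], [60, 61], [], [], [], [], [], [], [], [], [69], [68, 69], [],
    [], [], [], [], [], [], []],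
   [[], [], [], [], [], [], [], [], [], [], [28], [29], [30], [31], [32], [33], [], [], [], [], [],
    [], [], [], [], [], [], [], [42], [43], [], [], [], [], [], [], [], [], [], [], [], [], [],
    [], [62], [63], [64], [65], [66], [67], [], [], [], [], [], [], [], [], [], []],
   [[], [], [], [], [], [], [], [], [], [29], [28, 29], [31], [30, 31], [33], [32, 33], [], [], [],
    [], [], [], [], [], [], [], [], [], [43], [42, 43], [], [], [], [], [], [], [], [], [], [],
    [], [], [], [], [63], [62, 63], [65], [64, 65], [67], [66, 67], [], [], [], [], [], [], [],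
    [], [], []],
   [[], [], [], [], [], [], [28], [29], [], [], [34], [35], [36], [37], [], [], [], [], [], [], [],
    [], [], [], [], [], [44], [45], [], [], [], [], [], [], [], [], [], [], [62], [63], [64],
    [65], [], [], [], [], [68], [69], [], [], [], [], [], [], [], [], [], []],
   [[], [], [], [], [], [29], [28, 29], [], [], [35], [34, 35], [37], [36, 37], [], [], [], [], [],
    [], [], [], [], [], [], [], [45], [44, 45], [], [], [], [], [], [], [], [], [], [], [63],
    [62, 63], [65], [64, 65], [], [], [], [], [69], [68, 69], [], [], [], [], [], [], [], [],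
    [], []],
   [[], [], [], [], [30], [31], [34], [35], [], [], [38], [39], [], [], [], [], [], [], [], [], [],
    [], [], [], [46], [47], [], [], [], [], [], [], [], [], [62], [63], [], [], [66], [67], [],
    [], [68], [69], [], [], [], [], [], [], [], [], [], [], [], []],
   [[], [], [], [31], [30, 31], [35], [34, 35], [], [], [39], [38, 39], [], [], [], [], [], [], [],
    [], [], [], [], [], [47], [46, 47], [], [], [], [], [], [], [], [], [63], [62, 63], [], [],
    [67], [66, 67], [], [], [69], [68, 69], [], [], [], [], [], [], [], [], [], [], [], []],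
   [[], [], [32], [33], [36], [37], [38], [39], [], [], [], [], [], [], [], [], [], [], [], [], [],
    [], [48], [49], [], [], [], [], [], [], [], [], [64], [65], [66], [67], [], [], [68], [69],
    [], [], [], [], [], [], [], [], [], [], [], [], [], []],
   [[], [33], [32, 33], [37], [36, 37], [39], [38, 39], [], [], [], [], [], [], [], [], [], [], [],
    [], [], [], [49], [48, 49], [], [], [], [], [], [], [], [], [65], [64, 65], [67], [66, 67],
    [], [], [69], [68, 69], [], [], [], [], [], [], [], [], [], [], [], [], [], []],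
   [[], [], [], [], [], [], [], [], [], [], [], [], [], [], [], [], [], [], [], [], [], [], [], [],
    [50], [51], [52], [53], [54], [55], [], [], [], [], [], [], [], [], [], [], [], [], [], [],
    [], [], [], [], [70], [71], [], []],
   [[], [], [], [], [], [], [], [], [], [], [], [], [], [], [], [], [], [], [], [], [], [], [],
    [51], [50, 51], [53], [52, 53], [55], [54, 55], [], [], [], [], [], [], [], [], [], [], [],
    [], [], [], [], [], [], [], [71], [70, 71], [], []],
   [[], [], [], [], [], [], [], [], [], [], [], [], [], [], [], [], [], [], [], [], [50], [51], [],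
    [], [56], [57], [58], [59], [], [], [], [], [], [], [], [], [], [], [], [], [], [], [], [],
    [70], [71], [], [], [], []],
   [[], [], [], [], [], [], [], [], [], [], [], [], [], [], [], [], [], [], [], [51], [50, 51], [],
    [], [57], [56, 57], [59], [58, 59], [], [], [], [], [], [], [], [], [], [], [], [], [], [],
    [], [], [71], [70, 71], [], [], [], []],
   [[], [], [], [], [], [], [], [], [], [], [], [], [], [], [], [], [], [], [52], [53], [56], [57],
    [], [], [60], [61], [], [], [], [], [], [], [], [], [], [], [], [], [], [], [70], [71], [],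
    [], [], [], [], []],
   [[], [], [], [], [], [], [], [], [], [], [], [], [], [], [], [], [], [53], [52, 53], [57], [56,
    57], [], [], [61], [60, 61], [], [], [], [], [], [], [], [], [], [], [], [], [], [], [71],
    [70, 71], [], [], [], [], [], []],
   [[], [], [], [], [], [], [], [], [], [], [], [], [], [], [], [], [54], [55], [58], [59], [60],
    [61], [], [], [], [], [], [], [], [], [], [], [], [], [], [], [70], [71], [], [], [], [],
    [], [], [], []],
   [[], [], [], [], [], [], [], [], [], [], [], [], [], [], [], [55], [54, 55], [59], [58, 59],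
    [61], [60, 61], [], [], [], [], [], [], [], [], [], [], [], [], [], [], [71], [70, 71], [],
    [], [], [], [], [], [], []],
   [[], [], [], [], [], [], [], [], [], [], [], [], [50], [51], [], [], [], [], [62], [63], [64],
    [65], [], [], [], [], [], [], [], [], [], [], [70], [71], [], [], [], [], [], [], [], [],
    [], []],
   [[], [], [], [], [], [], [], [], [], [], [], [51], [50, 51], [], [], [], [], [63], [62, 63],
    [65], [64, 65], [], [], [], [], [], [], [], [], [], [], [71], [70, 71], [], [], [], [], [],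
    [], [], [], [], []],
   [[], [], [], [], [], [], [], [], [], [], [52], [53], [], [], [62], [63], [], [], [66], [67], [],
    [], [], [], [], [], [], [], [70], [71], [], [], [], [], [], [], [], [], [], [], [], []],
   [[], [], [], [], [], [], [], [], [], [53], [52, 53], [], [], [63], [62, 63], [], [], [67], [66,
    67], [], [], [], [], [], [], [], [], [71], [70, 71], [], [], [], [], [], [], [], [], [], [],
    [], []],
   [[], [], [], [], [], [], [], [], [54], [55], [], [], [64], [65], [66], [67], [], [], [], [], [],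
    [], [], [], [70], [71], [], [], [], [], [], [], [], [], [], [], [], [], [], []],
   [[], [], [], [], [], [], [], [55], [54, 55], [], [], [65], [64, 65], [67], [66, 67], [], [], [],
    [], [], [], [], [], [71], [70, 71], [], [], [], [], [], [], [], [], [], [], [], [], [], []],
   [[], [], [], [], [], [], [56], [57], [62], [63], [], [], [], [], [68], [69], [], [], [], [],
    [70], [71], [], [], [], [], [], [], [], [], [], [], [], [], [], [], [], []],
   [[], [], [], [], [], [57], [56, 57], [63], [62, 63], [], [], [], [], [69], [68, 69], [], [], [],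
    [], [71], [70, 71], [], [], [], [], [], [], [], [], [], [], [], [], [], [], [], []],
   [[], [], [], [], [58], [59], [64], [65], [], [], [68], [69], [], [], [], [], [70], [71], [], [],
    [], [], [], [], [], [], [], [], [], [], [], [], [], [], [], []],
   [[], [], [], [59], [58, 59], [65], [64, 65], [], [], [69], [68, 69], [], [], [], [], [71], [70,
    71], [], [], [], [], [], [], [], [], [], [], [], [], [], [], [], [], [], []],
   [[], [], [60], [61], [66], [67], [68], [69], [], [], [], [], [70], [71], [], [], [], [], [], [],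
    [], [], [], [], [], [], [], [], [], [], [], [], [], []],
   [[], [61], [60, 61], [67], [66, 67], [69], [68, 69], [], [], [], [], [71], [70, 71], [], [], [],
    [], [], [], [], [], [], [], [], [], [], [], [], [], [], [], [], []],
   [[], [], [], [], [], [], [], [], [], [], [], [], [], [], [], [], [], [], [], [], [], [], [], [],
    [], [], [], [], [], [], [], []],
   [[], [], [], [], [], [], [], [], [], [], [], [], [], [], [], [], [], [], [], [], [], [], [], [],
    [], [], [], [], [], [], []],
   [[], [], [], [], [], [], [], [], [], [], [], [], [], [], [], [], [], [], [], [], [], [], [], [],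
    [], [], [], [], [], []],
   [[], [], [], [], [], [], [], [], [], [], [], [], [], [], [], [], [], [], [], [], [], [], [], [],
    [], [], [], [], []],
   [[], [], [], [], [], [], [], [], [], [], [], [], [], [], [], [], [], [], [], [], [], [], [], [],
    [], [], [], []],
   [[], [], [], [], [], [], [], [], [], [], [], [], [], [], [], [], [], [], [], [], [], [], [], [],
    [], [], []],
   [[], [], [], [], [], [], [], [], [], [], [], [], [], [], [], [], [], [], [], [], [], [], [], [],
    [], []],
   [[], [], [], [], [], [], [], [], [], [], [], [], [], [], [], [], [], [], [], [], [], [], [], [],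
    []],
   [[], [], [], [], [], [], [], [], [], [], [], [], [], [], [], [], [], [], [], [], [], [], [], []],
   [[], [], [], [], [], [], [], [], [], [], [], [], [], [], [], [], [], [], [], [], [], [], []],
   [[], [], [], [], [], [], [], [], [], [], [], [], [], [], [], [], [], [], [], [], [], []],
   [[], [], [], [], [], [], [], [], [], [], [], [], [], [], [], [], [], [], [], [], []],
   [[], [], [], [], [], [], [], [], [], [], [], [], [], [], [], [], [], [], [], []],
   [[], [], [], [], [], [], [], [], [], [], [], [], [], [], [], [], [], [], []],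
   [[], [], [], [], [], [], [], [], [], [], [], [], [], [], [], [], [], []],
   [[], [], [], [], [], [], [], [], [], [], [], [], [], [], [], [], []],
   [[], [], [], [], [], [], [], [], [], [], [], [], [], [], [], []],
   [[], [], [], [], [], [], [], [], [], [], [], [], [], [], []],
   [[], [], [], [], [], [], [], [], [], [], [], [], [], []],
   [[], [], [], [], [], [], [], [], [], [], [], [], []],
   [[], [], [], [], [], [], [], [], [], [], [], []],
   [[], [], [], [], [], [], [], [], [], [], []],
   [[], [], [], [], [], [], [], [], [], []],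
   [[], [], [], [], [], [], [], [], []],
   [[], [], [], [], [], [], [], []],
   [[], [], [], [], [], [], []],
   [[], [], [], [], [], []],
   [[], [], [], [], []],
   [[], [], [], []],
   [[], [], []],
   [[], []],
   [[]]]

/-- Tails of the extension. -/
def tT : List (List (List ℕ)) :=
  [[[], [], [4], [5, 36, 37], [], [], [], [9, 37], [10, 36, 37], [], [], [12, 28], [], [28], [],
    [], [18, 37], [19, 36, 37], [], [], [21, 29], [], [29], [24, 30], [], [30], [31, 37], [32],
    [], [], [], [], [], [], [], [], [], []],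
   [[], [5, 36], [4, 5], [], [], [], [10, 36], [9, 10, 37], [], [], [13, 28, 36], [28], [], [], [],
    [19, 36], [18, 19, 37], [], [], [22, 29, 36], [29], [], [25, 30, 36], [30], [], [31, 32],
    [31, 36], [], [], [], [], [], [], [], [], [], []],
   [[], [], [], [], [7, 11], [], [11], [12, 37], [13], [], [], [], [], [16, 20], [], [20], [21,
    37], [22], [], [], [], [], [26], [27], [], [], [], [], [31, 33], [], [33], [], [], [], [],
    []],
   [[], [], [], [8, 11], [11], [], [12, 13], [12, 36, 37], [], [], [], [], [17, 20], [20], [], [21,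
    22], [21, 36, 37], [], [], [], [], [27, 37], [26, 27, 36], [], [], [], [], [32, 33, 36, 37],
    [33], [], [], [], [], [], []],
   [[], [], [9, 28], [12, 37], [12, 13], [], [28], [], [], [], [], [18, 29], [21, 37], [21, 22],
    [], [29], [], [], [], [26, 33, 37], [31, 37], [31, 32], [], [33], [], [], [], [], [], [],
    [], [], [], []],
   [[], [10, 28], [13], [12, 36, 37], [28], [], [], [], [], [], [19, 29], [22], [21, 36, 37], [29],
    [], [], [], [], [27, 33, 36], [32], [31, 36], [33], [], [], [], [], [], [], [], [], [], [],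
    []],
   [[], [], [], [], [], [], [], [], [15], [], [], [], [], [], [23], [24, 35], [25, 35, 36], [], [],
    [], [], [], [], [30], [], [], [], [34], [], [], [], []],
   [[], [], [], [], [], [], [], [16, 23], [], [], [23], [24, 37], [25], [], [26], [27], [], [], [],
    [], [], [], [31, 34], [], [], [34], [], [], [], [], []],
   [[], [], [], [], [], [], [17, 23], [], [23], [], [24, 25], [24, 36, 37], [], [27, 37], [26, 27,
    36], [], [], [], [], [], [], [32, 34, 36, 37], [], [34], [], [], [], [], [], []],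
   [[], [], [], [], [], [18, 30], [], [24, 37], [24, 25], [], [30], [26, 34, 37], [31, 37], [31,
    32], [], [], [], [], [34], [], [], [], [], [], [], [], [], [], []],
   [[], [], [], [], [19, 30], [], [25], [24, 36, 37], [30], [], [27, 34, 36], [32], [31, 36], [],
    [], [], [34], [], [], [], [], [], [], [], [], [], [], []],
   [[], [], [], [20], [23], [], [], [26, 35, 37], [27, 35, 36], [], [], [], [], [], [], [], [], [],
    [33], [34], [], [], [], [], [], [], []],
   [[], [], [21, 33], [24, 34], [26], [27, 37], [31, 37], [32], [], [], [33], [], [], [34], [], [],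
    [], [], [], [], [], [], [], [], [], []],
   [[], [22, 33, 36], [25, 34, 36], [27], [26, 27, 36], [31, 32], [31, 36], [], [33], [], [], [34],
    [], [], [], [], [], [], [], [], [], [], [], [], []],
   [[], [], [], [], [], [], [], [], [], [], [], [], [], [], [29], [], [], [], [], [], [35], [], [],
    []],
   [[], [], [], [], [], [], [], [], [], [], [], [], [], [30], [], [], [], [], [35], [], [], [], []],
   [[], [], [], [], [], [], [], [], [], [], [], [], [31, 35], [], [], [], [35], [], [], [], [], []],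
   [[], [], [], [], [], [], [], [], [], [], [], [32, 35, 36, 37], [], [], [35], [], [], [], [], [],
    []],
   [[], [], [], [], [], [], [], [], [], [35], [], [], [], [], [], [], [], [], [], []],
   [[], [], [], [], [], [], [], [35], [], [], [], [], [], [], [], [], [], [], []],
   [[], [], [], [], [], [], [], [], [33], [], [35], [], [], [], [], [], [], []],
   [[], [], [], [], [35], [], [], [], [], [], [], [], [], [], [], [], []],
   [[], [], [35], [], [], [], [], [], [], [], [], [], [], [], [], []],
   [[], [], [], [], [], [34], [35], [], [], [], [], [], [], [], []],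
   [[], [], [], [], [], [], [], [], [], [], [], [], [], []],
   [[], [], [], [], [], [], [], [], [], [], [], [], []],
   [[], [], [], [], [], [], [], [], [], [], [], []],
   [[], [], [], [], [], [], [], [], [], [], []],
   [[], [], [], [], [], [], [], [], [], []],
   [[], [], [], [], [], [], [], [], []],
   [[], [], [], [], [], [], [], []],
   [[], [], [], [], [], [], []],
   [[], [], [], [], [], []],
   [[], [], [], [], []],
   [[], [], [], []],
   [[], [], []],
   [[], []],
   [[]]]

/-- Images of the letters under the lifts. -/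
def tI : List (List (List ℕ)) :=
  [[[0], [1], [2], [3], [4], [5], [15], [16], [17], [18], [19], [20], [21], [22], [], [6], [7],
    [8], [9], [10], [11], [12], [13], [23], [24], [25], [26], [27], [29], [28], [30], [31],
    [32], [33], [35], [34], [36], [37]],
   [[0], [1], [7], [8], [9, 37], [10], [], [2], [3], [4, 37], [5], [11], [12], [13], [15], [14],
    [16], [17], [18], [19], [23], [24], [25], [20], [21], [22], [26], [27], [28], [30], [29],
    [31], [32], [34], [33], [35], [36], [37]],
   [[4], [5], [], [], [0], [1], [11], [7], [7, 8], [12], [13, 36], [6], [9], [10, 36], [14], [20],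
    [16], [16, 17], [21], [22, 36], [15], [18], [19, 36], [23], [26, 37], [27], [24, 37], [25],
    [28], [29], [33], [31], [31, 32], [30], [34], [35], [36], [37]],
   [[], [], [4], [5], [2], [3], [6], [9], [10], [7], [8], [28], [12], [12, 13], [14], [15], [18],
    [19], [16], [17], [29], [21], [21, 22], [30], [24], [24, 25], [31, 37], [32, 37], [11],
    [20], [23], [26, 37], [27, 37], [33], [34], [35], [36], [37]],
   [[1], [0, 1], [3], [2, 3], [4, 5], [4, 37], [6], [8], [7, 8], [9, 10], [9], [11], [13, 36], [12,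
    13], [14], [15], [17], [16, 17], [18, 19], [18], [20], [22, 36], [21, 22], [23], [25, 36],
    [24, 25], [26, 27, 36], [26, 36, 37], [28], [29], [30], [32, 36, 37], [31, 32], [33], [34],
    [35], [36], [37]],
   [[1], [0, 1], [3], [2, 3], [4, 5], [4, 37], [6], [8], [7, 8], [9, 10], [9], [11], [13, 36], [12,
    13], [14], [15], [17], [16, 17], [18, 19], [18], [20], [22, 36], [21, 22], [23], [25, 36],
    [24, 25], [26, 27, 36], [26, 36, 37], [28], [29], [30], [32, 36, 37], [31, 32], [33], [34],
    [35], [36], [37]]]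

/-- Permutations of the roots. -/
def tP : List (List ℕ) :=
  [[1, 0, 2, 3, 4, 5, 6, 7, 11, 12, 13, 8, 9, 10, 14, 15, 16, 17, 18, 26, 27, 28, 30, 31, 32, 46,
    19, 20, 21, 29, 22, 23, 24, 33, 34, 35, 36, 37, 38, 47, 48, 49, 42, 50, 51, 52, 25, 39, 40,
    41, 43, 44, 45, 53, 54, 55, 56, 57, 61, 62, 63, 58, 59, 60, 64, 65, 66, 67, 68, 69, 71, 70],
   [0, 2, 1, 3, 4, 5, 8, 9, 6, 7, 10, 11, 12, 14, 13, 15, 16, 19, 20, 17, 18, 21, 22, 23, 25, 24,
    26, 27, 29, 28, 33, 34, 39, 30, 31, 35, 36, 40, 41, 32, 37, 38, 43, 42, 44, 45, 47, 46, 48,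
    49, 50, 53, 54, 51, 52, 55, 56, 58, 57, 59, 60, 61, 64, 65, 62, 63, 66, 67, 68, 70, 69, 71],
   [0, 1, 6, 5, 7, 3, 2, 4, 8, 10, 9, 11, 13, 12, 15, 14, 17, 16, 18, 22, 24, 23, 19, 21, 20, 25,
    30, 32, 31, 42, 26, 28, 27, 35, 37, 33, 38, 34, 36, 44, 43, 45, 29, 40, 39, 41, 46, 51, 50,
    52, 48, 47, 49, 53, 55, 54, 57, 56, 59, 58, 60, 62, 61, 63, 67, 69, 68, 64, 66, 65, 70, 71],
   [0, 1, 2, 4, 3, 16, 18, 17, 20, 19, 21, 27, 26, 28, 29, 56, 5, 7, 6, 9, 8, 10, 23, 22, 24, 25,
    12, 11, 13, 14, 31, 30, 32, 34, 33, 36, 35, 38, 37, 39, 41, 40, 57, 58, 60, 59, 46, 47, 49,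
    48, 61, 63, 62, 65, 64, 66, 15, 42, 43, 45, 44, 50, 52, 51, 54, 53, 55, 68, 67, 69, 70, 71],
   [0, 1, 2, 3, 4, 5, 6, 7, 8, 9, 10, 11, 12, 13, 14, 15, 16, 17, 18, 19, 20, 21, 22, 23, 24, 25,
    26, 27, 28, 29, 30, 31, 32, 33, 34, 35, 36, 37, 38, 39, 40, 41, 42, 43, 44, 45, 46, 47, 48,
    49, 50, 51, 52, 53, 54, 55, 56, 57, 58, 59, 60, 61, 62, 63, 64, 65, 66, 67, 68, 69, 70, 71],
   [0, 1, 2, 3, 4, 5, 6, 7, 8, 9, 10, 11, 12, 13, 14, 15, 16, 17, 18, 19, 20, 21, 22, 23, 24, 25,
    26, 27, 28, 29, 30, 31, 32, 33, 34, 35, 36, 37, 38, 39, 40, 41, 42, 43, 44, 45, 46, 47, 48,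
    49, 50, 51, 52, 53, 54, 55, 56, 57, 58, 59, 60, 61, 62, 63, 64, 65, 66, 67, 68, 69, 70, 71]]

/-- Signs. -/
def tC : List (List ℕ) :=
  [[1, 1, 1, 1, 1, 1, 1, 1, 1, 1, 1, 1, 1, 1, 1, 1, 1, 1, 1, 1, 1, 1, 1, 1, 1, 1, 1, 1, 1, 1, 1, 1,
    1, 1, 1, 1, 1, 1, 1, 1, 1, 1, 1, 1, 1, 1, 1, 1, 1, 1, 1, 1, 1, 1, 1, 1, 1, 1, 1, 1, 1, 1, 1,
    1, 1, 1, 1, 1, 1, 1, 1, 1],
   [1, 1, 1, 1, 1, 1, 1, 1, 1, 1, 1, 1, 1, 1, 1, 1, 1, 1, 1, 1, 1, 1, 1, 1, 1, 1, 1, 1, 1, 1, 1, 1,
    1, 1, 1, 1, 1, 1, 1, 1, 1, 1, 1, 1, 1, 1, 1, 1, 1, 1, 1, 1, 1, 1, 1, 1, 1, 1, 1, 1, 1, 1, 1,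
    1, 1, 1, 1, 1, 1, 1, 1, 1],
   [1, 1, 1, 1, 1, 1, 1, 1, 1, 1, 1, 1, 1, 1, 1, 1, 1, 1, 1, 1, 1, 1, 1, 1, 1, 1, 1, 1, 1, 1, 1, 1,
    1, 1, 1, 1, 1, 1, 1, 1, 1, 1, 1, 1, 1, 1, 1, 1, 1, 1, 1, 1, 1, 1, 1, 1, 1, 1, 1, 1, 1, 1, 1,
    1, 1, 1, 1, 1, 1, 1, 1, 1],
   [1, 1, 1, 1, 1, 1, 1, 1, 1, 1, 1, 1, 1, 1, 1, 1, 1, 1, 1, 1, 1, 1, 1, 1, 1, 1, 1, 1, 1, 1, 1, 1,
    1, 1, 1, 1, 1, 1, 1, 1, 1, 1, 1, 1, 1, 1, 1, 1, 1, 1, 1, 1, 1, 1, 1, 1, 1, 1, 1, 1, 1, 1, 1,
    1, 1, 1, 1, 1, 1, 1, 1, 1],
   [1, 1, 1, 1, 1, 1, 1, 1, 1, 1, 1, 1, 1, 1, 1, 1, 1, 1, 1, 1, 1, 1, 1, 1, 1, 1, 1, 1, 1, 1, 1, 1,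
    1, 1, 1, 1, 1, 1, 1, 1, 1, 1, 1, 1, 1, 1, 1, 1, 1, 1, 1, 1, 1, 1, 1, 1, 1, 1, 1, 1, 1, 1, 1,
    1, 1, 1, 1, 1, 1, 1, 1, 1],
   [1, 1, 1, 1, 1, 1, 1, 1, 1, 1, 1, 1, 1, 1, 1, 1, 1, 1, 1, 1, 1, 1, 1, 1, 1, 1, 1, 1, 1, 1, 1, 1,
    1, 1, 1, 1, 1, 1, 1, 1, 1, 1, 1, 1, 1, 1, 1, 1, 1, 1, 1, 1, 1, 1, 1, 1, 1, 1, 1, 1, 1, 1, 1,
    1, 1, 1, 1, 1, 1, 1, 1, 1]]

/-- Exponents. -/
def tK : List (List ℕ) :=
  [[0, 0, 0, 0, 0, 0, 0, 0, 0, 0, 0, 0, 0, 0, 0, 0, 0, 0, 0, 0, 0, 0, 0, 0, 0, 0, 0, 0, 0, 0, 0, 0,
    0, 0, 0, 0, 0, 0, 0, 0, 0, 0, 0, 0, 0, 0, 0, 0, 0, 0, 0, 0, 0, 0, 0, 0, 0, 0, 0, 0, 0, 0, 0,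
    0, 0, 0, 0, 0, 0, 0, 0, 0],
   [0, 0, 0, 0, 0, 0, 0, 0, 0, 0, 0, 0, 0, 0, 0, 0, 0, 0, 0, 0, 0, 0, 0, 0, 0, 0, 0, 0, 0, 0, 0, 0,
    0, 0, 0, 0, 0, 0, 0, 0, 0, 0, 0, 0, 0, 0, 0, 0, 0, 0, 0, 0, 0, 0, 0, 0, 0, 0, 0, 0, 0, 0, 0,
    0, 0, 0, 0, 0, 0, 0, 0, 0],
   [0, 0, 0, 0, 0, 0, 0, 0, 0, 0, 0, 0, 0, 0, 0, 0, 0, 0, 0, 0, 0, 0, 0, 0, 0, 0, 0, 0, 0, 0, 0, 0,
    0, 0, 0, 0, 0, 0, 0, 0, 0, 0, 0, 0, 0, 0, 0, 0, 0, 0, 0, 0, 0, 0, 0, 0, 0, 0, 0, 0, 0, 0, 0,
    0, 0, 0, 0, 0, 0, 0, 0, 0],
   [0, 0, 0, 0, 0, 0, 0, 0, 0, 0, 0, 0, 0, 0, 0, 0, 0, 0, 0, 0, 0, 0, 0, 0, 0, 0, 0, 0, 0, 0, 0, 0,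
    0, 0, 0, 0, 0, 0, 0, 0, 0, 0, 0, 0, 0, 0, 0, 0, 0, 0, 0, 0, 0, 0, 0, 0, 0, 0, 0, 0, 0, 0, 0,
    0, 0, 0, 0, 0, 0, 0, 0, 0],
   [0, 0, 0, 1, 2, 2, 0, 1, 0, 1, 2, 0, 1, 2, 2, 1, 1, 2, 0, 2, 0, 1, 1, 2, 0, 0, 2, 0, 1, 1, 1, 2,
    0, 1, 2, 2, 1, 1, 2, 0, 1, 2, 2, 2, 0, 1, 0, 0, 1, 2, 2, 0, 1, 0, 1, 2, 2, 1, 1, 2, 0, 1, 2,
    0, 2, 0, 1, 1, 2, 0, 0, 0],
   [0, 0, 0, 1, 2, 2, 0, 1, 0, 1, 2, 0, 1, 2, 2, 1, 1, 2, 0, 2, 0, 1, 1, 2, 0, 0, 2, 0, 1, 1, 1, 2,
    0, 1, 2, 2, 1, 1, 2, 0, 1, 2, 2, 2, 0, 1, 0, 0, 1, 2, 2, 0, 1, 0, 1, 2, 2, 1, 1, 2, 0, 1, 2,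
    0, 2, 0, 1, 1, 2, 0, 0, 0]]

/-- The data. -/
noncomputable def dat : Dat where
  q := 1
  d := 2
  N := 36
  n := 36
  m := 38
  ne := 6
  fuel := 400
  T0 := fun i j => getLL (getL3 tT0 i) (Nat.sub j i)
  T := fun i j => getLL (getL3 tT i) (Nat.sub j i)
  ld := getL [0, 1, 2, 3, 4, 5, 6, 8, 9, 10, 11, 16, 18, 19, 20, 22, 24, 25, 26, 27, 30, 32, 33, 34, 36, 37,
    38, 39, 48, 54, 58, 60, 61, 66, 68, 70]
  gt := getLL [[40], [40, 41], [12], [12, 13], [42], [42, 43], [], [14], [14, 15], [44], [44, 45], [], [46],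
    [46, 47], [], [], [28], [28, 29], [50], [50, 51], [], [52], [52, 53], [], [56], [56, 57],
    [62], [62, 63], [], [], [], [64], [64, 65], [], [], []]
  π := fun e => getL (getLL tP e)
  c := fun e => getL (getLL tC e)
  k := fun e => getL (getLL tK e)
  jb := fun e i => Nat.beq (Nat.mod (Nat.shiftRight (getL [274877890559, 274877906879, 274877906931, 274877906940, 274877906943, 274877906943] e) i) 2) 1
  img := fun e => getLL (getL3 tI e)
  cc := fun j => getLL [[41, 2, 40], [64, 26, 27]] (Nat.sub j 36)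

theorem c0 : dat.chk0 chevE6 = true := by decide +kernel

theorem c1 : dat.chk1 = true := by decide +kernel

theorem c2 : allB (stepChk dat.q dat.m (mkR dat.T) dat.fuel) dat.m = true := by decide +kernel

theorem c3 : allB dat.chk3 dat.ne = true := by decide +kernel

theorem c6 : dat.chk6 (piT grTE6) = true := by decide +kernel

end Cfsg.Agent.H78.Mul.E62
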