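/-
Certificate: the stable extension.
-/
import Mathlib
import Cfsg.Agent.H78.MulChev

set_option autoImplicit false
set_option maxRecDepth 100000

namespace Cfsg.Agent.H78.Mul.F42

open Cfsg.Lie Cfsg.Agent.H42 Cfsg.Agent.H46 Cfsg.Agent.H74 Cfsg.Agent.H37

/-- Tails of the full unipotent group. -/
def tT0 : List (List (List ℕ)) :=
  [[[], [2], [], [], [5, 8], [], [7], [], [], [], [], [12, 19], [], [14, 21], [], [], [], [18], [],
    [], [], [], [23], []],
   [[], [], [4, 6], [], [], [], [8], [], [], [11, 17], [], [], [], [15, 23], [], [], [], [19], [],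
    [], [22], [], []],
   [[], [5, 7], [], [], [8], [], [], [], [12, 18], [], [], [15, 22], [], [], [], [19], [], [], [],
    [23], [], []],
   [[], [], [], [], [], [], [10], [], [13], [14], [], [], [16], [], [], [], [20, 21], [], [], [],
    []],
   [[], [], [], [], [], [11], [13], [], [15], [], [16], [], [], [], [20, 22], [], [], [], [], []],
   [[], [], [], [], [12], [14], [15], [], [16], [], [], [], [20, 23], [], [], [], [], [], []],
   [[], [], [], [13, 17], [], [], [16, 23], [], [], [], [], [], [21], [22], [], [], [], []],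
   [[], [], [14, 18], [], [16, 22], [], [], [], [], [], [21], [], [23], [], [], [], []],
   [[], [15, 19], [16, 21], [], [], [], [], [], [], [22], [23], [], [], [], [], []],
   [[], [], [], [], [], [], [], [20], [], [], [], [], [], [], []],
   [[], [], [], [], [], [20], [], [], [], [], [], [], [], []],
   [[], [], [], [20], [], [], [], [], [], [], [], [], []],
   [[], [20], [], [], [], [], [], [], [], [], [], []],
   [[], [], [], [], [], [], [], [], [], [], []],
   [[], [], [], [], [], [], [], [], [], []],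
   [[], [], [], [], [], [], [], [], []],
   [[], [], [], [], [], [], [], []],
   [[], [], [], [], [], [], []],
   [[], [], [], [], [], []],
   [[], [], [], [], []],
   [[], [], [], []],
   [[], [], []],
   [[], []],
   [[]]]

/-- Tails of the extension. -/
def tT : List (List (List ℕ)) :=
  [[[], [2], [], [], [5, 8], [], [7], [], [], [], [], [12, 19], [], [14, 21], [], [], [], [18, 24],
    [], [], [], [], [23], [], []],
   [[], [], [4, 6], [], [], [], [8], [], [], [11, 17], [], [], [], [15, 23, 24], [], [], [], [19,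
    24], [], [], [22, 24], [], [], []],
   [[], [5, 7], [], [], [8], [], [], [], [12, 18], [], [], [15, 22], [], [], [], [19, 24], [], [],
    [], [23], [], [], []],
   [[], [], [], [], [], [], [10], [], [13], [14], [], [], [16], [], [], [], [20, 21], [], [], [],
    [], []],
   [[], [], [], [], [], [11], [13], [], [15], [], [16], [], [], [], [20, 22], [], [], [], [], [],
    []],
   [[], [], [], [], [12], [14], [15], [], [16], [], [], [], [20, 23, 24], [], [], [], [], [], [],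
    []],
   [[], [], [], [13, 17], [], [], [16, 23, 24], [], [], [], [], [], [21, 24], [22, 24], [], [], [],
    [], []],
   [[], [], [14, 18], [], [16, 22], [], [], [], [], [], [21, 24], [], [23], [], [], [], [], []],
   [[], [15, 19], [16, 21], [], [], [], [], [], [], [22, 24], [23], [], [], [], [], [], []],
   [[], [], [], [], [], [], [], [20], [], [], [], [], [], [], [], []],
   [[], [], [], [], [], [20], [], [], [], [], [], [], [], [], []],
   [[], [], [], [20], [], [], [], [], [], [], [], [], [], []],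
   [[], [20], [], [], [], [], [], [], [], [], [], [], []],
   [[], [], [], [], [], [], [], [], [], [], [], []],
   [[], [], [], [], [], [], [], [], [], [], []],
   [[], [], [], [], [], [], [], [], [], []],
   [[], [], [], [], [], [], [], [], []],
   [[], [], [], [], [], [], [], []],
   [[], [], [], [], [], [], []],
   [[], [], [], [], [], []],
   [[], [], [], [], []],
   [[], [], [], []],
   [[], [], []],
   [[], []],
   [[]]]

/-- Images of the letters under the lifts. -/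
def tI : List (List (List ℕ)) :=
  [[[0], [1], [2], [10], [11], [12, 24], [17], [18, 24], [19, 24], [], [3], [4], [5, 24], [13],
    [14], [15], [20], [6], [7, 24], [8, 24], [16], [21], [22], [23], [24]],
   [[0], [6], [7], [], [4], [5], [1], [2], [8], [10], [9], [13], [14], [11], [12], [16], [15],
    [17], [18], [21], [20], [19], [22], [23], [24]],
   [[2], [], [0], [4], [3], [5], [6], [8], [7], [9], [11], [10], [12], [13], [15], [14], [16],
    [17], [19], [18], [20], [22], [21], [23], [24]],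
   [[], [2], [1], [3], [5], [4], [7], [6], [8], [9], [10], [12], [11], [14], [13], [15], [16],
    [18], [17], [19], [20], [21], [23, 24], [22, 24], [24]]]

/-- Permutations of the roots. -/
def tP : List (List ℕ) :=
  [[0, 1, 2, 7, 15, 16, 17, 3, 8, 9, 10, 18, 19, 20, 33, 4, 5, 6, 11, 12, 13, 21, 22, 23, 24, 25,
    26, 34, 35, 36, 41, 42, 43, 14, 27, 28, 29, 37, 38, 39, 44, 30, 31, 32, 40, 45, 46, 47],
   [0, 1, 4, 3, 2, 5, 6, 8, 7, 11, 12, 9, 10, 14, 13, 15, 21, 22, 18, 19, 27, 16, 17, 23, 24, 30,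
    31, 20, 28, 29, 25, 26, 32, 34, 33, 37, 38, 35, 36, 40, 39, 41, 42, 45, 44, 43, 46, 47],
   [0, 2, 1, 3, 5, 4, 6, 7, 9, 8, 10, 11, 13, 12, 14, 16, 15, 17, 18, 20, 19, 23, 25, 21, 26, 22,
    24, 28, 27, 29, 30, 32, 31, 33, 35, 34, 36, 37, 39, 38, 40, 41, 43, 42, 44, 46, 45, 47],
   [1, 0, 2, 3, 4, 6, 5, 7, 8, 10, 9, 12, 11, 13, 14, 15, 17, 16, 19, 18, 20, 22, 21, 24, 23, 26,
    25, 27, 29, 28, 31, 30, 32, 33, 34, 36, 35, 38, 37, 39, 40, 42, 41, 43, 44, 45, 47, 46]]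

/-- Signs. -/
def tC : List (List ℕ) :=
  [[1, 1, 1, 1, 1, 1, 1, 1, 1, 1, 1, 1, 1, 1, 1, 1, 1, 1, 1, 1, 1, 1, 1, 1, 1, 1, 1, 1, 1, 1, 1, 1,
    1, 1, 1, 1, 1, 1, 1, 1, 1, 1, 1, 1, 1, 1, 1, 1],
   [1, 1, 1, 1, 1, 1, 1, 1, 1, 1, 1, 1, 1, 1, 1, 1, 1, 1, 1, 1, 1, 1, 1, 1, 1, 1, 1, 1, 1, 1, 1, 1,
    1, 1, 1, 1, 1, 1, 1, 1, 1, 1, 1, 1, 1, 1, 1, 1],
   [1, 1, 1, 1, 1, 1, 1, 1, 1, 1, 1, 1, 1, 1, 1, 1, 1, 1, 1, 1, 1, 1, 1, 1, 1, 1, 1, 1, 1, 1, 1, 1,
    1, 1, 1, 1, 1, 1, 1, 1, 1, 1, 1, 1, 1, 1, 1, 1],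
   [1, 1, 1, 1, 1, 1, 1, 1, 1, 1, 1, 1, 1, 1, 1, 1, 1, 1, 1, 1, 1, 1, 1, 1, 1, 1, 1, 1, 1, 1, 1, 1,
    1, 1, 1, 1, 1, 1, 1, 1, 1, 1, 1, 1, 1, 1, 1, 1]]

/-- Exponents. -/
def tK : List (List ℕ) :=
  [[0, 0, 0, 0, 0, 0, 0, 0, 0, 0, 0, 0, 0, 0, 0, 0, 0, 0, 0, 0, 0, 0, 0, 0, 0, 0, 0, 0, 0, 0, 0, 0,
    0, 0, 0, 0, 0, 0, 0, 0, 0, 0, 0, 0, 0, 0, 0, 0],
   [0, 0, 0, 0, 0, 0, 0, 0, 0, 0, 0, 0, 0, 0, 0, 0, 0, 0, 0, 0, 0, 0, 0, 0, 0, 0, 0, 0, 0, 0, 0, 0,
    0, 0, 0, 0, 0, 0, 0, 0, 0, 0, 0, 0, 0, 0, 0, 0],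
   [0, 0, 0, 0, 0, 0, 0, 0, 0, 0, 0, 0, 0, 0, 0, 0, 0, 0, 0, 0, 0, 0, 0, 0, 0, 0, 0, 0, 0, 0, 0, 0,
    0, 0, 0, 0, 0, 0, 0, 0, 0, 0, 0, 0, 0, 0, 0, 0],
   [0, 0, 0, 0, 0, 0, 0, 0, 0, 0, 0, 0, 0, 0, 0, 0, 0, 0, 0, 0, 0, 0, 0, 0, 0, 0, 0, 0, 0, 0, 0, 0,
    0, 0, 0, 0, 0, 0, 0, 0, 0, 0, 0, 0, 0, 0, 0, 0]]

/-- The data. -/
noncomputable def dat : Dat where
  q := 1
  d := 1
  N := 24
  n := 24
  m := 25
  ne := 4
  fuel := 400
  T0 := fun i j => getLL (getL3 tT0 i) (Nat.sub j i)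
  T := fun i j => getLL (getL3 tT i) (Nat.sub j i)
  ld := getL [0, 1, 2, 3, 4, 5, 6, 7, 8, 9, 10, 11, 12, 13, 14, 15, 16, 17, 18, 19, 20, 21, 22, 23]
  gt := getLL [[], [], [], [], [], [], [], [], [], [], [], [], [], [], [], [], [], [], [], [], [], [], [], []]
  π := fun e => getL (getLL tP e)
  c := fun e => getL (getLL tC e)
  k := fun e => getL (getLL tK e)
  jb := fun e i => Nat.beq (Nat.mod (Nat.shiftRight (getL [33553919, 33554423, 33554429, 33554430] e) i) 2) 1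
  img := fun e => getLL (getL3 tI e)
  cc := fun j => getLL [[43, 11, 134]] (Nat.sub j 24)

theorem c0 : dat.chk0 chevF4 = true := by decide +kernel

theorem c1 : dat.chk1 = true := by decide +kernel

theorem c2 : allB (stepChk dat.q dat.m (mkR dat.T) dat.fuel) dat.m = true := by decide +kernel

theorem c3 : allB dat.chk3 dat.ne = true := by decide +kernel

end Cfsg.Agent.H78.Mul.F42
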