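/-
Certificate: the stable extension.
-/
import Mathlib
import Cfsg.Agent.H78.MulChev

set_option autoImplicit false
set_option maxRecDepth 100000

namespace Cfsg.Agent.H78.Mul.G23

open Cfsg.Lie Cfsg.Agent.H42 Cfsg.Agent.H46 Cfsg.Agent.H74 Cfsg.Agent.H37

/-- Tails of the full unipotent group. -/
def tT0 : List (List (List ℕ)) :=
  [[[], [2, 2, 3, 3, 4, 5], [], [], [5, 5], []],
   [[], [3, 3], [], [], []],
   [[], [], [], []],
   [[], [], []],
   [[], []],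
   [[]]]

/-- Tails of the extension. -/
def tT : List (List (List ℕ)) :=
  [[[], [2, 2, 3, 3, 4, 5], [], [6], [5, 5], [], []],
   [[], [3, 3], [], [], [6, 6], []],
   [[], [], [6], [], []],
   [[], [], [], []],
   [[], [], []],
   [[], []],
   [[]]]

/-- Images of the letters under the lifts. -/
def tI : List (List (List ℕ)) :=
  [[[4], [], [3], [2, 2], [0, 0], [5], [6]],
   [[], [2], [1, 1], [3], [5], [4, 4], [6]],
   [[0, 0], [1], [2, 2], [3, 3], [4, 4, 6], [5], [6]],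
   [[0], [1, 1], [2, 2], [3], [4, 4, 6], [5, 5], [6]]]

/-- Permutations of the roots. -/
def tP : List (List ℕ) :=
  [[0, 5, 3, 2, 7, 1, 10, 4, 9, 8, 6, 11],
   [1, 0, 2, 4, 3, 6, 5, 8, 7, 9, 11, 10],
   [0, 1, 2, 3, 4, 5, 6, 7, 8, 9, 10, 11],
   [0, 1, 2, 3, 4, 5, 6, 7, 8, 9, 10, 11]]

/-- Signs. -/
def tC : List (List ℕ) :=
  [[1, 2, 2, 1, 2, 1, 1, 2, 1, 2, 2, 1],
   [2, 1, 1, 2, 1, 2, 2, 1, 2, 1, 1, 2],
   [1, 2, 2, 2, 1, 2, 2, 1, 2, 2, 2, 1],
   [2, 2, 1, 2, 2, 1, 1, 2, 2, 1, 2, 2]]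

/-- Exponents. -/
def tK : List (List ℕ) :=
  [[0, 0, 0, 0, 0, 0, 0, 0, 0, 0, 0, 0],
   [0, 0, 0, 0, 0, 0, 0, 0, 0, 0, 0, 0],
   [0, 0, 0, 0, 0, 0, 0, 0, 0, 0, 0, 0],
   [0, 0, 0, 0, 0, 0, 0, 0, 0, 0, 0, 0]]

/-- The data. -/
noncomputable def dat : Dat where
  q := 2
  d := 1
  N := 6
  n := 6
  m := 7
  ne := 4
  fuel := 400
  T0 := fun i j => getLL (getL3 tT0 i) (Nat.sub j i)
  T := fun i j => getLL (getL3 tT i) (Nat.sub j i)
  ld := getL [0, 1, 2, 3, 4, 5]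
  gt := getLL [[], [], [], [], [], []]
  π := fun e => getL (getLL tP e)
  c := fun e => getL (getLL tC e)
  k := fun e => getL (getLL tK e)
  jb := fun e i => Nat.beq (Nat.mod (Nat.shiftRight (getL [125, 126, 127, 127] e) i) 2) 1
  img := fun e => getLL (getL3 tI e)
  cc := fun j => getLL [[3]] (Nat.sub j 6)

theorem c0 : dat.chk0 chevG2 = true := by decide +kernel

theorem c1 : dat.chk1 = true := by decide +kernel

theorem c2 : allB (stepChk dat.q dat.m (mkR dat.T) dat.fuel) dat.m = true := by decide +kernel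

theorem c3 : allB dat.chk3 dat.ne = true := by decide +kernel

end Cfsg.Agent.H78.Mul.G23
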