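/-
Certificate: the upper bound.
-/
import Mathlib
import Cfsg.Agent.H78.MulG23A

set_option autoImplicit false
set_option maxRecDepth 100000

namespace Cfsg.Agent.H78.Mul.G23

open Cfsg.Lie Cfsg.Agent.H42 Cfsg.Agent.H46 Cfsg.Agent.H74 Cfsg.Agent.H37

/-- Rules. -/
def cert_rule : List (List (List ℕ)) :=
  [[[], [1, 2, 2, 3, 3, 4, 5], [2], [3], [4, 5, 5], [5]],
   [[], [], [2, 3, 3], [3], [4], [5]],
   [[], [], [], [3], [4], [5]],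
   [[], [], [], [], [4], [5]],
   [[], [], [], [], [], [5]],
   [[], [], [], [], [], []]]

/-- Fused subgroups. -/
def cert_fq : List (List (List ℕ)) :=
  [[[0], [], [2], [3], [4], [5]],
   [[], [1], [2], [3], [4], [5]]]

/-- Their images. -/
def cert_fq' : List (List (List ℕ)) :=
  [[[4], [], [3], [2, 2], [0, 0], [5]],
   [[], [2], [1, 1], [3], [5], [4, 4]]]

/-- Rows. -/
def cert_sA : List Spec :=
  [⟨1, [0], [], 1, 1, 2186⟩,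
   ⟨1, [1], [], 4, 1, 2186⟩,
   ⟨1, [2], [], 8, 1, 2186⟩,
   ⟨1, [3], [], 0, 1, 2186⟩,
   ⟨1, [4], [], 7, 1, 2186⟩,
   ⟨1, [5], [], 14, 1, 2186⟩,
   ⟨0, [4], [2, 0], 17, 1, 1094⟩,
   ⟨3, [5, 2], [2, 5], 23, 1, 2186⟩,
   ⟨4, [4, 1], [1, 4], 10, 1, 1⟩,
   ⟨4, [4, 3], [3, 4], 22, 1, 1⟩,
   ⟨3, [2, 0], [0, 2], 2, 1, 1⟩,
   ⟨3, [0, 0, 0], [], 28, 1, 2186⟩,
   ⟨3, [2, 2, 2], [], 21, 1, 2186⟩,
   ⟨3, [5, 0], [0, 5], 29, 1, 2186⟩,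
   ⟨3, [5, 4], [4, 5], 5, 1, 2186⟩,
   ⟨0, [4], [0, 0, 0], 35, 1, 1093⟩,
   ⟨3, [4, 0], [0, 4, 5, 5], 41, 1, 1094⟩,
   ⟨4, [3, 1], [1, 3], 15, 1, 2186⟩,
   ⟨4, [3, 2], [2, 3], 9, 1, 2186⟩,
   ⟨3, [3, 0], [0, 3], 16, 1, 1094⟩,
   ⟨4, [5, 1], [1, 5], 11, 1, 1⟩,
   ⟨4, [2, 1], [1, 2, 3, 3], 45, 1, 1094⟩]

/-- Rows. -/
def cert_sB : List Spec :=
  [⟨4, [1, 1, 1], [], 43, 3, 2186⟩,
   ⟨4, [2, 2, 2], [], 44, 3, 2186⟩,
   ⟨0, [3], [0, 0, 0], 3, 3, 2186⟩]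

/-- Rows. -/
def cert_sC : List Spec :=
  [⟨2, [0], [], 3, 1, 2⟩,
   ⟨4, [1, 1, 1], [], 43, 3, 2186⟩,
   ⟨4, [2, 2, 2], [], 44, 3, 2186⟩,
   ⟨0, [2], [1, 1, 1], 38, 3, 1823⟩,
   ⟨3, [3, 3, 3], [], 39, 3, 2186⟩,
   ⟨4, [4, 4, 4], [], 46, 3, 2186⟩,
   ⟨3, [4, 4, 4], [], 40, 3, 2186⟩,
   ⟨4, [5, 5, 5], [], 47, 3, 2186⟩,
   ⟨0, [1], [0, 0, 0], 36, 3, 730⟩]

/-- The certificate. -/
noncomputable def cert : Cert where
  q := 2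
  n := 6
  nf := 2
  b := 31
  M := 2187
  D := 3
  fuel := 126
  rule := fun i j => getLL (getL3 cert_rule i) j
  fq := fun i j => getLL (getL3 cert_fq i) j
  fq' := fun i j => getLL (getL3 cert_fq' i) j
  nrm := nrmL 31 48 2187
  nri := getL [0, 0, 1, 0, 1, 2]
  nrj := getL [1, 4, 2, 0, 1, 2]
  B := getL [0x200000000000000000000000, 0x10000000000000000000000000000000, 0x800000000000000000000000000000000000000, 0x1110000000000000000, 0x44480000000000000000000000c000022380000888, 0x22200000000]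
  nU := 1
  U := getL [unitV 31 16 * 1]
  ord := getL [3]
  sA := cert_sA
  sB := cert_sB
  sC := cert_sC

theorem cert_nrm : Nrm cert.b cert.R cert.M cert.nrm := by
  dsimp only [cert, Cert.R]
  exact nrm_nrmL 31 48 2187

theorem cert_chk : cert.chk 3 = true := by decide +kernel

theorem c5 : dat.chk5 cert = true := by decide +kernel

end Cfsg.Agent.H78.Mul.G23
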