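import Cfsg.Agent.H25.L45Kit

/-! The group `L₂(11)` is not maximal in `SL₅(3)`. -/

set_option autoImplicit false
set_option linter.unusedSectionVars false
set_option maxRecDepth 100000

namespace Cfsg.Agent.H78.NM
open Matrix Cfsg.Geo Module
open scoped MatrixGroups

/-- The vectors. -/
abbrev V := Fin 5 → ZMod 3

/-- The matrices. -/
abbrev M := Matrix (Fin 5) (Fin 5) (ZMod 3)

/-- The element of order eleven. -/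
def C0 : M := !![0, 0, 0, 0, 1; 1, 0, 0, 0, 0; 0, 1, 0, 0, 2; 0, 0, 1, 0, 1; 0, 0, 0, 1, 2]

/-- The element of order five. -/
def H0 : M := !![1, 0, 2, 1, 0; 0, 0, 1, 2, 1; 0, 0, 1, 1, 0; 0, 1, 1, 1, 0; 0, 0, 2, 0, 0]

/-- Its inverse. -/
def H4 : M := !![1, 0, 2, 0, 1; 0, 0, 2, 1, 0; 0, 0, 0, 0, 2; 0, 0, 1, 0, 1; 0, 1, 1, 0, 2]

/-- The involution. -/
def T0 : M := !![1, 0, 0, 0, 0; 0, 1, 1, 0, 0; 0, 0, 2, 0, 0; 0, 0, 1, 0, 1; 0, 0, 1, 1, 0]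

/-- An element outside. -/
def X0 : M := !![0, 2, 0, 0, 0; 2, 0, 0, 0, 0; 0, 0, 0, 1, 0; 0, 0, 1, 0, 0; 0, 0, 0, 0, 1]

/-- A transvection. -/
def Y0 : M := !![1, 1, 0, 0, 0; 0, 1, 0, 0, 0; 0, 0, 1, 0, 0; 0, 0, 0, 1, 0; 0, 0, 0, 0, 1]

/-- The short orbit. -/
def Lp : List V := [![0, 0, 0, 0, 1], ![1, 0, 2, 1, 2], ![2, 1, 1, 1, 2], ![2, 2, 2, 0, 2], ![2, 2, 0, 1, 1],
  ![1, 2, 1, 1, 0], ![0, 1, 2, 1, 1], ![1, 0, 0, 0, 0], ![0, 1, 0, 0, 0], ![0, 0, 1, 0, 0], ![0, 0, 0, 1, 0]]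

/-- The other short orbit. -/
def Lm : List V := Lp.map fun v => -v

/-- All short orbits. -/
def L0 : List V := 0 :: (Lp ++ Lm)

theorem all5 {p : V → Prop} (h : ∀ a b c d e, p ![a, b, c, d, e]) (v : V) : p v := by
  have : v = ![v 0, v 1, v 2, v 3, v 4] := by
    ext i; fin_cases i <;> rfl
  rw [this]; exact h _ _ _ _ _

/-- The stabiliser of a list of vectors. -/
def St (L : List V) : Subgroup (GL (Fin 5) (ZMod 3)) where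
  carrier := {g | ∀ v, v ∈ L ↔ (g : M) *ᵥ v ∈ L}
  one_mem' := fun v => by simp
  mul_mem' := fun {a b} ha hb v => by rw [Units.val_mul, ← mulVec_mulVec, ← ha, ← hb]
  inv_mem' := fun {a} ha v => by rw [ha (_ *ᵥ _), mulVec_mulVec, Units.mul_inv, one_mulVec]

theorem d1 : ∀ v, (v ∈ Lp ↔ C0 *ᵥ v ∈ Lp) ∧ (v ∈ Lp ↔ T0 *ᵥ v ∈ Lp) := all5 (by decide +kernel)

theorem d2 : ∀ v, (v ∈ Lm ↔ C0 *ᵥ v ∈ Lm) ∧ (v ∈ Lm ↔ T0 *ᵥ v ∈ Lm) := all5 (by decide +kernel)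

theorem d3 : ∀ v, v ∈ L0 ↔ X0 *ᵥ v ∈ L0 := all5 (by decide +kernel)

theorem d4 : ∀ v, v ∉ L0 → ∃ w ∈ List.iterate (C0 *ᵥ ·) v 11,
    (T0 *ᵥ w :: List.iterate (C0 *ᵥ ·) v 11).Nodup := all5 (by decide +kernel)

/-- The coordinates of the standard basis in the cyclic basis. -/
def Wi : M := !![2, 1, 2, 0, 0; 2, 0, 0, 1, 0; 2, 0, 2, 0, 0; 2, 0, 1, 0, 0; 2, 0, 1, 0, 1]

/-- The candidates for the involution. -/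
def TT (u : V) : M := !![u 0 + u 1 + u 3 + u 4, u 0, u 2 + 2 * u 3 + 2 * u 4, u 0 + 2 * u 2 + u 4, u 0 + 2 * u 2 + u 3;
  0, u 1, u 1 + 2 * u 2 + 2 * u 3 + 2 * u 4, 2 * u 2 + u 3, u 2 + 2 * u 3 + u 4;
  0, u 2, 2 * u 1 + 2 * u 4, 2 * u 4, u 2 + u 3;
  0, u 3, u 1 + u 3, u 2 + u 4, u 1 + u 2 + u 3;
  0, u 4, u 1 + u 3 + 2 * u 4, u 1 + u 2 + 2 * u 4, 2 * u 2]

theorem d5 : ∀ u, (∀ j : Fin 5, TT u *ᵥ (C0 *ᵥ (TT u *ᵥ (C0 *ᵥ (TT u *ᵥ (C0 *ᵥ Pi.single j 1))))) =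
    Pi.single j 1) → TT u = T0 := all5 (by decide +kernel)

theorem d6 : ∀ u (j : Fin 5), ∑ i : Fin 5, Wi i j • (H4 *ᵥ ·)^[i] u = TT u *ᵥ Pi.single j 1 :=
  all5 (by decide +kernel)

end Cfsg.Agent.H78.NM
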