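import Cfsg.Agent.H95.ParBase
import Cfsg.Agent.H46.Cls
import Cfsg.Agent.S0384
import Cfsg.Agent.S5619

/-! Elementary abelian 2-subgroups of the stabilizer of a dodecad have order at most eight. -/

set_option autoImplicit false

namespace Cfsg.Agent.H78.ParM

open Cfsg Subgroup MulAction Cfsg.Agent.H48 Cfsg.Agent.H95.Par
open scoped Pointwise

theorem card_le_two {S : Type*} [Group S] [Finite S]
    (h : ∀ P : Sylow 2 S, Nonempty (P ≃* QuaternionGroup 2)) (F : Subgroup S)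
    (h2 : ∀ e ∈ F, e * e = 1) : Nat.card F ≤ 2 := by
  obtain ⟨P, hP⟩ := (show IsPGroup 2 F from fun g => ⟨1, Subtype.ext (by
    simpa [sq] using h2 g g.2)⟩).exists_le_sylow
  obtain ⟨e⟩ := h P
  have h3 := Nat.card_le_card_of_injective (β := {x : QuaternionGroup 2 // x * x = 1})
    (fun g : F => ⟨e ⟨g, hP g.2⟩, by
      rw [← map_mul, e.map_eq_one_iff]; exact Subtype.ext (h2 g g.2)⟩)
    fun a b k => Subtype.ext (congrArg (fun x : P => (x : S)) (e.injective (congrArg Subtype.val k)))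
  rwa [Nat.card_eq_fintype_card (α := {x : QuaternionGroup 2 // x * x = 1}),
    show Fintype.card {x : QuaternionGroup 2 // x * x = 1} = 2 by decide] at h3

theorem m12r : M12RStmt := by
  intro D E hD hc h2 hE
  have hd : D ∈ dodecads := ⟨hD, hc⟩
  have cm : ∀ a ∈ E, ∀ b ∈ E, a * b = b * a := fun a ha b hb => by
    rw [← inv_eq_of_mul_eq_one_right (h2 _ (mul_mem ha hb)), mul_inv_rev,
      inv_eq_of_mul_eq_one_right (h2 a ha), inv_eq_of_mul_eq_one_right (h2 b hb)]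
  have K : ∀ F ≤ E, ∀ p ∈ D, ∀ q ∈ D, ∀ r ∈ D, p ≠ q → p ≠ r → q ≠ r →
      (∀ g ∈ F, g • p = p ∧ g • q = q ∧ g • r = r) → Nat.card F ≤ 2 :=
    fun F hF p hp q hq r hr h3 h4 h5 h6 => by
      have h7 : F ≤ stabilizer M24 D ⊓ stabilizer M24 p ⊓ stabilizer M24 q ⊓ stabilizer M24 r :=
        fun g hg => ⟨⟨⟨hE g (hF hg), (h6 g hg).1⟩, (h6 g hg).2.1⟩, (h6 g hg).2.2⟩
      rw [← Nat.card_congr (subgroupOfEquivOfLe h7).toEquiv]
      exact card_le_two (S5619.result D hd p q r hp hq hr h3 h4 h5).2 _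
        fun e he => Subtype.ext (h2 _ (hF he))
  have sub : ∀ p ∈ D, orbit E p ⊆ D := by
    rintro p hp _ ⟨g, rfl⟩
    exact hE g g.2 ▸ Finset.smul_mem_smul_finset (a := (g : M24)) hp
  have fx : ∀ p : GolayPt, ∀ g ∈ E ⊓ stabilizer M24 p, ∀ q ∈ orbit E p, g • q = q := by
    rintro p g hg _ ⟨k, rfl⟩
    change g • (k : M24) • p = (k : M24) • p
    rw [← mul_smul, cm g hg.1 k k.2, mul_smul, mem_stabilizer_iff.1 hg.2]
  by_cases h5 : ∃ p ∈ D, 5 ≤ (orbit E p).ncard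
  · obtain ⟨p, hp, h5⟩ := h5
    have h6 : E ⊓ stabilizer M24 p = ⊥ := eq_bot_iff.2 fun g hg => by
      obtain ⟨x⟩ : Nonempty (Fin 5 ↪ orbit E p) := by
        classical
        have := Fintype.ofFinite (orbit E p)
        refine Function.Embedding.nonempty_of_card_le ?_
        rwa [Fintype.card_fin, ← Nat.card_eq_fintype_card, Nat.card_coe_set_eq]
      obtain ⟨k, -, hk⟩ := S0384.result D hd (x.trans (.subtype _)) (x.trans (.subtype _))
        (fun i => sub p hp (x i).2) fun i => sub p hp (x i).2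
      exact congrArg Subtype.val ((hk ⟨g, hE g hg.1⟩ fun i => fx p g hg _ (x i).2).trans
        (hk 1 fun _ => rfl).symm)
    have h7 := H46.card_eq_orbit_mul E p
    have h8 := Set.ncard_le_ncard (sub p hp) (Set.toFinite _)
    rw [h6, card_bot, mul_one] at h7
    rw [Set.ncard_coe_finset, hc, ← h7] at h8
    obtain ⟨n, hn⟩ := IsPGroup.iff_card.1 (show IsPGroup 2 E from fun g => ⟨1, Subtype.ext (by
      simpa [sq] using h2 g g.2)⟩)
    rw [hn] at h8 ⊢
    by_cases h : n ≤ 3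
    · exact Nat.pow_le_pow_right (n := 2) (by norm_num) h
    · have := Nat.pow_le_pow_right (n := 2) (by norm_num) (show 4 ≤ n by omega)
      omega
  by_cases h3 : ∃ p ∈ D, 2 < (orbit E p).ncard
  · obtain ⟨p, hp, h3⟩ := h3
    obtain ⟨a, b, c, ha, hb, hc', h6, h7, h8⟩ := (Set.two_lt_ncard_iff (Set.toFinite _)).1 h3
    have h9 := K _ inf_le_left a (sub p hp ha) b (sub p hp hb) c (sub p hp hc') h6 h7 h8
      fun g hg => ⟨fx p g hg a ha, fx p g hg b hb, fx p g hg c hc'⟩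
    rw [H46.card_eq_orbit_mul E p]
    exact Nat.mul_le_mul (show _ ≤ 4 by by_contra h; exact h5 ⟨p, hp, by omega⟩) h9
  have h4 : ∀ p ∈ D, ∀ F ≤ E, Nat.card F ≤ 2 * Nat.card ↥(F ⊓ stabilizer M24 p) :=
    fun p hp F hF => H46.card_le_mul_of_orbit_subset F p (Set.toFinite (orbit E p))
      (by by_contra h; exact h3 ⟨p, hp, by omega⟩) fun g hg => ⟨⟨g, hF hg⟩, rfl⟩
  obtain ⟨a, b, c, ha, hb, hc', h6, h7, h8⟩ := Finset.two_lt_card_iff.1 (show 2 < D.card by omega)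
  by_cases h1 : ∀ g ∈ E, ∀ p ∈ D, g • p = p
  · exact (K E le_rfl a ha b hb c hc' h6 h7 h8 fun g hg =>
      ⟨h1 g hg a ha, h1 g hg b hb, h1 g hg c hc'⟩).trans (by norm_num)
  push Not at h1
  obtain ⟨g, hg, p, hp, h1⟩ := h1
  obtain ⟨r, hr, r1, r2⟩ : ∃ r ∈ D, p ≠ r ∧ g • p ≠ r := by
    by_contra h
    push Not at h
    by_cases e : p = a
    · exact h8 ((h b hb (e ▸ h6)).symm.trans (h c hc' (e ▸ h7)))
    · by_cases e' : p = b
      · exact h7 ((h a ha e).symm.trans (h c hc' (e' ▸ h8)))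
      · exact h6 ((h a ha e).symm.trans (h b hb e'))
  have h9 := K (E ⊓ stabilizer M24 p ⊓ stabilizer M24 r) (inf_le_left.trans inf_le_left) p hp _
    (sub p hp ⟨⟨g, hg⟩, rfl⟩) r hr h1.symm r1 r2 fun k hk =>
      ⟨hk.1.2, fx p k hk.1 _ ⟨⟨g, hg⟩, rfl⟩, hk.2⟩
  have h10 := h4 p hp E le_rfl
  have h11 := h4 r hr (E ⊓ stabilizer M24 p) inf_le_left
  omega

end Cfsg.Agent.H78.ParM
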