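import Cfsg.Agent.H83.Base

/-! Project PC (row S3916): the end game in the Sylow `2`-subgroup. -/

set_option autoImplicit false

namespace Cfsg.Agent.H78.PcEnd

open Subgroup
open scoped commutatorElement

variable {T : Type*} [Group T]

theorem cq (N : Subgroup T) [N.Normal] (a b : T) :
    ⁅a, b⁆ ∈ N ↔ Commute (QuotientGroup.mk' N a) (QuotientGroup.mk' N b) := by
  rw [← commutatorElement_eq_one_iff_commute, ← map_commutatorElement, QuotientGroup.mk'_apply,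
    QuotientGroup.eq_one_iff]

/-- the centraliser of `A` modulo `N` -/
def Cz (N : Subgroup T) [N.Normal] (A : Subgroup T) : Subgroup T :=
  (centralizer (A.map (QuotientGroup.mk' N) : Set (T ⧸ N))).comap (QuotientGroup.mk' N)

theorem mem_Cz {N : Subgroup T} [N.Normal] {A : Subgroup T} {b : T} :
    b ∈ Cz N A ↔ ∀ a ∈ A, ⁅a, b⁆ ∈ N := by
  unfold Cz
  rw [mem_comap, mem_centralizer_iff]
  constructor
  · intro h a ha
    exact (cq N a b).2 (h _ ⟨a, ha, rfl⟩)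
  · rintro h _ ⟨a, ha, rfl⟩
    exact (cq N a b).1 (h a ha)

instance Cz_normal (N : Subgroup T) [N.Normal] (A : Subgroup T) [hA : A.Normal] : (Cz N A).Normal := by
  haveI : (A.map (QuotientGroup.mk' N)).Normal := hA.map _ (QuotientGroup.mk'_surjective N)
  unfold Cz
  infer_instance

theorem cle {N : Subgroup T} [N.Normal] {A B : Subgroup T} : ⁅A, B⁆ ≤ N ↔ B ≤ Cz N A := by
  rw [commutator_le]
  exact ⟨fun h b hb => mem_Cz.2 fun a ha => h a ha b hb, fun h a ha b hb => mem_Cz.1 (h hb) a ha⟩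

theorem cle' {N : Subgroup T} [N.Normal] {A B : Subgroup T} : ⁅A, B⁆ ≤ N ↔ A ≤ Cz N B := by
  rw [Subgroup.commutator_comm, cle]

theorem nil [Finite T] (hT : IsPGroup 2 T) {F : Subgroup T} (h : F ≤ ⁅F, ⊤⁆) : F = ⊥ := by
  haveI : Fact (Nat.Prime 2) := ⟨Nat.prime_two⟩
  haveI := hT.isNilpotent
  obtain ⟨n, hn⟩ := Subgroup.nilpotent_iff_lowerCentralSeries.1 (inferInstance : Group.IsNilpotent T)
  have : ∀ k, F ≤ (⊤ : Subgroup T).lowerCentralSeries k := by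
    intro k
    induction k with
    | zero => exact le_top
    | succ k ih => exact h.trans (commutator_mono ih le_rfl)
  exact le_bot_iff.1 (hn ▸ this n)

theorem cent [Finite T] (hT : IsPGroup 2 T) (N K : Subgroup T) [hK : K.Normal] (h : ¬ K ≤ N) :
    ∃ z ∈ K, z ∉ N ∧ z * z ∈ N ∧ ∀ g, ⁅z, g⁆ ∈ N := by
  classical
  obtain ⟨L, ⟨Ln, LK, LN⟩, mn⟩ := Set.exists_min_image {L : Subgroup T | L.Normal ∧ L ≤ K ∧ ¬ L ≤ N}
    (fun L => Nat.card L) (Set.toFinite _) ⟨K, hK, le_rfl, h⟩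
  have h1 : ⁅L, ⊤⁆ ≤ L := commutator_le_left L ⊤
  have h2 : ⁅L, ⊤⁆ ≤ N := by
    by_contra hc
    have := mn ⁅L, ⊤⁆ ⟨inferInstance, h1.trans LK, hc⟩
    have e := nil hT (eq_of_le_of_card_ge h1 this).ge
    exact LN (e ▸ bot_le)
  obtain ⟨a, aL, aN⟩ := SetLike.not_le_iff_exists.1 LN
  obtain ⟨k, hk⟩ : ∃ k, a ^ 2 ^ k = 1 := hT a
  have ex : ∃ j, a ^ 2 ^ j ∈ N := ⟨k, hk ▸ one_mem _⟩
  have h0 : Nat.find ex ≠ 0 := fun e => aN (by simpa [e] using Nat.find_spec ex)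
  obtain ⟨j, hj⟩ := Nat.exists_eq_succ_of_ne_zero h0
  refine ⟨a ^ 2 ^ j, LK (pow_mem aL _), Nat.find_min ex (by omega), ?_,
    fun g => h2 (commutator_mem_commutator (pow_mem aL _) (mem_top g))⟩
  have := Nat.find_spec ex
  rw [hj, pow_succ, pow_mul, pow_two] at this
  exact this

theorem fin [Finite T] (hT : IsPGroup 2 T) (T0 F : Subgroup T) [h0 : T0.Normal] [hF : F.Normal]
    (FT : F ≤ T0) (cm : ∀ a b, a * a ∈ T0 → b * b ∈ T0 → a * b * a⁻¹ * b⁻¹ ∈ T0)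
    (sq : ∀ w, w * w ∈ T0 → w * w ∈ F)
    (tr : ∀ z, z ∉ T0 → z * z ∈ T0 → (∀ g, g * z * g⁻¹ * z⁻¹ ∈ T0) → ∀ v ∈ T0,
      ∃ g, (z * v)⁻¹ * (g * z * g⁻¹) ∈ F)
    (lf : ∀ y, y ∉ T0 → y * y ∈ T0 → F ≤ ⁅T0 ⊔ zpowers y, T0 ⊔ zpowers y⁆)
    (t₀ : T) (ht : t₀ * t₀ ∉ T0) : F = ⊥ := by
  let W : Subgroup T :=
    { carrier := {w | w * w ∈ T0}
      one_mem' := by simp
      mul_mem' := fun {a b} ha hb => by
        have h1 := h0.conj_mem _ (cm a⁻¹ b (by rw [← mul_inv_rev]; exact inv_mem ha) hb) (a * a)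
        have e : a * b * (a * b) = a * a * (a⁻¹ * b * a⁻¹⁻¹ * b⁻¹) * (a * a)⁻¹ * (a * a) * (b * b) := by
          group
        show a * b * (a * b) ∈ T0
        rw [e]
        exact mul_mem (mul_mem h1 ha) hb
      inv_mem' := fun {a} ha => by
        show a⁻¹ * a⁻¹ ∈ T0
        rw [← mul_inv_rev]; exact inv_mem ha }
  have mW : ∀ w, w ∈ W ↔ w * w ∈ T0 := fun _ => Iff.rfl
  haveI Wn : W.Normal := ⟨fun a ha g => by
    have e : g * a * g⁻¹ * (g * a * g⁻¹) = g * (a * a) * g⁻¹ := by group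
    rw [mW, e]; exact h0.conj_mem _ ha g⟩
  have TW : T0 ≤ W := fun a ha => mul_mem ha ha
  let π := QuotientGroup.mk' F
  have s1 : ∀ w ∈ W, π w * π w = 1 := fun w hw => by
    rw [← map_mul]; exact (QuotientGroup.eq_one_iff _).2 (sq w hw)
  have s2 : ∀ w ∈ W, (π w)⁻¹ = π w := fun w hw => inv_eq_of_mul_eq_one_right (s1 w hw)
  have c1 : ∀ a ∈ W, ∀ b ∈ W, Commute (π a) (π b) := fun a ha b hb => by
    have := s2 _ (mul_mem ha hb)
    rw [map_mul, mul_inv_rev, s2 a ha, s2 b hb] at this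
    exact this.symm
  have WW : ⁅W, W⁆ ≤ F := commutator_le.2 fun a ha b hb => (cq F a b).2 (c1 a ha b hb)
  obtain ⟨t, -, tW, tt, tc⟩ := cent hT W ⊤ (fun h => ht (h (mem_top t₀)))
  let U : Subgroup T := W ⊔ zpowers t
  have UZ : U ≤ Cz W ⊤ := sup_le (cle.1 (commutator_le_right ⊤ W))
    (zpowers_le.2 (cle'.1 (commutator_le.2 fun a ha g _ => by
      have : zpowers t ≤ Cz W (zpowers g) := zpowers_le.2 (mem_Cz.2 fun b _ => by
        rw [← commutatorElement_inv]; exact inv_mem (tc b))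
      have := mem_Cz.1 (this ha) g (mem_zpowers g)
      rw [← commutatorElement_inv]; exact inv_mem this) (mem_zpowers t)))
  haveI Un : U.Normal := ⟨fun u hu g => by
    have h1 : ⁅g, u⁆ ∈ U := (le_sup_left : W ≤ U) (mem_Cz.1 (UZ hu) g (mem_top g))
    have e : g * u * g⁻¹ = ⁅g, u⁆ * u := by rw [commutatorElement_def]; group
    rw [e]; exact mul_mem h1 hu⟩
  have tU : t ∈ U := (le_sup_right : zpowers t ≤ U) (mem_zpowers t)
  let C : Subgroup T := W ⊓ Cz F U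
  have mC : ∀ a ∈ W, Commute (π t) (π a) → a ∈ C := fun a ha h => by
    refine ⟨ha, ?_⟩
    have : U ≤ Cz F (zpowers a) := sup_le (cle.1 ((commutator_mono (zpowers_le.2 ha) le_rfl).trans WW))
      (zpowers_le.2 (mem_Cz.2 fun b hb => by
        obtain ⟨k, rfl⟩ := mem_zpowers_iff.1 hb
        refine (cq F _ _).2 ?_
        rw [map_zpow]
        exact h.symm.zpow_left k))
    exact cle'.1 (cle.2 this) (mem_zpowers a)
  have FC : F ≤ C := le_inf (FT.trans TW) (cle.1 (commutator_le_right U F))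
  let I : Subgroup T := ⁅W, U⁆ ⊔ F
  have IC : I ≤ C := by
    refine sup_le (cle.2 (sup_le (cle.1 (WW.trans FC)) (zpowers_le.2 (mem_Cz.2 fun w hw => ?_)))) FC
    have hy : t * w * t⁻¹ ∈ W := Wn.conj_mem w hw t
    have e : ⁅w, t⁆ = w * (t * w * t⁻¹)⁻¹ := by rw [commutatorElement_def]; group
    refine mC _ (e ▸ mul_mem hw (inv_mem hy)) ?_
    rw [e, map_mul, map_inv, s2 _ hy]
    have q := (c1 _ tt w hw).eq
    have q2 := (c1 w hw _ hy).eq
    simp only [map_mul, map_inv] at q q2 ⊢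
    show π t * (π w * (π t * π w * (π t)⁻¹)) = π w * (π t * π w * (π t)⁻¹) * π t
    calc π t * (π w * (π t * π w * (π t)⁻¹))
        = π t * (π t * π w * (π t)⁻¹ * π w) := by rw [q2]
      _ = (π t * π t * π w) * (π t)⁻¹ * π w := by group
      _ = π w * (π t * π w) := by rw [q]; group
      _ = _ := by group
  have hz : ∃ z, z ∉ T0 ∧ z * z ∈ T0 ∧ ∀ g, g * z * g⁻¹ * z⁻¹ ∈ T0 ⊓ I := by
    by_cases hI : I ≤ T0
    · refine ⟨t * t, tW, tt, fun g => ?_⟩
      have hw : ⁅g, t⁆ ∈ W := by rw [← commutatorElement_inv]; exact inv_mem (tc g)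
      have e : g * (t * t) * g⁻¹ * (t * t)⁻¹ = ⁅g, t⁆ * ⁅g, t⁆ * ⁅⁅g, t⁆⁻¹, t⁆ := by
        simp only [commutatorElement_def]; group
      have : g * (t * t) * g⁻¹ * (t * t)⁻¹ ∈ I := by
        rw [e]
        exact mul_mem ((le_sup_right : F ≤ I) (sq _ hw))
          ((le_sup_left : ⁅W, U⁆ ≤ I) (commutator_mem_commutator (inv_mem hw) tU))
      exact ⟨hI this, this⟩
    · obtain ⟨z, zI, z0, zz, zc⟩ := cent hT T0 I hI
      refine ⟨z, z0, zz, fun g => mem_inf.2 ⟨?_, I.mul_mem ((inferInstance : I.Normal).conj_mem z zI g)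
        (I.inv_mem zI)⟩⟩
      have := inv_mem (zc g)
      rwa [commutatorElement_inv, commutatorElement_def] at this
  obtain ⟨z, z0, zz, zc⟩ := hz
  have TI : T0 ≤ I := by
    intro v hv
    obtain ⟨g, hg⟩ := tr z z0 zz (fun g => (zc g).1) v hv
    have h1 := (inferInstance : I.Normal).conj_mem _ (zc g).2 z⁻¹
    have e : v = z⁻¹ * (g * z * g⁻¹ * z⁻¹) * z⁻¹⁻¹ * ((z * v)⁻¹ * (g * z * g⁻¹))⁻¹ := by group
    rw [e]
    exact mul_mem h1 (inv_mem ((le_sup_right : F ≤ I) hg))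
  let M : Subgroup T := ⁅F, ⊤⁆
  have nM : ∀ A : Subgroup T, A ≤ normalizer (M : Set T) := fun A => by
    rw [normalizer_eq_top]; exact le_top
  have h3 : ⁅⁅W, U⁆, C⁆ ≤ M := H83.three_subgroups (nM _) (nM _) (nM _)
    (commutator_mono (cle.2 inf_le_right) le_top)
    (commutator_mono ((commutator_mono inf_le_left le_rfl).trans WW) le_top)
  have h4 : I ≤ Cz M C := sup_le (cle'.1 h3) (cle'.1 (commutator_mono le_rfl le_top))
  have ttC : t * t ∈ C := mC _ tt (by rw [map_mul]; exact (Commute.refl _).mul_right (Commute.refl _))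
  have h5 : T0 ⊔ zpowers (t * t) ≤ C := sup_le (TI.trans IC) (zpowers_le.2 ttC)
  have h6 : ⁅T0, T0 ⊔ zpowers (t * t)⁆ ≤ M := (commutator_mono le_rfl h5).trans (cle'.2 (TI.trans h4))
  refine nil hT ((lf (t * t) tW tt).trans (cle'.2 (sup_le (cle'.1 h6) (cle'.1 (cle.2 (sup_le ?_ ?_))))))
  · exact cle'.1 ((commutator_mono le_rfl le_sup_right).trans h6)
  · refine cle.1 (commutator_le.2 ?_)
    rintro _ ⟨i, rfl⟩ _ ⟨j, rfl⟩
    rw [commutatorElement_eq_one_iff_commute.2 ((Commute.refl (t * t)).zpow_zpow i j)]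
    exact one_mem _

end Cfsg.Agent.H78.PcEnd
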