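import Cfsg.Agent.H14.SPOm
import Cfsg.Agent.H61.Sharp3Even
import Cfsg.Agent.H64.BG12b1
import Cfsg.Agent.H29.Subfield

/-! The complement of `M` in `N(M)` when `N(M)` moves `Z`. -/

set_option autoImplicit false
set_option linter.unusedSectionVars false
set_option linter.style.haveILetI false

namespace Cfsg.Agent.H78.SP4

open Subgroup Cfsg.Agent.H63 Cfsg.Agent.H67 Cfsg.Agent.H14.SP Cfsg.Agent.H14.SP.Sx

variable {G : Type*} [Group G] [Finite G] {F : Type*} [Field F]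

/-- the kernel of the action of `N(M)` on the conjugates of `Z` -/
def gK (ι : Mo F →* G) : Subgroup G where
  carrier := {k | k ∈ N[gM ι] ∧ ∀ Y ∈ Om ι, cj k Y = Y}
  one_mem' := ⟨one_mem _, fun Y _ => cj_one Y⟩
  mul_mem' ha hb := ⟨mul_mem ha.1 hb.1, fun Y hY => by rw [cj_mul, hb.2 Y hY, ha.2 Y hY]⟩
  inv_mem' ha := ⟨inv_mem ha.1, fun Y hY => by conv_lhs => rw [← ha.2 Y hY, cj_inv_cj]⟩

variable {ι : Mo F →* G} {w : G}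

theorem M_le_K : gM ι ≤ gK ι := fun _ hm => ⟨le_normalizer hm, fun _ hY => cj_eq_of_mem_M hY hm⟩
theorem K_le_N : gK ι ≤ N[gZ ι] := fun _ hk => cj_eq_self_iff.1 (hk.2 _ Z_mem_Om)
theorem conj_K {g k : G} (hg : g ∈ N[gM ι]) (hk : k ∈ gK ι) : g * k * g⁻¹ ∈ gK ι :=
  ⟨mul_mem (mul_mem hg hk.1) (inv_mem hg), fun Y hY => by
    rw [cj_mul, cj_mul, hk.2 _ (cj_mem_Om hY (inv_mem hg)), cj_cj_inv]⟩
theorem x1_mem : ι (Mo.xx 1) ∈ gX ι := mem_map_of_mem _ (Mo.xx_mem 1)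
theorem X_le_B : gX ι ≤ gB ι := map_mono (Mo.X_le_Q.trans (Mo.Q_le_P.trans Mo.P_le_B))
theorem M_le_B : gM ι ≤ gB ι := map_mono (Mo.M_le_P.trans Mo.P_le_B)

variable (h : Sw ι w)
include h

theorem x1_ne : ι (Mo.xx 1) ≠ 1 := fun e => one_ne_zero (Mo.xx_eq_one.1 (h.eq_one.1 e))
theorem B_le_N : gB ι ≤ N[gZ ι] := (le_C _).trans h.C_le
theorem T_le_A : gT ι ≤ gA ι := (map_mono Mo.T_le_WT).trans h.WT_le_A

theorem pt {Y : Subgroup G} (hY : Y ∈ Om ι) (hn : Y ≠ gZ ι) :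
    ∃ x ∈ gX ι, cj x (cj w (gZ ι)) = Y := by
  obtain ⟨x, hx, e⟩ := h.exists_X h.nc hY hn
  have := (h.eq_or ⟨cj_mem_Om hY (X_le_H hx), e⟩).resolve_left (h.cj_ne hn (B_le_N h (X_le_B hx)))
  exact ⟨x⁻¹, inv_mem hx, by rw [← this, cj_inv_cj]⟩

theorem X_fix {x : G} (hx : x ∈ gX ι) (e : cj x (cj w (gZ ι)) = cj w (gZ ι)) : x = 1 :=
  h.X_unique h.Z'_mem h.Z'_ne hx (e.symm ▸ h.Z'_mem.2)

theorem T_cj {s : G} (hs : s ∈ gT ι) (x : G) :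
    cj s (cj x (cj w (gZ ι))) = cj (s * x * s⁻¹) (cj w (gZ ι)) := by
  rw [cj_mul, cj_mul, h.A_fix (inv_mem (T_le_A h hs))]

theorem T_trans {x x' : G} (hx : x ∈ gX ι) (hx' : x' ∈ gX ι) (h1 : x ≠ 1) (h1' : x' ≠ 1) :
    ∃ s ∈ gT ι, s * x * s⁻¹ = x' := by
  obtain ⟨x, hx, rfl⟩ := hx; obtain ⟨x', hx', rfl⟩ := hx'
  obtain ⟨s, hs, e⟩ := Mo.exists_T_conj_X hx hx' (fun e => h1 (h.eq_one.2 e))
    fun e => h1' (h.eq_one.2 e)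
  exact ⟨ι s, mem_map_of_mem _ hs, by rw [← e]; simp⟩

theorem Y3_mem : cj (ι (Mo.xx 1)) (cj w (gZ ι)) ∈ Om ι := cj_mem_Om h.Z'_mem.1 (X_le_H x1_mem)
theorem Y3_ne : cj (ι (Mo.xx 1)) (cj w (gZ ι)) ≠ cj w (gZ ι) := fun e => x1_ne h (X_fix h x1_mem e)
theorem Y3_ne' : cj (ι (Mo.xx 1)) (cj w (gZ ι)) ≠ gZ ι :=
  h.cj_ne h.Z'_ne (B_le_N h (X_le_B x1_mem))

theorem norm2 {Y Y' : Subgroup G} (hY : Y ∈ Om ι) (hY' : Y' ∈ Om ι) (hn : Y ≠ gZ ι)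
    (hn' : Y' ≠ gZ ι) (e : Y ≠ Y') : ∃ c ∈ gB ι, cj c Y = cj w (gZ ι) ∧
      cj c Y' = cj (ι (Mo.xx 1)) (cj w (gZ ι)) := by
  obtain ⟨x, hx, rfl⟩ := pt h hY hn
  obtain ⟨x', hx', rfl⟩ := pt h hY' hn'
  obtain ⟨s, hs, e1⟩ := T_trans h (mul_mem (inv_mem hx) hx') x1_mem
    (fun a => e (by rw [inv_mul_eq_one.1 a])) (x1_ne h)
  refine ⟨s * x⁻¹, mul_mem (map_mono Mo.T_le_B hs) (inv_mem (X_le_B hx)), ?_, ?_⟩
  · rw [cj_mul, cj_inv_cj, h.A_fix (T_le_A h hs)]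
  · rw [cj_mul, cj_cj x⁻¹, T_cj h hs, e1]

theorem norm3 {Y Y' Y'' : Subgroup G} (hY : Y ∈ Om ι) (hY' : Y' ∈ Om ι) (hY'' : Y'' ∈ Om ι)
    (e : Y ≠ Y') (e' : Y' ≠ Y'') (e'' : Y ≠ Y'') : ∃ c ∈ N[gM ι], cj c Y = gZ ι ∧
      cj c Y' = cj w (gZ ι) ∧ cj c Y'' = cj (ι (Mo.xx 1)) (cj w (gZ ι)) := by
  obtain ⟨k, hk, rfl⟩ := hY
  have n : ∀ {Y}, cj k (gZ ι) ≠ Y → cj k⁻¹ Y ≠ gZ ι := fun a b => a (by rw [← b, cj_cj_inv])
  obtain ⟨c, hc, e1, e2⟩ := norm2 h (cj_mem_Om hY' (inv_mem hk)) (cj_mem_Om hY'' (inv_mem hk))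
    (n e) (n e'') fun a => e' (cj_injective _ a)
  exact ⟨c * k⁻¹, mul_mem (B_le_NM hc) (inv_mem hk),
    by rw [cj_mul, cj_inv_cj, cj_eq_self (B_le_N h hc)], by rw [cj_mul, e1], by rw [cj_mul, e2]⟩

theorem mem_M {y a : G} (hy : y ∈ gP ι) (ha : a ∈ gA ι)
    (e : cj (y * a) (cj w (gZ ι)) = cj w (gZ ι)) : y ∈ gM ι := by
  obtain ⟨m, hm, x, hx, rfl⟩ := exists_MX hy
  rw [cj_mul, h.A_fix ha, cj_mul, cj_eq_of_mem_M (cj_mem_Om h.Z'_mem.1 (X_le_H hx)) hm] at e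
  rwa [X_fix h hx e, mul_one]

theorem sharp {k : G} (hk : k ∈ N[gM ι]) (e1 : cj k (gZ ι) = gZ ι)
    (e2 : cj k (cj w (gZ ι)) = cj w (gZ ι))
    (e3 : cj k (cj (ι (Mo.xx 1)) (cj w (gZ ι))) = cj (ι (Mo.xx 1)) (cj w (gZ ι))) : k ∈ gK ι := by
  refine ⟨hk, fun Y hY => ?_⟩
  obtain ⟨y, hy, a, ha, rfl⟩ := h.isMul_QA.2.2 k ⟨hk, cj_eq_self_iff.1 e1⟩
  have hm := mem_M h (map_mono Mo.Q_le_P hy) ha e2
  by_cases h1 : Y = gZ ι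
  · rwa [h1]
  obtain ⟨x, hx, rfl⟩ := pt h hY h1
  by_cases h2 : x = 1
  · rwa [h2, cj_one]
  obtain ⟨s, hs, rfl⟩ := T_trans h x1_mem hx (x1_ne h) h2
  rw [cj_mul, cj_eq_of_mem_M (cj_mem_Om (Y3_mem h) ha.1.1) hm] at e3
  rw [cj_mul, cj_eq_of_mem_M (cj_mem_Om hY ha.1.1) hm, ← T_cj h hs, cj_cj,
    show a * s = a * s * a⁻¹ * s⁻¹ * s * a by group, cj_mul, e3, cj_mul,
    cj_eq_of_mem_M (cj_mem_Om (Y3_mem h) (T_le_A h hs).1.1) (map_mono Mo.W_le_M (h.comm_AT ha hs))]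

theorem K_inf_C {k : G} (hk : k ∈ gK ι) (hc : k ∈ gC ι) : k ∈ gM ι := by
  obtain ⟨y, hy, s, hs, rfl⟩ := exists_PT (h.mem_B hc hk.1)
  have hm := mem_M h hy (T_le_A h hs) (hk.2 _ h.Z'_mem.1)
  have e := hk.2 _ (Y3_mem h)
  rw [cj_mul, cj_eq_of_mem_M (cj_mem_Om (Y3_mem h) (T_le_A h hs).1.1) hm, T_cj h hs] at e
  have e1 := X_fix h (mul_mem (inv_mem x1_mem) (conj_mem_of_mem_normalizer (T_le_NX hs) x1_mem))
    (by rw [cj_mul, e, cj_inv_cj])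
  rw [inv_mul_eq_one, eq_mul_inv_iff_mul_eq] at e1
  obtain ⟨s, hs', rfl⟩ := hs
  rw [← map_mul, ← map_mul, h.eq] at e1
  rwa [Mo.eq_one_of_comm_X hs' (Mo.xx_mem 1) (fun e => one_ne_zero (Mo.xx_eq_one.1 e)) e1.symm,
    map_one, mul_one]

theorem exists_BK {b : G} (hb : b ∈ N[gM ι]) (hb' : b ∈ N[gZ ι]) :
    ∃ c ∈ gB ι, ∃ k ∈ gK ι, b = c * k := by
  obtain ⟨c, hc, e1, e2⟩ := norm2 h (cj_mem_Om h.Z'_mem.1 hb) (cj_mem_Om (Y3_mem h) hb)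
    (h.cj_ne h.Z'_ne hb') (h.cj_ne (Y3_ne' h) hb') fun a => Y3_ne h (cj_injective _ a).symm
  exact ⟨c⁻¹, inv_mem hc, c * b, sharp h (mul_mem (B_le_NM hc) hb)
    (cj_eq_self (mul_mem (B_le_N h hc) hb')) (by rw [cj_mul, e1]) (by rw [cj_mul, e2]), by group⟩

theorem exists_J : ∃ J, IsSdp (gM ι) J N[gM ι] := by
  obtain ⟨p, hp, _⟩ := h.exists_p
  refine H64.gaschutz_split (U := gP ι) (A := gX ι) ⟨le_normalizer, le_rfl⟩ isComm_M P_le_H ?_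
    (isSdp_of_isMul ⟨map_mono Mo.M_le_P, map_mono (Mo.X_le_Q.trans Mo.Q_le_P), fun _ => exists_MX⟩
      X_le_H (h.inf_bot Mo.M_inf_X))
  obtain ⟨n, hn⟩ := IsPGroup.iff_card.1 (h.isP (p := p) Mo.M_le_P)
  rw [hn]
  exact ((Nat.Prime.coprime_iff_not_dvd hp.out).2 (syl_not_dvd h.syl_H)).pow_left n

variable {J : Subgroup G} (hJ : IsSdp (gM ι) J N[gM ι])
include hJ

omit h in
theorem exists_j {g : G} (hg : g ∈ N[gM ι]) :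
    ∃ m ∈ gM ι, ∃ j ∈ J, g = m * j ∧ ∀ Y ∈ Om ι, cj j Y = cj g Y := by
  obtain ⟨m, hm, j, hj, rfl⟩ := hJ.exists_mul hg
  exact ⟨m, hm, j, hj, rfl, fun Y hY => by
    rw [cj_mul, cj_eq_of_mem_M (cj_mem_Om hY (hJ.le_right hj)) hm]⟩

omit h in
theorem exists_jC {g : G} (hg : g ∈ gB ι) :
    ∃ m ∈ gM ι, ∃ j ∈ gC ι ⊓ J, g = m * j ∧ ∀ Y ∈ Om ι, cj j Y = cj g Y := by
  obtain ⟨m, hm, j, hj, e, k⟩ := exists_j hJ (B_le_NM hg)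
  exact ⟨m, hm, j, ⟨(mul_mem_cancel_left (le_C _ hm)).1 (e ▸ le_C _ hg), hj⟩, e, k⟩

theorem K1_inf : (gK ι ⊓ J) ⊓ gC ι = ⊥ := eq_bot_iff.2 fun _ hk =>
  mem_bot.2 (hJ.eq_one (K_inf_C h hk.1.1 hk.2) hk.1.2)

omit h in
theorem K1_normal : (gK ι ⊓ J) ⊴ J := ⟨inf_le_right, fun _ hj => mem_normalizer_of_cj_le
  (cj_le_iff.2 fun _ hk => mem_inf.2
    ⟨conj_K (hJ.le_right hj) hk.1, mul_mem (mul_mem hj hk.2) (inv_mem hj)⟩)⟩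

theorem isMul_B1 : IsMul (gC ι ⊓ J) (gK ι ⊓ J) (N[gZ ι] ⊓ J) := by
  refine ⟨inf_le_inf_right _ h.C_le, inf_le_inf_right _ K_le_N, fun b hb => ?_⟩
  obtain ⟨c, hc, k, hk, e⟩ := exists_BK h (hJ.le_right hb.2) hb.1
  obtain ⟨m, hm, j, hj, rfl, -⟩ := exists_jC hJ hc
  refine ⟨j, hj, j⁻¹ * b, mem_inf.2 ⟨?_, J.mul_mem (J.inv_mem hj.2) hb.2⟩, by group⟩
  have := mul_mem (conj_K (inv_mem (hJ.le_right hj.2)) (M_le_K hm)) hk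
  rwa [show j⁻¹ * m * j⁻¹⁻¹ * k = j⁻¹ * b by rw [e]; group] at this

theorem card_K1 : 2 * Nat.card ↥(gK ι ⊓ J) = Nat.card F - 1 := by
  have h1 : IsMul (gC ι) (gK ι ⊓ J) N[gZ ι] := by
    refine ⟨h.C_le, inf_le_left.trans K_le_N, fun g hg => ?_⟩
    obtain ⟨c, hc, s, hs, rfl⟩ := h.exists_CT' hg
    obtain ⟨m, hm, j, hj, rfl, -⟩ := exists_j hJ (h.T'_le_A hs).1.1
    obtain ⟨c', hc', k, hk, rfl⟩ := (isMul_B1 h hJ).2.2 j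
      ⟨(mul_mem_cancel_left (B_le_N h (M_le_B hm))).1 (h.T'_le_A hs).2, hj⟩
    exact ⟨c * m * c', mul_mem (mul_mem hc (le_C _ hm)) hc'.1, k, hk, by group⟩
  have h2 := card_inf_mul_relIndex (gC ι) (gK ι ⊓ J)
  rw [inf_comm, K1_inf h hJ, card_bot, one_mul] at h2
  rw [← h2, (isMul_iff_relIndex h1.2.1 h1.1).1 h1.symm, h.index_N]

theorem cyc_K1 : IsCyclic ↥(gK ι ⊓ J) := by
  haveI := h.finF
  haveI := h.C_normal.normal_subgroupOf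
  haveI : IsCyclic (gT ι) := (equivMapOfInjective _ ι h.inj).isCyclic.1 Mo.isCyclic_T
  haveI : IsCyclic (cj w (gT ι)) := isCyclic_cj_iff.2 ‹_›
  haveI : IsCyclic (N[gZ ι] ⧸ (gC ι).subgroupOf N[gZ ι]) := by
    refine isCyclic_of_surjective ((QuotientGroup.mk' _).comp
      (inclusion (h.T'_le_A.trans inf_le_right))) fun q => ?_
    obtain ⟨g, rfl⟩ := QuotientGroup.mk'_surjective _ q
    obtain ⟨c, hc, s, hs, e⟩ := h.exists_CT' g.2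
    refine ⟨⟨s, hs⟩, QuotientGroup.eq.2 ?_⟩
    change s⁻¹ * g ∈ gC ι
    rw [e, ← mul_assoc]
    exact conj_mem_of_mem_normalizer' (h.le_NC (h.T'_le_A hs).2) hc
  refine isCyclic_of_injective ((QuotientGroup.mk' ((gC ι).subgroupOf N[gZ ι])).comp
    (inclusion (inf_le_left.trans K_le_N))) ((injective_iff_map_eq_one _).2 fun k hk => ?_)
  have hk' := (QuotientGroup.eq_one_iff (N := (gC ι).subgroupOf N[gZ ι]) _).1 hk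
  exact Subtype.ext (mem_bot.1 ((K1_inf h hJ).le ⟨k.2, hk'⟩))

theorem comm_K1 : IsMulCommutative ↥(gK ι ⊓ J) := by
  haveI := cyc_K1 h hJ
  infer_instance

theorem cent_K1 : J ≤ C[gK ι ⊓ J] := by
  have a1 : gC ι ⊓ J ≤ C[gK ι ⊓ J] := fun b hb => mem_centralizer_iff.2 fun k hk => by
    have : k * b * k⁻¹ * b⁻¹ ∈ (gK ι ⊓ J) ⊓ gC ι := by
      refine mem_inf.2 ⟨?_, (gC ι).mul_mem
        (conj_mem_of_mem_normalizer (h.le_NC (K_le_N hk.1)) hb.1) ((gC ι).inv_mem hb.1)⟩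
      have := mul_mem hk (conj_mem_of_mem_normalizer ((K1_normal hJ).2 hb.2) (inv_mem hk))
      rwa [← mul_assoc, ← mul_assoc] at this
    rw [K1_inf h hJ, mem_bot, mul_inv_eq_one, mul_inv_eq_iff_eq_mul] at this
    exact this
  have a2 : N[gZ ι] ⊓ J ≤ C[gK ι ⊓ J] :=
    (isMul_B1 h hJ).le_of_le a1 (le_centralizer_iff_isMulCommutative.2 (comm_K1 h hJ))
  obtain ⟨-, -, j1, hj1, -, e1⟩ := exists_jC hJ (X_le_B (x1_mem (ι := ι)))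
  obtain ⟨-, -, j2, hj2, -, e2⟩ := exists_j hJ h.mem.1
  have a3 : j2 * j1 * j2⁻¹ ∈ C[gK ι ⊓ J] := conj_mem_of_mem_normalizer
    (normalizer_le_normalizer_centralizer _ ((K1_normal hJ).2 hj2)) (a1 hj1)
  have a4 : j2 * j1 * j2⁻¹ ∈ J := mul_mem (mul_mem hj2 hj1.2) (inv_mem hj2)
  have a5 : cj (j2 * j1 * j2⁻¹) (gZ ι) ≠ gZ ι := fun e => by
    have b : cj j2 (cj w (gZ ι)) = gZ ι := by rw [e2 _ h.Z'_mem.1, h.cj_cj_Z]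
    rw [← b, cj_mul, cj_inv_cj, cj_mul, e1 _ h.Z'_mem.1] at e
    exact Y3_ne h (cj_injective _ e)
  generalize j2 * j1 * j2⁻¹ = j' at a3 a4 a5
  intro j hj
  by_cases hn : cj j (gZ ι) = gZ ι
  · exact a2 ⟨cj_eq_self_iff.1 hn, hj⟩
  obtain ⟨x, hx, e3⟩ := pt h (cj_mem_Om Z_mem_Om (hJ.le_right hj)) hn
  obtain ⟨x', hx', e4⟩ := pt h (cj_mem_Om Z_mem_Om (hJ.le_right a4)) a5
  obtain ⟨-, -, b, hb, -, e5⟩ := exists_jC hJ (X_le_B (mul_mem hx' (inv_mem hx)))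
  have e6 := e5 _ (cj_mem_Om Z_mem_Om (hJ.le_right hj))
  rw [cj_mul, ← e3, cj_inv_cj, e4, e3, cj_cj, cj_eq_cj_iff] at e6
  have a6 := a2 (mem_inf.2 ⟨e6, J.mul_mem (J.inv_mem a4) (J.mul_mem hb.2 hj)⟩)
  exact (mul_mem_cancel_left (a1 hb)).1 ((mul_mem_cancel_left (inv_mem a3)).1 a6)

theorem index_J : (N[gZ ι] ⊓ J).relIndex J = Nat.card F + 1 := by
  rw [inf_relIndex_right, ← h.ncard_Om, ← ncard_orbit H63.cj cj_one cj_mul (gZ ι)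
    (Γ := J) (K := N[gZ ι]) fun _ _ => cj_eq_self_iff]
  congr 1
  ext Y
  refine ⟨by rintro ⟨j, hj, rfl⟩; exact ⟨j, hJ.le_right hj, rfl⟩, ?_⟩
  rintro ⟨k, hk, rfl⟩
  obtain ⟨-, -, j, hj, -, e⟩ := exists_j hJ hk
  exact ⟨j, hj, e _ Z_mem_Om⟩

theorem exists_J0 : ∃ J0, IsDp (gK ι ⊓ J) J0 J := by
  obtain ⟨J0, h0⟩ := H64.gaschutz_split (U := N[gZ ι] ⊓ J) (A := gC ι ⊓ J) (K1_normal hJ)
    (comm_K1 h hJ) inf_le_right (by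
      have a := card_K1 h hJ
      have b := h.four
      rw [index_J h hJ]
      generalize Nat.card ↥(gK ι ⊓ J) = r at a
      rw [show Nat.card F + 1 = 2 * (r + 1) by omega]
      exact Nat.Coprime.mul_right (Nat.coprime_two_right.2 (Nat.odd_iff.2 (by omega))) (by simp))
    (isSdp_of_isMul (isMul_B1 h hJ).symm (inf_le_right.trans (K1_normal hJ).2)
      (eq_bot_iff.2 ((inf_le_inf_left _ inf_le_left).trans (K1_inf h hJ).le)))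
  exact ⟨J0, h0.isDp (h0.le_right.trans (cent_K1 h hJ))⟩

theorem iso_J0 [Fintype F] {p n : ℕ} (hp : p.Prime) (hp2 : p ≠ 2) (hn : Odd n)
    (hF : Fintype.card F = p ^ n) {J0 : Subgroup G} (h0 : IsDp (gK ι ⊓ J) J0 J) :
    Nonempty (J0 ≃* Matrix.ProjGenLinGroup (Fin 2) F) := by
  have hle : J0 ≤ N[gM ι] := h0.le_right.trans hJ.le_right
  letI : SMul J0 (Om ι) := ⟨fun g a => ⟨cj g a, cj_mem_Om a.2 (hle g.2)⟩⟩
  letI : MulAction J0 (Om ι) :=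
    { one_smul := fun a => Subtype.ext (cj_one _), mul_smul := fun g k a => Subtype.ext (cj_mul _ _ _) }
  haveI : Finite (Om ι) := (Set.toFinite _).to_subtype
  have key : H61.IsSharp3 J0 (Om ι) := by
    refine ⟨fun a b c a' b' c' h1 h2 h3 h4 h5 h6 => ?_, fun g a b c h1 h2 h3 e1 e2 e3 => ?_⟩
    · obtain ⟨k, hk, e1, e2, e3⟩ := norm3 h a.2 b.2 c.2 (Subtype.coe_ne_coe.2 h1)
        (Subtype.coe_ne_coe.2 h2) (Subtype.coe_ne_coe.2 h3)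
      obtain ⟨k', hk', f1, f2, f3⟩ := norm3 h a'.2 b'.2 c'.2 (Subtype.coe_ne_coe.2 h4)
        (Subtype.coe_ne_coe.2 h5) (Subtype.coe_ne_coe.2 h6)
      obtain ⟨-, -, j, hj, -, e⟩ := exists_j hJ (mul_mem (inv_mem hk') hk)
      obtain ⟨l, hl, g, hg, rfl⟩ := h0.exists_mul hj
      have e' : ∀ Y ∈ Om ι, cj g Y = cj k'⁻¹ (cj k Y) := fun Y hY => by
        rw [cj_cj, ← e Y hY, cj_mul, hl.1.2 _ (cj_mem_Om hY (hle hg))]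
      refine ⟨⟨g, hg⟩, Subtype.ext ?_, Subtype.ext ?_, Subtype.ext ?_⟩
      · exact (e' _ a.2).trans (by rw [e1, ← f1, cj_inv_cj])
      · exact (e' _ b.2).trans (by rw [e2, ← f2, cj_inv_cj])
      · exact (e' _ c.2).trans (by rw [e3, ← f3, cj_inv_cj])
    · obtain ⟨k, hk, f1, f2, f3⟩ := norm3 h a.2 b.2 c.2 (Subtype.coe_ne_coe.2 h1)
        (Subtype.coe_ne_coe.2 h2) (Subtype.coe_ne_coe.2 h3)
      have e : ∀ Y : Om ι, g • Y = Y → cj (k * g * k⁻¹) (cj k Y) = cj k Y := fun Y hY => by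
        rw [cj_mul, cj_inv_cj, cj_mul]; exact congrArg (cj k) (congrArg Subtype.val hY)
      have b1 := conj_K (inv_mem hk) (sharp h (mul_mem (mul_mem hk (hle g.2)) (inv_mem hk))
        (f1 ▸ e a e1) (f2 ▸ e b e2) (f3 ▸ e c e3))
      rw [show k⁻¹ * (k * g * k⁻¹) * k⁻¹⁻¹ = g by group] at b1
      exact Subtype.ext (h0.isSdp.eq_one ⟨b1, h0.le_right g.2⟩ g.2)
  obtain ⟨K, _, _, hK, ⟨e⟩⟩ := key.iso_PGL_of_odd_exponent hp hp2 hn (by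
    rw [Nat.card_coe_set_eq, h.ncard_Om, Nat.card_eq_fintype_card, hF])
  exact ⟨e.trans (H29.pglCongr (FiniteField.ringEquivOfCardEq (hK.trans hF.symm)))⟩

theorem main [Fintype F] {p n : ℕ} (hp : p.Prime) (hp2 : p ≠ 2) (hn : Odd n)
    (hF : Fintype.card F = p ^ n) : Nonempty
      (J ≃* (Matrix.ProjGenLinGroup (Fin 2) F × Multiplicative (ZMod ((p ^ n - 1) / 2)))) := by
  obtain ⟨J0, h0⟩ := exists_J0 h hJ
  obtain ⟨e1⟩ := iso_J0 h hJ hp hp2 hn hF h0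
  obtain ⟨e2⟩ := h0.symm.nonempty_equiv_prod
  have e3 := zmodCyclicMulEquiv (cyc_K1 h hJ)
  have a := card_K1 h hJ
  rw [Nat.card_eq_fintype_card (α := F), hF] at a
  rw [show Nat.card ↥(gK ι ⊓ J) = (p ^ n - 1) / 2 by omega] at e3
  exact ⟨e2.symm.trans (e1.prodCongr e3.symm)⟩

end Cfsg.Agent.H78.SP4
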