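import Cfsg.Agent.H78.Matching

set_option autoImplicit false

namespace Cfsg.Agent.H78

open Equiv Equiv.Perm

theorem exists_conj_mem_sylow {G : Type*} [Group G] [Finite G] {p : ℕ} [Fact p.Prime]
    (P : Sylow p G) {c : G} {k : ℕ} (hc : c ^ p ^ k = 1) :
    ∃ g : G, g * c * g⁻¹ ∈ (P : Subgroup G) := by
  have h1 : IsPGroup p (Subgroup.zpowers c) := by
    rintro ⟨_, m, rfl⟩
    exact ⟨k, Subtype.ext (by
      change (c ^ m) ^ p ^ k = 1
      rw [← zpow_natCast, ← zpow_mul, mul_comm, zpow_mul, zpow_natCast, hc, one_zpow])⟩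
  obtain ⟨Q, hQ⟩ := h1.exists_le_sylow
  obtain ⟨g, rfl⟩ := MulAction.exists_smul_eq G Q P
  exact ⟨g, c, hQ (Subgroup.mem_zpowers c), rfl⟩

variable {Ω : Type*} [Fintype Ω] [DecidableEq Ω]

omit [Fintype Ω] in
theorem cycleOn_pow_card {C : Finset Ω} {c : Perm Ω} (hc : c.IsCycleOn C) (hc' : c ∈ symOn C) :
    c ^ C.card = 1 := by
  ext x
  by_cases hx : x ∈ C
  · exact hc.pow_card_apply hx
  · exact (symOn C).pow_mem hc' _ x hx

theorem sign_swap_mul_swap {a b c d : Ω} (hab : a ≠ b) (hcd : c ≠ d) :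
    swap a b * swap c d ∈ alternatingGroup Ω := by
  change sign _ = 1
  rw [map_mul, sign_swap hab, sign_swap hcd]; rfl

theorem matching_fixed_iff_odd {t : Perm Ω} (ht : t * t = 1)
    (hfix : ∀ x y, t x = x → t y = y → x = y) : (∃ x, t x = x) ↔ Odd (Fintype.card Ω) := by
  have h2 : 2 ∣ t.support.card := two_dvd_card_support (by rw [pow_two, ht])
  constructor
  · rintro ⟨x, hx⟩
    have : t.support = Finset.univ.erase x := by
      ext y
      simp only [mem_support, Finset.mem_erase, Finset.mem_univ, and_true]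
      exact ⟨fun h h' => h (h' ▸ hx), fun h h' => h (hfix y x h' hx)⟩
    rw [this, Finset.card_erase_of_mem (Finset.mem_univ _), Finset.card_univ] at h2
    have : 0 < Fintype.card Ω := Fintype.card_pos_iff.2 ⟨x⟩
    exact Nat.odd_iff.2 (by omega)
  · intro h
    by_contra hne
    push Not at hne
    have : t.support = Finset.univ := by
      ext y; simpa using hne y
    rw [this, Finset.card_univ] at h2
    exact h.not_two_dvd_nat h2

theorem sylow_trans_of_two_pow_add_one {k : ℕ} (hk : 2 ≤ k) (hn : Fintype.card Ω = 2 ^ k + 1)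
    (P : Sylow 2 (Perm Ω)) {t : Perm Ω} (ht : t * t = 1)
    (hfix : ∀ x y, t x = x → t y = y → x = y) (hE : baseSub t ht ≤ P) {o : Ω}
    (ho : ∀ g ∈ (P : Subgroup (Perm Ω)), g o = o) {x y : Ω} (hx : x ≠ o) (hy : y ≠ o) :
    ∃ g ∈ (P : Subgroup (Perm Ω)) ⊓ alternatingGroup Ω, g x = y := by
  have : Fact (Nat.Prime 2) := ⟨Nat.prime_two⟩
  have h4 : 4 ≤ 2 ^ k := by
    calc 4 = 2 ^ 2 := rfl
      _ ≤ 2 ^ k := Nat.pow_le_pow_right (by norm_num) hk
  set C := Finset.univ.erase o with hC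
  have hCc : C.card = 2 ^ k := by
    rw [hC, Finset.card_erase_of_mem (Finset.mem_univ _), Finset.card_univ, hn]; rfl
  obtain ⟨c, hc, hc'⟩ := C.exists_cycleOn
  obtain ⟨g, hg⟩ := exists_conj_mem_sylow P (k := k)
    (hCc ▸ cycleOn_pow_card hc (mem_symOn_iff_support.2 hc'))
  have hgo : g⁻¹ o = o := by
    by_contra hne
    have h1 := ho _ hg
    rw [Perm.mul_apply, Perm.mul_apply, ← Perm.eq_inv_iff_eq] at h1
    exact hc.apply_ne (Finset.one_lt_card_iff_nontrivial.1 (by omega)) (by simpa [hC] using hne) h1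
  have hne : ∀ {z}, z ≠ o → g⁻¹ z ∈ C := fun {z} hz => by
    simpa [hC] using fun h => hz (g⁻¹.injective (h.trans hgo.symm))
  obtain ⟨i, -, hi⟩ := hc.exists_pow_eq (hne hx) (hne hy)
  have h1 : ((g * c * g⁻¹) ^ i) x = y := by
    rw [conj_pow, Perm.mul_apply, Perm.mul_apply, hi]; simp
  have h2 := (P : Subgroup (Perm Ω)).pow_mem hg i
  generalize (g * c * g⁻¹) ^ i = r at h1 h2
  rcases Int.units_eq_one_or (sign r) with h | h
  · exact ⟨r, ⟨h2, h⟩, h1⟩
  · obtain ⟨a, ha, ha'⟩ := exists_moved_notMem hfix {x, t x}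
      (by have := Finset.card_le_two (a := x) (b := t x); omega)
    simp only [Finset.mem_insert, Finset.mem_singleton, not_or] at ha'
    refine ⟨r * swap a (t a), ⟨(P : Subgroup (Perm Ω)).mul_mem h2 (hE (swap_mem_baseSub ht a)), ?_⟩,
      ?_⟩
    · change sign _ = 1
      rw [map_mul, h, sign_swap ha.symm]; rfl
    · rw [Perm.mul_apply, swap_apply_of_ne_of_ne (Ne.symm ha'.1)
        (fun h => ha'.2 (by rw [h, invol_apply ht])), h1]

theorem alt_le_of_two_pow_add_one {k : ℕ} (hk : 2 ≤ k) (hn : Fintype.card Ω = 2 ^ k + 1)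
    (P : Sylow 2 (Perm Ω)) : ∃ o : Ω, (∀ g ∈ (P : Subgroup (Perm Ω)), g o = o) ∧
      (∀ x, (∀ g ∈ (P : Subgroup (Perm Ω)) ⊓ alternatingGroup Ω, g x = x) → x = o) ∧
      ∀ M : Subgroup (Perm Ω), (P : Subgroup (Perm Ω)) ⊓ alternatingGroup Ω ≤ M →
        (∀ g ∈ M, g o = o) ∨ alternatingGroup Ω ≤ M := by
  obtain ⟨t, ht, hfix, hE, hP⟩ := exists_matching P
  have h4 : 4 ≤ 2 ^ k := by
    calc 4 = 2 ^ 2 := rfl
      _ ≤ 2 ^ k := Nat.pow_le_pow_right (by norm_num) hk
  obtain ⟨o, hto⟩ := (matching_fixed_iff_odd ht hfix).2 (by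
    rw [hn]; exact (Nat.even_pow.2 ⟨even_two, by omega⟩).add_one)
  have ho : ∀ g ∈ (P : Subgroup (Perm Ω)), g o = o := fun g hg =>
    hfix _ _ (by rw [← Perm.mul_apply, ← (hP g hg).eq, Perm.mul_apply, hto]) hto
  have htr := fun {x y} => sylow_trans_of_two_pow_add_one hk hn P ht hfix hE ho (x := x) (y := y)
  have hmv : ∀ {x}, x ≠ o → t x ≠ x := fun {x} hx h => hx (hfix _ _ h hto)
  have hto' : ∀ {x}, x ≠ o → t x ≠ o := fun {x} hx h => hx (t.injective (h.trans hto.symm))
  have hinv := invol_apply ht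
  refine ⟨o, ho, fun x hx => ?_, fun M hM => ?_⟩
  · by_contra hxo
    obtain ⟨g, hg, h⟩ := htr hxo (hto' hxo)
    exact hmv hxo (h.symm.trans (hx g hg))
  rw [or_iff_not_imp_left]
  intro hmove
  push Not at hmove
  obtain ⟨m, hm, hmo⟩ := hmove
  have hto1 : ∀ x, ∃ g ∈ M, g x = o := by
    intro x
    by_cases hx : x = o
    · exact ⟨1, M.one_mem, hx⟩
    · obtain ⟨g, hg, h⟩ := htr hx hmo
      exact ⟨m⁻¹ * g, M.mul_mem (M.inv_mem hm) (hM hg), by simp [h]⟩
  have hprim : MulAction.IsPreprimitive M Ω := by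
    refine MulAction.isPreprimitive_of_is_two_pretransitive
      (MulAction.is_two_pretransitive_iff.2 fun {a b c d} hab hcd => ?_)
    obtain ⟨g, hg, hga⟩ := hto1 a
    obtain ⟨h, hh, hhc⟩ := hto1 c
    obtain ⟨r, hr, hr'⟩ := htr (x := g b) (y := h d) (hga ▸ g.injective.ne hab.symm)
      (hhc ▸ h.injective.ne hcd.symm)
    refine ⟨⟨h⁻¹ * r * g, M.mul_mem (M.mul_mem (M.inv_mem hh) (hM hr)) hg⟩, ?_, ?_⟩
    · change h⁻¹ (r (g a)) = c
      rw [hga, ho r hr.1, ← hhc]; simp
    · change h⁻¹ (r (g b)) = d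
      rw [hr']; simp
  have hdt : ∀ {a c}, t a ≠ a → t c ≠ c → swap a (t a) * swap c (t c) ∈ M := fun {a c} ha hc =>
    hM ⟨hE ((baseSub t ht).mul_mem (swap_mem_baseSub ht a) (swap_mem_baseSub ht c)),
      sign_swap_mul_swap ha.symm hc.symm⟩
  suffices h3 : ∃ a b c, a ≠ b ∧ a ≠ c ∧ b ≠ c ∧ c3 a b c ∈ M by
    obtain ⟨a, b, c, h1, h2, h3, h4⟩ := h3
    exact alternatingGroup_le_of_isPreprimitive_of_isThreeCycle_mem hprim (isThreeCycle_c3 h1 h2 h3)
      h4
  obtain ⟨x, a, b, hxo, hao, hbo, hax, hbx, hab, hs⟩ : ∃ x a b, x ≠ o ∧ a ≠ o ∧ b ≠ o ∧ a ≠ x ∧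
      b ≠ x ∧ a ≠ b ∧ swap o x * swap a b ∈ M := by
    obtain ⟨a0, ha0, -⟩ := exists_moved_notMem hfix ∅ (by simp; omega)
    obtain ⟨c0, hc0, hc0'⟩ := exists_moved_notMem hfix {a0, t a0}
      (by have := Finset.card_le_two (a := a0) (b := t a0); omega)
    simp only [Finset.mem_insert, Finset.mem_singleton, not_or] at hc0'
    obtain ⟨g, hg, hga⟩ := hto1 a0
    have h1 : t c0 ≠ a0 := fun h => hc0'.2 (by rw [← h, hinv])
    refine ⟨g (t a0), g c0, g (t c0), hga ▸ g.injective.ne ha0, hga ▸ g.injective.ne hc0'.1,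
      hga ▸ g.injective.ne h1, g.injective.ne hc0'.2, g.injective.ne (t.injective.ne hc0'.1),
      g.injective.ne hc0.symm, ?_⟩
    rw [← hga, swap_apply_apply, swap_apply_apply, show ∀ s s' : Perm Ω,
      g * s * g⁻¹ * (g * s' * g⁻¹) = g * (s * s') * g⁻¹ by intro s s'; group]
    exact M.mul_mem (M.mul_mem hg (hdt ha0 hc0)) (M.inv_mem hg)
  by_cases hba : b = t a
  · refine ⟨o, x, t x, hxo.symm, (hto' hxo).symm, (hmv hxo).symm, ?_⟩
    have := M.mul_mem hs (hdt (hmv hao) (hmv hxo))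
    rwa [hba, mul_assoc, swap_mul_self_mul] at this
  wlog hatx : a ≠ t x generalizing a b
  · push Not at hatx
    exact this b a hbo hao hbx hax hab.symm (swap_comm a b ▸ hs)
      (fun h => hba (by rw [h, hinv])) (fun h => hab (hatx.trans h.symm))
  have hxta : x ≠ t a := fun h => hatx (by rw [h, hinv])
  rcases (by omega : k = 2 ∨ 3 ≤ k) with rfl | hk3
  · have huniv : ∀ z, z = o ∨ z = x ∨ z = t x ∨ z = a ∨ z = t a := by
      have : ({o, x, t x, a, t a} : Finset Ω) = Finset.univ := by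
        apply Finset.eq_univ_of_card
        rw [hn, Finset.card_insert_of_notMem, Finset.card_insert_of_notMem,
          Finset.card_insert_of_notMem, Finset.card_pair (hmv hao).symm]
        · rfl
        · simp [hatx.symm, hax.symm]
        · simp [hxta, hax.symm, (hmv hxo).symm]
        · simp [hxo.symm, hao.symm, (hto' hxo).symm, (hto' hao).symm]
      intro z
      simpa using Finset.ext_iff.1 this z
    have hb : b = t x := by
      rcases huniv b with h | h | h | h | h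
      exacts [absurd h hbo, absurd h hbx, h, absurd h hab.symm, absurd h hba]
    obtain ⟨r, hr, hrx⟩ := htr hxo (hto' hao)
    have hrt : ∀ z, r (t z) = t (r z) := fun z => by
      rw [← Perm.mul_apply, (hP r hr.1).eq, Perm.mul_apply]
    have hro := ho r hr.1
    have hrtx : r (t x) = a := by rw [hrt, hrx, hinv]
    have n1 := hmv hxo
    have n2 := hmv hao
    have n3 := hto' hxo
    have n4 := hto' hao
    have n5 : t a ≠ t x := t.injective.ne hax
    have hd : r * (swap x (t a) * swap (t x) a) ∈ baseSub t ht := by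
      intro z
      have hz := huniv (r a)
      have hz' := huniv (r (t a))
      have hrinj := r.injective
      rcases huniv z with h | h | h | h | h <;> rw [h] <;>
        simp only [Perm.mul_apply, swap_apply_def] <;> grind
    have hd' : swap x (t a) * swap (t x) a ∈ M := by
      refine hM ⟨?_, sign_swap_mul_swap hxta hatx.symm⟩
      have := (P : Subgroup (Perm Ω)).mul_mem ((P : Subgroup (Perm Ω)).inv_mem hr.1) (hE hd)
      rwa [inv_mul_cancel_left] at this
    refine ⟨o, x, t a, hxo.symm, n4.symm, hxta, ?_⟩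
    have := M.mul_mem hs hd'
    have e : swap o x * swap a b * (swap x (t a) * swap (t x) a) = c3 o x (t a) := by
      have h1 : swap a b * swap x (t a) * (swap a b)⁻¹ = swap x (t a) := by
        rw [← swap_apply_apply, swap_apply_of_ne_of_ne hax.symm hbx.symm,
          swap_apply_of_ne_of_ne n2 (Ne.symm hba)]
      rw [c3_def, ← hb, swap_comm b a, ← h1, swap_inv]
      simp only [mul_assoc, swap_mul_self_mul, swap_mul_self, mul_one]
      rw [swap_inv] at h1
      rw [← mul_assoc (swap a b), h1]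
    rwa [e] at this
  · have h8 : 8 ≤ 2 ^ k := by
      calc 8 = 2 ^ 3 := rfl
        _ ≤ 2 ^ k := Nat.pow_le_pow_right (by norm_num) hk3
    obtain ⟨c, hc, hc'⟩ := exists_moved_notMem hfix {x, t x, a, t a, b, t b}
      (by have := Finset.card_le_six (a := x) (b := t x) (c := a) (d := t a) (e := b) (f := t b)
          omega)
    simp only [Finset.mem_insert, Finset.mem_singleton, not_or] at hc'
    have hd := hdt (hmv hao) hc
    have hco : c ≠ o := fun h => hc (h ▸ hto)
    have htc : ∀ {z}, c ≠ t z → z ≠ t c := fun {z} h h' => h (by rw [h', hinv])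
    have h1 := M.mul_mem (M.mul_mem hd hs) (M.inv_mem hd)
    rw [show ∀ d s s' : Perm Ω, d * (s * s') * d⁻¹ = d * s * d⁻¹ * (d * s' * d⁻¹) by
      intro d s s'; group, ← swap_apply_apply, ← swap_apply_apply] at h1
    simp only [Perm.mul_apply] at h1
    rw [swap_apply_of_ne_of_ne hco.symm (hto' hco).symm,
      swap_apply_of_ne_of_ne hao.symm (hto' hao).symm,
      swap_apply_of_ne_of_ne (Ne.symm hc'.1) (htc hc'.2.1),
      swap_apply_of_ne_of_ne hax.symm hxta,
      swap_apply_of_ne_of_ne (Ne.symm hc'.2.2.1) (htc hc'.2.2.2.1), swap_apply_left,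
      swap_apply_of_ne_of_ne (Ne.symm hc'.2.2.2.2.1) (htc hc'.2.2.2.2.2),
      swap_apply_of_ne_of_ne hab.symm hba] at h1
    refine ⟨a, b, t a, hab, (hmv hao).symm, hba, ?_⟩
    have := M.mul_mem (M.inv_mem hs) h1
    rwa [mul_inv_rev, swap_inv, swap_inv, mul_assoc, swap_mul_self_mul, swap_comm (t a) b] at this

/-- The permutations that fix or complement the set `O`. -/
def halfSub (O : Finset Ω) : Subgroup (Perm Ω) where
  carrier := {g | (∀ x, g x ∈ O ↔ x ∈ O) ∨ ∀ x, g x ∈ O ↔ x ∉ O}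
  one_mem' := Or.inl fun _ => Iff.rfl
  mul_mem' := fun {g h} hg hh => by
    rcases hg with hg | hg <;> rcases hh with hh | hh
    · exact Or.inl fun x => (hg _).trans (hh x)
    · exact Or.inr fun x => (hg _).trans (hh x)
    · exact Or.inr fun x => (hg _).trans (not_congr (hh x))
    · exact Or.inl fun x => (hg _).trans ((not_congr (hh x)).trans not_not)
  inv_mem' := fun {g} hg => by
    rcases hg with hg | hg
    · exact Or.inl fun x => by simpa using (hg (g⁻¹ x)).symm
    · refine Or.inr fun x => ?_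
      have := hg (g⁻¹ x)
      simp only [Perm.coe_inv, apply_symm_apply] at this ⊢
      tauto

omit [Fintype Ω] in
theorem mem_halfSub {O : Finset Ω} {g : Perm Ω} :
    g ∈ halfSub O ↔ (∀ x, g x ∈ O ↔ x ∈ O) ∨ ∀ x, g x ∈ O ↔ x ∉ O := Iff.rfl

omit [Fintype Ω] in
theorem symOn_le_halfSub (O : Finset Ω) : symOn O ≤ halfSub O := fun g hg => Or.inl fun x => by
  by_cases hx : x ∈ O
  · exact iff_of_true (symOn_apply_mem hg hx) hx
  · rw [hg x hx]

omit [DecidableEq Ω] in
theorem exists_orbit_finset {P : Subgroup (Perm Ω)} {p : ℕ} [Fact p.Prime] (hP : IsPGroup p P)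
    (y : Ω) : ∃ O : Finset Ω, (∀ z, z ∈ O ↔ ∃ g ∈ P, g y = z) ∧ (∃ k, O.card = p ^ k) ∧
      ∀ g ∈ P, ∀ x, g x ∈ O ↔ x ∈ O := by
  classical
  have h1 : ∀ z, z ∈ (MulAction.orbit P y).toFinset ↔ ∃ g ∈ P, g y = z := fun z => by
    rw [Set.mem_toFinset]
    exact ⟨fun ⟨g, h⟩ => ⟨g, g.2, h⟩, fun ⟨g, hg, h⟩ => ⟨⟨g, hg⟩, h⟩⟩
  refine ⟨_, h1, ?_, fun g hg x => ?_⟩
  · obtain ⟨k, hk⟩ := hP.card_orbit y
    exact ⟨k, by rw [← hk, Nat.card_eq_fintype_card, Set.toFinset_card]⟩
  · rw [h1, h1]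
    exact ⟨fun ⟨h, hh, e⟩ => ⟨g⁻¹ * h, P.mul_mem (P.inv_mem hg) hh, by simp [e]⟩,
      fun ⟨h, hh, e⟩ => ⟨g * h, P.mul_mem hg hh, by simp [e]⟩⟩

theorem exists_half_of_isPGroup {P : Subgroup (Perm Ω)} (hP : IsPGroup 2 P)
    (hn : 6 ≤ Fintype.card Ω) :
    ∃ O : Finset Ω, 4 ≤ O.card ∧ O ≠ Finset.univ ∧ (P ≤ halfSub O ∨ ∃ x, ∀ g ∈ P, g x = x) := by
  classical
  have : Fact (Nat.Prime 2) := ⟨Nat.prime_two⟩
  obtain ⟨y⟩ : Nonempty Ω := Fintype.card_pos_iff.1 (by omega)
  obtain ⟨O, hO, ⟨k, hk⟩, hO'⟩ := exists_orbit_finset hP y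
  have hyO : y ∈ O := (hO y).2 ⟨1, P.one_mem, rfl⟩
  by_cases hu : O = Finset.univ
  · have hst : MulAction.stabilizer P y ≠ ⊤ := by
      intro h
      obtain ⟨z, hz⟩ := Fintype.exists_ne_of_one_lt_card (by omega) y
      obtain ⟨g, hg, rfl⟩ := (hO z).1 (hu ▸ Finset.mem_univ z)
      have : (⟨g, hg⟩ : P) ∈ MulAction.stabilizer P y := h ▸ Subgroup.mem_top _
      exact hz this
    obtain ⟨N, hN⟩ := IsPGroup.iff_card.1 hP
    obtain ⟨m, hm⟩ := IsPGroup.iff_card.1 (hP.to_subgroup (MulAction.stabilizer P y))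
    have hmN : m < N := by
      by_contra h
      refine hst (Subgroup.eq_top_of_le_card _ ?_)
      rw [hm, hN]
      exact Nat.pow_le_pow_right (by norm_num) (by omega)
    obtain ⟨K, hK, hKs⟩ := Sylow.exists_subgroup_card_pow_prime_le 2 (m := N - 1)
      (hN ▸ pow_dvd_pow 2 (Nat.sub_le N 1)) _ hm (by omega)
    have hKi : K.index = 2 := by
      have := K.card_mul_index
      rw [hK, hN, show N = N - 1 + 1 by omega, pow_succ, Nat.add_sub_cancel] at this
      exact Nat.eq_of_mul_eq_mul_left (by positivity) this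
    let O' : Finset Ω := Finset.univ.filter fun z => ∃ g ∈ K, (g : Perm Ω) y = z
    have hmem : ∀ h : P, (h : Perm Ω) y ∈ O' ↔ h ∈ K := by
      intro h
      simp only [O', Finset.mem_filter, Finset.mem_univ, true_and]
      refine ⟨fun ⟨g, hg, e⟩ => ?_, fun hh => ⟨h, hh, rfl⟩⟩
      have : g⁻¹ * h ∈ K := hKs (by
        change (g : Perm Ω)⁻¹ ((h : Perm Ω) y) = y
        rw [← e]; simp)
      simpa using K.mul_mem hg this
    have hkey : ∀ g : P, ∀ x, ((g : Perm Ω) x ∈ O' ↔ (g ∈ K ↔ x ∈ O')) := by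
      intro g x
      obtain ⟨h, hh, rfl⟩ := (hO x).1 (hu ▸ Finset.mem_univ x)
      rw [hmem ⟨h, hh⟩, ← Subgroup.mul_mem_iff_of_index_two hKi, ← hmem]; rfl
    obtain ⟨g, hg⟩ : ∃ g, g ∉ K := by
      by_contra h
      push Not at h
      rw [(Subgroup.eq_top_iff' K).2 h, Subgroup.index_top] at hKi
      exact absurd hKi (by decide)
    refine ⟨O', ?_, fun h => hg ((hmem g).1 (h ▸ Finset.mem_univ _)), Or.inl fun h hh => ?_⟩
    · have h1 : O'ᶜ.card ≤ O'.card := Finset.card_le_card_of_injOn (g : Perm Ω)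
        (fun x hx => by
          have := hkey g x
          simp only [Finset.coe_compl, Set.mem_compl_iff, Finset.mem_coe] at hx ⊢
          tauto) (g : Perm Ω).injective.injOn
      rw [Finset.card_compl] at h1
      rw [hu, Finset.card_univ] at hk
      have : 3 ≤ k := by
        by_contra h
        have : k = 0 ∨ k = 1 ∨ k = 2 := by omega
        rcases this with rfl | rfl | rfl <;> omega
      have : 2 ^ 3 ≤ 2 ^ k := Nat.pow_le_pow_right (by norm_num) this
      omega
    · by_cases hK' : (⟨h, hh⟩ : P) ∈ K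
      · exact Or.inl fun x => (hkey ⟨h, hh⟩ x).trans (by tauto)
      · exact Or.inr fun x => (hkey ⟨h, hh⟩ x).trans (by tauto)
  · by_cases h4 : 4 ≤ O.card
    · exact ⟨O, h4, hu, Or.inl fun g hg => Or.inl (hO' g hg)⟩
    · refine ⟨Oᶜ, ?_, fun h => Finset.mem_compl.1 (h ▸ Finset.mem_univ y) hyO,
        Or.inl fun g hg => Or.inl fun x => by simp [hO' g hg]⟩
      rw [Finset.card_compl]
      have : k ≤ 1 := by
        by_contra h
        have : 2 ^ 2 ≤ 2 ^ k := Nat.pow_le_pow_right (by norm_num) (by omega)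
        omega
      have : 2 ^ k ≤ 2 ^ 1 := Nat.pow_le_pow_right (by norm_num) this
      omega

theorem exists_two_overgroups (hn : 5 ≤ Fintype.card Ω)
    (hk : ∀ k, 2 ≤ k → Fintype.card Ω ≠ 2 ^ k + 1) (P : Sylow 2 (Perm Ω)) :
    ∃ H₁ H₂ : Subgroup (Perm Ω), (P : Subgroup (Perm Ω)) ≤ H₁ ∧ (P : Subgroup (Perm Ω)) ≤ H₂ ∧
      ¬ alternatingGroup Ω ≤ H₁ ∧ ¬ alternatingGroup Ω ≤ H₂ ∧
      ∀ M : Subgroup (Perm Ω), H₁ ⊓ alternatingGroup Ω ≤ M → H₂ ⊓ alternatingGroup Ω ≤ M →
        alternatingGroup Ω ≤ M := by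
  have : Fact (Nat.Prime 2) := ⟨Nat.prime_two⟩
  obtain ⟨t, ht, hfix, hE, hP⟩ := exists_matching P
  have hinv := invol_apply ht
  rcases Nat.even_or_odd (Fintype.card Ω) with hev | hod
  · have hmv : ∀ x, t x ≠ x := fun x hx =>
      Nat.not_odd_iff_even.2 hev ((matching_fixed_iff_odd ht hfix).1 ⟨x, hx⟩)
    have h6 : 6 ≤ Fintype.card Ω := by obtain ⟨r, hr⟩ := hev; omega
    obtain ⟨O, hO4, hOu, hO⟩ := exists_half_of_isPGroup P.isPGroup' h6
    replace hO := hO.resolve_right fun ⟨x, hx⟩ =>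
      hmv x (by simpa using hx _ (hE (swap_mem_baseSub ht x)))
    have htO : ∀ x ∈ O, t x ∈ O := by
      intro x hx
      obtain ⟨z, -, hz⟩ := exists_moved_notMem hfix {x, t x}
        (by have := Finset.card_le_two (a := x) (b := t x); omega)
      simp only [Finset.mem_insert, Finset.mem_singleton, not_or] at hz
      rcases hO (hE (swap_mem_baseSub ht x)) with h | h
      · simpa using (h x).2 hx
      · have := h z
        rw [swap_apply_of_ne_of_ne hz.1 hz.2] at this
        tauto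
    obtain ⟨u, hu⟩ : O.Nonempty := Finset.card_pos.1 (by omega)
    obtain ⟨a, ha, ha'⟩ := Finset.exists_mem_notMem_of_card_lt_card (s := {u, t u}) (t := O)
      (by have := Finset.card_le_two (a := u) (b := t u); omega)
    simp only [Finset.mem_insert, Finset.mem_singleton, not_or] at ha'
    obtain ⟨x, hx⟩ : ∃ x, x ∉ O := by
      by_contra h
      push Not at h
      exact hOu (Finset.eq_univ_iff_forall.2 h)
    have hne : ∀ {x y}, x ∉ O → y ∈ O → x ≠ y := fun h h' e => h (e ▸ h')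
    refine ⟨Subgroup.centralizer {t}, halfSub O,
      fun g hg => Subgroup.mem_centralizer_singleton_iff.2 (hP g hg), hO, fun h => ?_, fun h => ?_,
      fun M h1 h2 => ?_⟩
    · have h1 := DFunLike.congr_fun
        (Subgroup.mem_centralizer_singleton_iff.1 (h (sign_c3 ha'.1 (hmv u).symm))) u
      rw [Perm.mul_apply, Perm.mul_apply, c3_apply_thd, c3_apply_snd ha'.2 (hmv u).symm, hinv] at h1
      exact ha'.1 h1
    · rcases h (sign_c3 (hne hx hu) (hmv u).symm) with h1 | h1
      · have := (h1 (t u)).2 (htO u hu)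
        rw [c3_apply_thd] at this
        exact hx this
      · have := h1 a
        rw [c3_apply_of_ne (hne hx ha).symm ha'.1 ha'.2] at this
        tauto
    · have hA : altOn O ≤ M := fun g hg => h2 ⟨symOn_le_halfSub O hg.1, hg.2⟩
      rw [← altOn_univ]
      refine altOn_le_of_c3 (hmv u).symm fun b _ hb1 hb2 => ?_
      by_cases hb : b ∈ O
      · exact hA (c3_mem_altOn hb hu (htO u hu) hb1 (hmv u).symm)
      have htb : t b ∉ O := fun h => hb (hinv b ▸ htO _ h)
      have hab := (hne hb ha).symm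
      have hd : swap a b * swap (t a) (t b) ∈ M := by
        refine h1 ⟨Subgroup.mem_centralizer_singleton_iff.2 ?_,
          sign_swap_mul_swap hab (t.injective.ne hab)⟩
        have e1 : t * swap a b * t⁻¹ = swap (t a) (t b) := (swap_apply_apply _ _ _).symm
        have e2 : t * swap (t a) (t b) * t⁻¹ = swap a b := by rw [← swap_apply_apply, hinv, hinv]
        have e3 : swap a b * swap (t a) (t b) * (swap a b)⁻¹ = swap (t a) (t b) := by
          rw [← swap_apply_apply, swap_apply_of_ne_of_ne (hmv a) (hne hb (htO a ha)).symm,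
            swap_apply_of_ne_of_ne (hne htb ha) (hmv b)]
        symm
        rw [← mul_inv_eq_iff_eq_mul]
        calc t * (swap a b * swap (t a) (t b)) * t⁻¹
            = t * swap a b * t⁻¹ * (t * swap (t a) (t b) * t⁻¹) := by group
          _ = _ := by rw [e1, e2]; exact (mul_inv_eq_iff_eq_mul.1 e3).symm
      have h3 := M.mul_mem (M.mul_mem hd (hA (c3_mem_altOn ha hu (htO u hu) ha'.1 (hmv u).symm)))
        (M.inv_mem hd)
      rw [c3_conj] at h3
      simp only [Perm.mul_apply] at h3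
      rwa [swap_apply_of_ne_of_ne (hmv a).symm (hne htb ha).symm, swap_apply_left,
        swap_apply_of_ne_of_ne (fun h => ha'.2 (by rw [h, hinv])) (hne htb hu).symm,
        swap_apply_of_ne_of_ne (Ne.symm ha'.1) (Ne.symm hb1),
        swap_apply_of_ne_of_ne (t.injective.ne (Ne.symm ha'.1)) (t.injective.ne (Ne.symm hb1)),
        swap_apply_of_ne_of_ne (Ne.symm ha'.2) (Ne.symm hb2)] at h3
  · obtain ⟨o, hto⟩ := (matching_fixed_iff_odd ht hfix).2 hod
    have ho : ∀ g ∈ (P : Subgroup (Perm Ω)), g o = o := fun g hg =>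
      hfix _ _ (by rw [← Perm.mul_apply, ← (hP g hg).eq, Perm.mul_apply, hto]) hto
    obtain ⟨y, hy, -⟩ := exists_moved_notMem hfix ∅ (by simp; omega)
    obtain ⟨O, hO, ⟨k, hk'⟩, hO'⟩ := exists_orbit_finset P.isPGroup' y
    have hyO : y ∈ O := (hO y).2 ⟨1, Subgroup.one_mem _, rfl⟩
    have htyO : t y ∈ O := (hO _).2 ⟨_, hE (swap_mem_baseSub ht y), by simp⟩
    have hyo : y ≠ o := fun h => hy (h ▸ hto)
    have hoO : o ∉ O := fun h => by
      obtain ⟨g, hg, e⟩ := (hO o).1 h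
      exact hyo (g.injective (e.trans (ho g hg).symm))
    obtain ⟨z, hz⟩ : ∃ z, z ∉ insert o O := by
      by_contra h
      push Not at h
      have h1 := congrArg Finset.card (Finset.eq_univ_iff_forall.2 h)
      rw [Finset.card_insert_of_notMem hoO, Finset.card_univ, hk'] at h1
      refine hk k ?_ h1.symm
      by_contra h2
      have : 2 ^ k ≤ 2 ^ 1 := Nat.pow_le_pow_right (by norm_num) (by omega)
      omega
    simp only [Finset.mem_insert, not_or] at hz
    have hne : ∀ {x y}, x ∉ O → y ∈ O → x ≠ y := fun h h' e => h (e ▸ h')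
    refine ⟨symOn (Finset.univ.erase o), halfSub O, fun g hg x hx => ?_,
      fun g hg => Or.inl (hO' g hg), fun h => ?_, fun h => ?_, fun M h1 h2 => ?_⟩
    · obtain rfl : x = o := by simpa using hx
      exact ho g hg
    · have := h (sign_c3 hyo.symm hy.symm) o (by simp)
      rw [c3_apply_fst hyo.symm (hne hoO htyO)] at this
      exact hyo this
    · rcases h (sign_c3 hyo (Ne.symm hz.1)) with h1 | h1
      · have := (h1 y).2 hyO
        rw [c3_apply_fst hyo (hne hz.2 hyO).symm] at this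
        exact hoO this
      · have := h1 (t y)
        rw [c3_apply_of_ne hy (hne hoO htyO).symm (hne hz.2 htyO).symm] at this
        tauto
    · have hm : swap o z * swap y (t y) ∈ M := by
        refine h2 ⟨(halfSub O).mul_mem (Or.inl fun x => ?_)
          (symOn_le_halfSub O (swap_mem_symOn hyO htyO)), sign_swap_mul_swap (Ne.symm hz.1) hy.symm⟩
        rw [swap_apply_def]
        split_ifs with e1 e2
        · rw [e1]; exact iff_of_false hz.2 hoO
        · rw [e2]; exact iff_of_false hoO hz.2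
        · rfl
      have hA : altOn (Finset.univ.erase o) ≤ M := h1
      have hmem : ∀ {x}, x ≠ o → x ∈ Finset.univ.erase o := fun h => by simpa using h
      have htyo := (hne hoO htyO).symm
      rw [← altOn_univ]
      refine altOn_le_of_c3 hy.symm fun b _ hb1 hb2 => ?_
      by_cases hb : b = o
      · have h3 := M.mul_mem (M.mul_mem hm (hA (c3_mem_altOn (hmem hz.1) (hmem htyo) (hmem hyo)
          (hne hz.2 htyO) hy))) (M.inv_mem hm)
        rw [c3_conj] at h3
        simp only [Perm.mul_apply] at h3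
        rwa [swap_apply_of_ne_of_ne (hne hz.2 hyO) (hne hz.2 htyO), swap_apply_right,
          swap_apply_right, swap_apply_left, swap_apply_of_ne_of_ne hyo (hne hz.2 hyO).symm,
          swap_apply_of_ne_of_ne htyo (hne hz.2 htyO).symm, ← hb] at h3
      · exact hA (c3_mem_altOn (hmem hb) (hmem hyo) (hmem htyo) hb1 hy.symm)

theorem existsUnique_coatom_iff {Γ : Type*} [Group Γ] (ι : Γ →* Perm Ω)
    (hι : Function.Injective ι) (halt : alternatingGroup Ω ≤ ι.range) (hn : 5 ≤ Fintype.card Ω)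
    (R : Sylow 2 Γ) : (∃! M : Subgroup Γ, IsCoatom M ∧ (R : Subgroup Γ) ≤ M) ↔
      ∃ k : ℕ, 2 ≤ k ∧ Fintype.card Ω = 2 ^ k + 1 := by
  have : Finite Γ := Finite.of_injective _ hι
  obtain ⟨P, hP⟩ := exists_sylow_comap_eq ι hι R
  have hRM : ∀ M : Subgroup Γ, (R : Subgroup Γ) ≤ M →
      (P : Subgroup (Perm Ω)) ⊓ alternatingGroup Ω ≤ M.map ι := by
    intro M hM g hg
    obtain ⟨γ, rfl⟩ := halt hg.2
    exact ⟨γ, hM (hP ▸ hg.1), rfl⟩
  have htop : ∀ M : Subgroup Γ, (R : Subgroup Γ) ≤ M → alternatingGroup Ω ≤ M.map ι → M = ⊤ := by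
    intro M hM h
    obtain ⟨t, ht, hfix, hE, -⟩ := exists_matching P
    obtain ⟨a, ha, -⟩ := exists_moved_notMem hfix ∅ (by simp; omega)
    rw [eq_top_iff]
    intro γ _
    rcases Int.units_eq_one_or (sign (ι γ)) with h1 | h1
    · exact (Subgroup.mem_map_iff_mem hι).1 (h h1)
    · have h2 : ι γ * swap a (t a) ∈ alternatingGroup Ω := by
        change sign _ = 1
        rw [map_mul, h1, sign_swap ha.symm]; rfl
      obtain ⟨δ, hδ, e⟩ := h h2
      have h3 : δ⁻¹ * γ ∈ (R : Subgroup Γ) := by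
        rw [← hP, Subgroup.mem_comap, map_mul, map_inv, e]
        simpa using hE (swap_mem_baseSub ht a)
      simpa using M.mul_mem hδ (hM h3)
  have hprop : ∀ H : Subgroup (Perm Ω), ¬ alternatingGroup Ω ≤ H → H.comap ι ≠ ⊤ := by
    intro H hH h
    refine hH fun g hg => ?_
    obtain ⟨γ, rfl⟩ := halt hg
    exact (h ▸ Subgroup.mem_top γ : γ ∈ H.comap ι)
  constructor
  · rintro ⟨M, ⟨hM, hRM'⟩, huniq⟩
    by_contra hk
    push Not at hk
    obtain ⟨H₁, H₂, h1, h2, h3, h4, h5⟩ := exists_two_overgroups hn hk P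
    have hle : ∀ H : Subgroup (Perm Ω), (P : Subgroup (Perm Ω)) ≤ H → ¬ alternatingGroup Ω ≤ H →
        H ⊓ alternatingGroup Ω ≤ M.map ι := by
      intro H a1 a2 g hg
      obtain ⟨M', hM', hle⟩ := (eq_top_or_exists_le_coatom _).resolve_left (hprop H a2)
      obtain ⟨γ, rfl⟩ := halt hg.2
      rw [← huniq M' ⟨hM', (hP ▸ Subgroup.comap_mono a1).trans hle⟩]
      exact ⟨γ, hle hg.1, rfl⟩
    exact hM.1 (htop M hRM' (h5 _ (hle _ h1 h3) (hle _ h2 h4)))
  · rintro ⟨k, hk, hn'⟩
    obtain ⟨o, ho, -, hM⟩ := alt_le_of_two_pow_add_one hk hn' P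
    have hK : (MulAction.stabilizer (Perm Ω) o).comap ι ≠ ⊤ := by
      refine hprop _ fun h => ?_
      obtain ⟨a, ha, b, hb, hab⟩ := Finset.one_lt_card.1
        (show 1 < (Finset.univ.erase o).card by simp; omega)
      simp only [Finset.mem_erase, Finset.mem_univ, and_true] at ha hb
      have : c3 o a b o = o := h (sign_c3 (Ne.symm ha) hab)
      rw [c3_apply_fst (Ne.symm ha) (Ne.symm hb)] at this
      exact ha this
    have hR : (R : Subgroup Γ) ≤ (MulAction.stabilizer (Perm Ω) o).comap ι :=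
      hP ▸ Subgroup.comap_mono ho
    have hle : ∀ M : Subgroup Γ, M ≠ ⊤ → (R : Subgroup Γ) ≤ M →
        M ≤ (MulAction.stabilizer (Perm Ω) o).comap ι := fun M h1 h2 γ hγ =>
      (hM _ (hRM M h2)).resolve_right (fun h => h1 (htop M h2 h)) _ ⟨γ, hγ, rfl⟩
    refine ⟨_, ⟨⟨hK, fun M hlt => ?_⟩, hR⟩, fun M hM' => ?_⟩
    · by_contra h
      exact hlt.not_ge (hle M h (hR.trans hlt.le))
    · exact hM'.1.le_iff_eq hK |>.1 (hle M hM'.1.1 hM'.2) |>.symm

end Cfsg.Agent.H78
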