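import Cfsg.Agent.H46.SSz

/-! Lines in the Suzuki group: automorphisms centralising the centraliser of a four-group. -/

set_option autoImplicit false
set_option maxRecDepth 200000

namespace Cfsg.Agent.H78.SzLc

open Subgroup Cfsg.Agent.H44 Cfsg.Agent.H59 Cfsg.Agent.H59.Sz Cfsg.Agent.H46.S95
open Cfsg.Agent.H43 hiding allL allL_iff anyL anyL_iff
open Cfsg.Agent.H46.S95.Sz (sz HFS LCS)
open scoped commutatorElement

/-- one more letter is fixed after an inner correction -/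
theorem step {G : Type*} [Group G] {M : MD} {ι : G →* Equiv.Perm (Fin M.n)} {g : ℕ → G}
    (h : M.Ok ι g) {K : Subgroup G} {W : List (List ℕ)} (hW : ∀ ξ ∈ K, ∃ w ∈ W, ξ = ev g w)
    (α : MulAut G) {l : List ℕ} {j : ℕ} (hyps : List (List ℕ × List ℕ)) (U : List (List ℕ))
    (hl : ∀ x ∈ l, α (g x) = g x) (hj : α (g j) ∈ K)
    (h1 : ∀ p ∈ hyps, ∀ x ∈ p.1 ++ p.2, x = 0 ∨ x ∈ l)
    (h2 : M.eqsB (hyps.map fun p => (sub [j] p.1, sub [j] p.2)) = true)
    (h3 : M.allB W hyps (U.map fun u => [(0 :: u, u ++ [j])]) = true)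
    (h4 : ∀ u ∈ U, 0 ∉ u ++ [j])
    (h5 : M.eqsB (U.flatMap fun u => l.map fun x => (x :: u, u ++ [x])) = true) :
    ∃ u ∈ U, ∀ x ∈ j :: l, (MulAut.conj (ev g u)⁻¹ * α) (g x) = g x := by
  have k : ∀ w : List ℕ, (∀ x ∈ w, x = 0 ∨ x ∈ l) →
      ev (ux g (α (g j))) w = α (ev g (sub [j] w)) := fun w hw => by
    rw [ev_sub, ev_single]
    refine (ev_congr fun x hx => ?_).trans (map_ev α.toMonoidHom _ w).symm
    unfold ux
    split_ifs with e
    exacts [rfl, (hl x ((hw x hx).resolve_left e)).symm]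
  obtain ⟨_, hc, e⟩ := h.allE hW h3 _ hj fun p hp => by
    rw [k _ fun x hx => h1 p hp x (List.mem_append_left _ hx),
      k _ fun x hx => h1 p hp x (List.mem_append_right _ hx),
      h.eqs h2 _ (List.mem_map_of_mem (f := fun p => (sub [j] p.1, sub [j] p.2)) hp)]
  obtain ⟨u, hu, rfl⟩ := List.mem_map.1 hc
  have k' : ∀ w : List ℕ, 0 ∉ w → ev (ux g (α (g j))) w = ev g w := fun w hw =>
    ev_congr fun x hx => if_neg fun (e : x = 0) => hw (e ▸ hx)
  have e1 : ev _ (0 :: u) = ev _ (u ++ [j]) := e _ (List.mem_singleton_self _)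
  rw [ev_cons, k' _ (h4 u hu), k' u fun h => h4 u hu (List.mem_append_left _ h), ev_append,
    ev_single, show ux g (α (g j)) 0 = α (g j) from rfl] at e1
  refine ⟨u, hu, fun x hx => ?_⟩
  rw [MulAut.mul_apply, MulAut.conj_apply, inv_inv, mul_assoc, inv_mul_eq_iff_eq_mul]
  rcases List.mem_cons.1 hx with rfl | hx
  · exact e1
  · have e2 : ev g (x :: u) = ev g (u ++ [x]) :=
      h.eqs h5 (_, _) (List.mem_flatMap.2 ⟨u, hu, List.mem_map_of_mem hx⟩)
    rw [hl x hx, ← ev_cons, e2, ev_append, ev_single]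

/-- the model -/
abbrev S : Type := H46.S95.Sz.Γ

/-- the inclusion of the centraliser -/
noncomputable def inc : Hs →* S := inclusion (show Hs ≤ grp 1782 SuzM.E from inf_le_left)

theorem okz : D.Ok (grp 1782 SuzM.E).subtype sz :=
  ⟨h_hn, EH_ok, det4.mono EH_le, subtype_injective _, fun _ => rfl⟩

theorem sz1 : β 1 = sz 1 := Subtype.ext ((by rw [val 1]; rfl : _ = _).trans nu1.symm)

theorem rng (ξ : S) (h : ξ * sz 1 = sz 1 * ξ) : ξ ∈ inc.range :=
  ⟨⟨ξ.1, ξ.2, mem_centralizer_singleton_iff.2 (nu1 ▸ congrArg Subtype.val h)⟩, rfl⟩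

theorem inj : Function.Injective inc := inclusion_injective _

theorem cz (x : ℕ) : sz x * sz 1 = sz 1 * sz x :=
  (map_mul inc (ν x) (ν 1)).symm.trans ((congrArg inc (cen (ν x))).trans (map_mul inc _ _))

theorem mapQ : (wgen ν SQ).map inc = wgen sz SQ := map_wgen inc ν SQ

theorem nQ {ξ q : S} (h : ξ * sz 1 = sz 1 * ξ) (hq : q ∈ wgen sz SQ) :
    ξ⁻¹ * q * ξ ∈ wgen sz SQ := by
  obtain ⟨η, rfl⟩ := rng ξ h
  rw [← mapQ] at hq ⊢
  obtain ⟨q, hq, rfl⟩ := hq
  exact ⟨η⁻¹ * q * η⁻¹⁻¹, H49.conj_mem_of_mem_normalizer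
    (sh.nz (mem_centralizer_singleton_iff.2 (cen _))) hq, by simp⟩

theorem cQ {ξ : S} (h : ∀ q ∈ wgen sz SQ, ξ * q = q * ξ) : ξ = 1 ∨ ξ = sz 1 := by
  obtain ⟨η, rfl⟩ := rng ξ (h _ (ev_single sz 1 ▸ mem_wgen sz [1] (by decide)))
  refine (cent_Q (x := η) fun y hy => inj ?_).imp (fun e => by rw [e, map_one]) (congrArg inc)
  rw [map_mul, map_mul]
  exact h _ (mapQ ▸ mem_map_of_mem inc hy)

theorem covQ : ∀ ξ ∈ wgen sz SQ, ∃ w ∈ WQ.map Prod.fst, ξ = ev sz w :=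
  okz.cover (by decide +kernel) (by decide +kernel) (by
    rw [← mapQ, card_map_of_injective inj, card_Q]; decide +kernel)

/-- an automorphism trivial on the extraspecial group is trivial on its normaliser -/
theorem fixL (hp : ⁅Cz (sz 1), Cz (sz 1)⁆ = Cz (sz 1)) (α : MulAut S)
    (h : ∀ x ∈ [5, 4, 1, 2, 3, 20, 21], α (sz x) = sz x) : ∀ l ∈ Cz (sz 1), α l = l := by
  have h1 : wgen sz SQ ≤ α.toMonoidHom.eqLocus (MonoidHom.id S) := wgen_le.2 fun s hs => by
    have k : ∀ s ∈ SQ, ∃ x ∈ [5, 4, 1, 2, 3, 20, 21], s = [x] := by decide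
    obtain ⟨x, hx, rfl⟩ := k s hs
    rw [ev_single]; exact h x hx
  have h2 : ∀ a ∈ Cz (sz 1), ∃ e, α a = e * a ∧ ∀ b ∈ Cz (sz 1), e * b = b * e := fun a ha => by
    refine ⟨α a * a⁻¹, by simp, fun b hb => ?_⟩
    rcases cQ (ξ := α a * a⁻¹) fun q hq => (by
      have e1 : α (a⁻¹ * q * a) = a⁻¹ * q * a := h1 (nQ (mem_centralizer_singleton_iff.1 ha) hq)
      rw [map_mul, map_mul, map_inv, show α q = q from h1 hq] at e1
      calc α a * a⁻¹ * q = α a * (a⁻¹ * q * a) * a⁻¹ := by group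
        _ = _ := by rw [← e1]; group) with e | e <;> rw [e]
    exacts [by simp, (mem_centralizer_singleton_iff.1 hb).symm]
  intro l hl
  rw [← hp] at hl
  refine (commutator_le (H₃ := α.toMonoidHom.eqLocus (MonoidHom.id S))).2 (fun a ha b hb => ?_) hl
  obtain ⟨e, e1, e2⟩ := h2 a ha
  obtain ⟨f, f1, f2⟩ := h2 b hb
  change α ⁅a, b⁆ = ⁅a, b⁆
  rw [map_commutatorElement, e1, f1, commutatorElement_def, commutatorElement_def]
  have m : f * b ∈ Cz (sz 1) := f1 ▸ mem_centralizer_singleton_iff.2 (by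
    rw [← h 1 (by simp), ← map_mul, ← map_mul, mem_centralizer_singleton_iff.1 hb])
  calc e * a * (f * b) * (e * a)⁻¹ * (f * b)⁻¹
      = e * (a * (f * b) * a⁻¹) * e⁻¹ * (f * b)⁻¹ := by group
    _ = a * (f * b) * a⁻¹ * (f * b)⁻¹ := by
      rw [e2 _ (mul_mem (mul_mem ha m) (inv_mem ha)), mul_inv_cancel_right]
    _ = a * f * (b * a⁻¹ * b⁻¹) * f⁻¹ := by group
    _ = _ := by
      rw [← f2 a ha, mul_assoc f, f2 _ (mul_mem ha (mul_mem (mul_mem hb (inv_mem ha)) (inv_mem hb)))]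
      group

theorem imQ (α : MulAut S) (h1 : α (sz 1) = sz 1) (h2 : α (sz 2) = sz 2) (j : ℕ) (w : List ℕ)
    (e : D.eqW (w ++ [j]) (2 :: w) = true) : α (sz j) ∈ wgen sz SQ := by
  have e1 := okz.eq e
  rw [ev_append, ev_single, ev_cons, ← eq_inv_mul_iff_mul_eq, ← mul_assoc] at e1
  rw [e1, map_mul, map_mul, map_inv, h2]
  refine nQ ?_ (ev_single sz 2 ▸ mem_wgen sz [2] (by decide))
  rw [← h1, ← map_mul, ← map_mul, mem_centralizer_singleton_iff.1
    (ev_mem (K := Cz (sz 1)) fun x _ => mem_centralizer_singleton_iff.2 (cz x))]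

/-- an automorphism fixing five letters is induced by the elementary group of order 16 -/
theorem fix5 (hp : ⁅Cz (sz 1), Cz (sz 1)⁆ = Cz (sz 1))
    (hc : ∀ α : MulAut S, (∀ l ∈ Cz (sz 1), α l = l) → ∃ c ∈ zpowers (sz 1), α = MulAut.conj c)
    (α : MulAut S) (h : ∀ x ∈ [1, 2, 3, 20, 21], α (sz x) = sz x) :
    ∃ u ∈ [[], [3], [10], [10, 3]], ∃ v ∈ [[], [2]], ∃ e ∈ [[], [1]],
      α = MulAut.conj (ev sz (u ++ v ++ e)) := by
  obtain ⟨u, hu, h1⟩ := step okz covQ α (j := 4)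
    [([0, 0], []), ([0, 2], [2, 0]), ([0, 20], [20, 0]), ([0, 21], [21, 0]), ([0, 3], [3, 0, 1])]
    [[], [3], [10], [10, 3]] h (imQ α (h 1 (by simp)) (h 2 (by simp)) 4 [26] (by decide +kernel))
    (by decide) (by decide +kernel) (by decide +kernel) (by decide) (by decide +kernel)
  obtain ⟨v, hv, h2⟩ := step okz covQ _ (j := 5)
    [([0, 0], []), ([0, 3], [3, 0]), ([0, 4], [4, 0]), ([0, 20], [20, 0]), ([0, 21], [21, 0]),
      ([0, 2], [2, 0, 1])] [[], [2]] h1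
    (imQ _ (h1 1 (by simp)) (h1 2 (by simp)) 5 [6, 26] (by decide +kernel))
    (by decide) (by decide +kernel) (by decide +kernel) (by decide) (by decide +kernel)
  obtain ⟨c, h3, h4⟩ := hc _ (fixL hp _ h2)
  obtain ⟨e, he, rfl⟩ : ∃ e ∈ [[], [1]], c = ev sz e := by
    rcases (H49.mem_zpowers_invol (by
      simpa [ev] using okz.eq (l := [1, 1]) (r := []) (by decide +kernel))).1 h3 with rfl | rfl
    exacts [⟨[], by simp, rfl⟩, ⟨[1], by simp, (ev_single sz 1).symm⟩]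
  refine ⟨u, hu, v, hv, e, he, ?_⟩
  rw [map_inv, map_inv, inv_mul_eq_iff_eq_mul, inv_mul_eq_iff_eq_mul] at h4
  rw [h4, ev_append, ev_append, map_mul, map_mul, mul_assoc]

/-- two more networks -/
noncomputable def E2 : List Net := SzT.s_g24 :: SzT.s_g26 :: EH

/-- letter codes -/
def code2 : List ℕ := [100, 4, 6, 8, 100, 12, 100, 15, 0, 2, 18]

theorem E2_le : grp 1782 E2 ≤ grp 1782 SuzM.E :=
  grp_cons_le (SzO.EG_le (toPerm_mem_grp (by simp [SzO.EG])))
    (grp_cons_le (SzO.EG_le (toPerm_mem_grp (by simp [SzO.EG]))) EH_le)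

/-- letters outside the centraliser -/
noncomputable def μ (x : ℕ) : S := ⟨gp 1782 E2 code2 x, E2_le (gp_mem _ _ _ _)⟩

/-- the data of the larger alphabet -/
noncomputable abbrev D2 : MD := ⟨1782, 4, L4, P1, E2, code2⟩

theorem ok2 : D2.Ok (grp 1782 SuzM.E).subtype μ :=
  ⟨h_hn, okE_cons.2 ⟨SzT.s_g24_ok, okE_cons.2 ⟨SzT.s_g26_ok, EH_ok⟩⟩, det4.mono E2_le,
    subtype_injective _, fun _ => rfl⟩

theorem μ_eq : ∀ x ∈ [1, 2, 3, 10], μ x = sz x := by
  intro x hx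
  refine Subtype.ext (?_ : gp 1782 E2 code2 x = gp 1782 EH code x)
  simp only [List.mem_cons, List.not_mem_nil, or_false] at hx
  unfold gp letterG
  rcases hx with rfl | rfl | rfl | rfl <;>
    rw [if_pos (by decide +kernel), if_pos (by decide +kernel)] <;> rfl

theorem eqs : Eqs sz [([1, 1], []), ([1, 2], [2, 1]), ([2, 3], [3, 2]), ([3, 3], []),
    ([4, 5, 2], [2, 1, 4, 5]), ([4, 5, 3], [3, 1, 4, 5]), ([5, 7, 2], [3, 5, 7]),
    ([5, 7, 3], [2, 3, 5, 7]), ([16, 2], [2, 16]), ([18, 2], [2, 18]), ([20, 2], [2, 20]),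
    ([21, 2], [2, 21]), ([20, 3], [3, 20]), ([21, 3], [3, 21]), ([1, 3], [3, 1])] :=
  okz.eqs (by decide +kernel)

theorem lcS (H : HFS) : LCS := by
  obtain ⟨y, x, hy, -, h⟩ := H
  have hp := h.perf
  have hc := h.cL
  have hP := h.cP
  have hs := (h.s3 1).2.2.2.2.1
  rw [MulAut.one_apply] at hs
  rw [hy] at hP hs
  unfold LCS
  rw [sz1] at hp hc hP hs ⊢
  have E := eqs
  simp only [eqs_cons, eqs_nil, ev_cons, ev_nil, mul_one, and_true] at E
  obtain ⟨e1, e2, e3, e4, e5, e6, e7, e8, e9, e10, e11, e12, e13, e14, e15⟩ := E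
  have c1 : ∀ a b, sz a * sz b * sz 1 * (sz a * sz b)⁻¹ = sz 1 := fun a b => by
    rw [mul_assoc (sz a), cz b, ← mul_assoc, cz a, mul_assoc (sz 1), mul_inv_cancel_right]
  refine ⟨e1, by simpa [ev] using okz.ne (l := [1]) (r := []) (by decide +kernel), e2, e3,
    by simpa [ev] using okz.ne (l := [2]) (r := [1]) (by decide +kernel),
    by simpa [ev] using okz.ne (l := [2, 3]) (r := []) (by decide +kernel),
    by simpa [ev] using okz.ne (l := [2, 3]) (r := [1]) (by decide +kernel), hs,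
    ⟨sz 4 * sz 5, c1 4 5, by rw [mul_assoc (sz 4), e5]; group, by rw [mul_assoc (sz 4), e6]; group⟩,
    ⟨sz 5 * sz 7, c1 5 7, by rw [mul_assoc (sz 5), e7]; group, by rw [mul_assoc (sz 5), e8]; group⟩,
    fun α hα => ?_, fun α hα => ?_⟩
  · obtain ⟨c, rfl⟩ := hP α fun l hl => hα l (mem_centralizer_singleton_iff.1 hl)
    refine ⟨c, ?_, rfl⟩
    have m1 : sz 1 ∈ closure {sz 1, sz 2} := subset_closure (by simp)
    have m2 : sz 2 ∈ closure {sz 1, sz 2} := subset_closure (by simp)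
    obtain ⟨d, hd, e⟩ := AllC.map allV (θ := inc) inj (a := 1) (by simp) rng c
      (fun x hx => mul_inv_eq_iff_eq_mul.1 (hα (sz x) (cz x) (by
        simp only [List.mem_cons, List.not_mem_nil, or_false] at hx
        rcases hx with rfl | rfl | rfl | rfl
        exacts [e2, rfl, e9, e10]))) ((eqs_nil _).2 trivial)
    simp only [List.mem_cons, List.not_mem_nil, or_false] at hd
    rcases hd with rfl | rfl | rfl | rfl <;>
      simp only [eqs_cons, eqs_nil, ev_cons, ev_nil, mul_one, and_true] at e <;>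
      rw [show c = _ from e]
    exacts [one_mem _, m1, m2, mul_mem m1 m2]
  · obtain ⟨u, hu, v, hv, e, he, rfl⟩ := fix5 hp hc α fun x hx => by
      simp only [List.mem_cons, List.not_mem_nil, or_false] at hx
      rcases hx with rfl | rfl | rfl | rfl | rfl
      exacts [hα _ e2 e15, hα _ rfl e3, hα _ e3.symm rfl, hα _ e11 e13, hα _ e12 e14]
    refine ⟨_, ?_, rfl⟩
    have k : ∀ u ∈ [[], [3], [10], [10, 3]], ∀ v ∈ [[], [2]], ∀ e ∈ [[], [1]],
        (∀ x ∈ u ++ v ++ e, x ∈ [1, 2, 3, 10]) ∧ ((∀ x ∈ u ++ v ++ e, x ∈ [2, 3, 1]) ∨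
          D2.neW (u ++ v ++ e ++ [8, 5, 7, 9]) ([8, 5, 7, 9] ++ (u ++ v ++ e)) = true) := by
      decide +kernel
    obtain ⟨k1, k2 | k2⟩ := k u hu v hv e he
    · refine ev_mem fun x hx => subset_closure ?_
      have := k2 x hx
      simp only [List.mem_cons, List.not_mem_nil, or_false] at this
      rcases this with rfl | rfl | rfl <;> simp
    · refine absurd ?_ (ok2.ne k2)
      rw [ev_append, ev_append _ [8, 5, 7, 9], ev_congr fun x hx => μ_eq x (k1 x hx)]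
      have t : ∀ j ∈ [2, 3], ev μ [8, 5, 7, 9] * sz j = sz j * ev μ [8, 5, 7, 9] := fun j hj => by
        have k3 : ∀ j ∈ [2, 3], j ∈ [1, 2, 3, 10] ∧
          D2.eqW ([8, 5, 7, 9] ++ [j]) (j :: [8, 5, 7, 9]) = true := by decide +kernel
        rw [← μ_eq j (k3 j hj).1, ← ev_cons, ← ok2.eq (k3 j hj).2, ev_append, ev_single]
      exact mul_inv_eq_iff_eq_mul.1 (hα _ (t 2 (by simp)) (t 3 (by simp)))

end Cfsg.Agent.H78.SzLc
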